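import Cfsg.Agent.Lib.JThree.Check.Part0
import Cfsg.Agent.Lib.JThree.Check.Part1
import Cfsg.Agent.Lib.JThree.Check.Part2
import Cfsg.Agent.Lib.JThree.Check.Part3
import Cfsg.Agent.Lib.JThree.Check.Part4
import Cfsg.Agent.Lib.JThree.Check.Part5
import Cfsg.Agent.Lib.JThree.Check.Part6
import Cfsg.Agent.Lib.JThree.Check.Part7
import Cfsg.Agent.Lib.JThree.Check.Part8
import Cfsg.Agent.Lib.JThree.Check.Part9
import Cfsg.Agent.Lib.JThree.Check.Part10
import Cfsg.Agent.Lib.JThree.Check.Part11
import Cfsg.Agent.Lib.JThree.Check.Part12
import Cfsg.Agent.Lib.JThree.Check.Part13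
import Cfsg.Agent.Lib.JThree.Check.Part14
import Cfsg.Agent.Lib.JThree.Check.Part15
import Cfsg.Agent.Lib.JThree.Check.Part16
import Cfsg.Agent.Lib.JThree.Check.Part17
import Cfsg.Agent.Lib.JThree.Check.Part18
import Cfsg.Agent.Lib.JThree.Check.Part19
import Cfsg.Agent.Lib.JThree.Check.Part20
import Cfsg.Agent.Lib.JThree.Check.Part21
import Cfsg.Agent.Lib.JThree.Check.Part22
import Cfsg.Agent.Lib.JThree.Check.Part23

/-! The search succeeds on the whole table. -/

set_option autoImplicit false

namespace CfsgLib.JThree

theorem all_app {α : Type*} {p : α → Bool} {l l' : List α} (h : l.all p = true) (h' : l'.all p = true) :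
    (l ++ l').all p = true := by
  rw [List.all_append, h, h', Bool.and_self]

theorem table_checked : ∀ e ∈ table, searchT e = true := fun e he =>
  List.all_eq_true.1 (show table.all searchT = true from (all_app (all_app (all_app (all_app (all_app (all_app (all_app (all_app (all_app (all_app (all_app (all_app (all_app (all_app (all_app (all_app (all_app (all_app (all_app (all_app (all_app (all_app (all_app check0 check1) check2) check3) check4) check5) check6) check7) check8) check9) check10) check11) check12) check13) check14) check15) check16) check17) check18) check19) check20) check21) check22) check23)) e he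

end CfsgLib.JThree
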