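import Cfsg.Agent.Lib.JThree.ModelPower

/-!
A group with an isomorphism to the model, given by codes: inverses, classes and sums over classes.
-/

set_option autoImplicit false
set_option maxRecDepth 100000

namespace CfsgLib.JThree

open Model

/-- An isomorphism with the model. -/
structure Coded (C : Type*) [Group C] where
  code : C → ℕ
  lt : ∀ x, code x < 1920
  inj : Function.Injective code
  surj : ∀ n < 1920, ∃ x, code x = n
  mul : ∀ x y, code (x * y) = mulC (code x) (code y)

theorem beq_false_iff {a b : ℕ} : Nat.beq a b = false ↔ a ≠ b :=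
  ⟨fun h e => by rw [e, Nat.beq_refl] at h; exact absurd h (by decide),
    fun h => by
      cases hx : Nat.beq a b
      · rfl
      · exact absurd (Nat.eq_of_beq_eq_true hx) h⟩

namespace Coded

variable {C : Type*} [Group C] (e : Coded C)

theorem code_one : e.code 1 = 0 := by
  obtain ⟨u, hu⟩ := e.surj 0 (by norm_num)
  have h : u * u = u := e.inj (by rw [e.mul, hu]; decide +kernel)
  rw [mul_eq_left] at h
  rw [← h, hu]

theorem code_eq_zero {x : C} : e.code x = 0 ↔ x = 1 :=
  ⟨fun h => e.inj (h.trans e.code_one.symm), fun h => h ▸ e.code_one⟩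

theorem code_inv (x : C) : e.code x⁻¹ = invC (e.code x) := by
  have h := allBelow_spec inv_ok _ (e.lt x)
  simp only [Bool.and_eq_true, Nat.blt_eq] at h
  obtain ⟨y, hy⟩ := e.surj _ h.1
  have hxy : x * y = 1 := e.code_eq_zero.1 (by rw [e.mul, hy]; exact Nat.eq_of_beq_eq_true h.2)
  rw [inv_eq_of_mul_eq_one_right hxy, hy]

theorem code_conj (g x : C) : e.code (g * x * g⁻¹) = conjC (e.code g) (e.code x) := by
  rw [e.mul, e.mul, e.code_inv]; rfl

theorem code_pow (x : C) : ∀ n : ℕ, e.code (x ^ n) = powC (e.code x) n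
  | 0 => by rw [pow_zero, e.code_one]; rfl
  | n + 1 => by rw [pow_succ, e.mul, code_pow x n]; rfl

/-- The class of an element. -/
def cl (x : C) : ℕ := cls (e.code x)

theorem cl_lt (x : C) : e.cl x < 16 := Nat.le_of_ble_eq_true (allBelow_spec cls_lt _ (e.lt x))

theorem cl_conj (g x : C) : e.cl (g * x * g⁻¹) = e.cl x := by
  suffices h : ∀ m, ∀ g : C, tget depT 6 (e.code g) = m → ∀ x, e.cl (g * x * g⁻¹) = e.cl x from
    h _ g rfl x
  intro m
  induction m using Nat.strong_induction_on with
  | _ m ih =>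
    intro g hg x
    have h := allBelow_spec tree_ok _ (e.lt g)
    simp only [Bool.or_eq_true, Bool.and_eq_true, Nat.blt_eq] at h
    rcases h with h | ⟨⟨hp, hm⟩, hd⟩
    · rw [e.code_eq_zero.1 (Nat.eq_of_beq_eq_true h)]; simp
    obtain ⟨p, hp'⟩ := e.surj _ hp
    have hgen : gens.getD (tget gixT 1 (e.code g)) 0 ∈ gens := by
      have : tget gixT 1 (e.code g) < 2 := by unfold tget; omega
      interval_cases tget gixT 1 (e.code g) <;> simp [gens]
    generalize gens.getD (tget gixT 1 (e.code g)) 0 = s at hm hgen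
    obtain ⟨r, hr⟩ := e.surj s (by fin_cases hgen <;> norm_num)
    have hg' : g = p * r := e.inj (by rw [e.mul, hp', hr]; exact (Nat.eq_of_beq_eq_true hm).symm)
    have h1 := ih _ (hg ▸ hd) p (by rw [hp']) (r * x * r⁻¹)
    have h2 : e.cl (r * x * r⁻¹) = e.cl x := by
      have h := allBelow_spec cls_gens _ (e.lt x)
      rw [List.all_eq_true] at h
      have := Nat.eq_of_beq_eq_true (h s hgen)
      rw [← hr, ← e.code_conj] at this
      exact this
    rw [hg', show p * r * x * (p * r)⁻¹ = p * (r * x * r⁻¹) * p⁻¹ by group, h1, h2]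

/-- A representative of a class. -/
theorem exists_rep {i : ℕ} (hi : i < 16) : ∃ x, e.code x = rep i ∧ e.cl x = i := by
  have h := allBelow_spec rep_ok i hi
  simp only [Bool.and_eq_true, Nat.blt_eq] at h
  obtain ⟨x, hx⟩ := e.surj _ h.1
  exact ⟨x, hx, by rw [cl, hx]; exact Nat.eq_of_beq_eq_true h.2⟩

theorem isConj_of_cl {x y : C} (h : e.cl x = e.cl y) : IsConj x y := by
  obtain ⟨r, hr, -⟩ := e.exists_rep (e.cl_lt x)
  have key : ∀ u : C, e.cl u = e.cl x → IsConj r u := by
    intro u hu
    have h := allBelow_spec wit_ok _ (e.lt u)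
    simp only [Bool.and_eq_true, Nat.blt_eq] at h
    obtain ⟨w, hw⟩ := e.surj _ h.1
    refine isConj_iff.2 ⟨w, e.inj ?_⟩
    rw [e.code_conj, hw, hr, ← hu]
    exact Nat.eq_of_beq_eq_true h.2
  exact (key x rfl).symm.trans (key y h.symm)

theorem cl_one : e.cl 1 = 0 := by rw [cl, e.code_one]; exact cls_one.2

theorem eq_one_of_cl {x : C} (h : e.cl x = 0) : x = 1 := by
  have h' := allBelow_spec cls_zero _ (e.lt x)
  rw [cl] at h
  simp only [h, Bool.and_eq_true, Bool.or_eq_true] at h'
  rcases h'.1 with a | a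
  · simp at a
  · exact e.code_eq_zero.1 (Nat.eq_of_beq_eq_true a)

theorem code_eq_one_of_cl {x : C} (h : e.cl x = 1) : e.code x = 1 := by
  have h' := allBelow_spec cls_zero _ (e.lt x)
  rw [cl] at h
  simp only [h, Bool.and_eq_true, Bool.or_eq_true] at h'
  rcases h'.2 with a | a
  · simp at a
  · exact Nat.eq_of_beq_eq_true a

include e in
theorem card_eq : Nat.card C = 1920 := by
  rw [← Nat.card_fin 1920]
  exact Nat.card_eq_of_bijective (fun x => (⟨e.code x, e.lt x⟩ : Fin 1920))
    ⟨fun a b h => e.inj (congrArg Fin.val h), fun n => by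
      obtain ⟨x, hx⟩ := e.surj n n.2
      exact ⟨x, Fin.ext hx⟩⟩

variable [Fintype C]

theorem sum_code {M : Type*} [AddCommMonoid M] (f : ℕ → M) :
    ∑ x, f (e.code x) = ∑ n ∈ Finset.range 1920, f n :=
  Finset.sum_bij (fun x _ => e.code x) (fun x _ => Finset.mem_range.2 (e.lt x))
    (fun _ _ _ _ h => e.inj h) (fun n hn => by
      obtain ⟨x, hx⟩ := e.surj n (Finset.mem_range.1 hn)
      exact ⟨x, Finset.mem_univ _, hx⟩) fun _ _ => rfl

theorem card_filter_code (p : ℕ → Bool) :
    (Finset.univ.filter fun x : C => p (e.code x) = true).card = (List.range 1920).countP p := by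
  rw [Finset.card_filter, e.sum_code fun n => if p n = true then 1 else 0, ← Finset.card_filter,
    Finset.card_def, Finset.filter_val, Finset.range_val, Multiset.range, Multiset.filter_coe,
    Multiset.coe_card, List.countP_eq_length_filter]
  simp

theorem card_class {i : ℕ} (hi : i < 16) : (Finset.univ.filter fun x : C => e.cl x = i).card = sz i := by
  have h := allBelow_spec sz_ok i hi
  simp only [Bool.and_eq_true] at h
  rw [← Nat.eq_of_beq_eq_true h.1, ← e.card_filter_code]
  refine congrArg Finset.card (Finset.filter_congr fun x _ => ?_)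
  exact ⟨fun h => by rw [← h]; exact Nat.beq_refl _, fun h => Nat.eq_of_beq_eq_true h⟩

/-- Summing a function of the class. -/
theorem sum_cl {M : Type*} [AddCommMonoid M] (f : ℕ → M) :
    ∑ x, f (e.cl x) = ∑ i ∈ Finset.range 16, sz i • f i := by
  rw [← Finset.sum_fiberwise_of_maps_to (g := e.cl) (t := Finset.range 16)
    (fun x _ => Finset.mem_range.2 (e.cl_lt x))]
  refine Finset.sum_congr rfl fun i hi => ?_
  rw [Finset.sum_congr rfl fun x hx => by rw [(Finset.mem_filter.1 hx).2], Finset.sum_const,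
    e.card_class (Finset.mem_range.1 hi)]

/-- Summing a class function weighted by the classes. -/
theorem sum_wsum (f : ℕ → ℤ) (wsum : (ℕ → ℤ) → ℕ → ℤ)
    (h0 : wsum f 0 = 0) (hs : ∀ n, wsum f (n + 1) = (sz n : ℤ) * f n + wsum f n) :
    ∑ x, f (e.cl x) = wsum f 16 := by
  have key : ∀ n, ∑ i ∈ Finset.range n, sz i • f i = wsum f n := by
    intro n
    induction n with
    | zero => simp [h0]
    | succ n ih => rw [Finset.sum_range_succ, ih, hs, nsmul_eq_mul]; ring
  rw [e.sum_cl, key]

end Coded

end CfsgLib.JThree
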