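import Cfsg.Agent.Lib.JThree.PatCheck.Part0
import Cfsg.Agent.Lib.JThree.PatCheck.Part1
import Cfsg.Agent.Lib.JThree.PatCheck.Part2
import Cfsg.Agent.Lib.JThree.Checked

/-!
The constituents of the two exceptional functions determine the number of involutions.
-/

set_option autoImplicit false
set_option maxRecDepth 100000

namespace CfsgLib.JThree

theorem pattern_checked : ∀ x ∈ opts0, checkFrom x = true := by
  intro x hx
  obtain ⟨j, hj, rfl⟩ := List.getElem_of_mem hx
  have hlen : opts0.length = 30 := rfl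
  rw [hlen] at hj
  have key : ∀ {j} (h : j < opts0.length), ((opts0.drop j).take 1).all checkFrom = true →
      checkFrom opts0[j] = true := by
    intro j h hh
    refine List.all_eq_true.1 hh _ ?_
    rw [List.drop_eq_getElem_cons h, List.take_succ_cons]
    exact List.mem_cons_self
  interval_cases j
  · exact key _ pat0
  · exact key _ pat1
  · exact key _ pat2
  · exact key _ pat3
  · exact key _ pat4
  · exact key _ pat5
  · exact key _ pat6
  · exact key _ pat7
  · exact key _ pat8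
  · exact key _ pat9
  · exact key _ pat10
  · exact key _ pat11
  · exact key _ pat12
  · exact key _ pat13
  · exact key _ pat14
  · exact key _ pat15
  · exact key _ pat16
  · exact key _ pat17
  · exact key _ pat18
  · exact key _ pat19
  · exact key _ pat20
  · exact key _ pat21
  · exact key _ pat22
  · exact key _ pat23
  · exact key _ pat24
  · exact key _ pat25
  · exact key _ pat26
  · exact key _ pat27
  · exact key _ pat28
  · exact key _ pat29

theorem opts0_complete : ∀ s : Fin 5, ∀ a : Fin 5, ∀ c : Fin 5, ∀ b : Fin 5, s.val + a.val + b.val = 4 →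
    ∀ d : Fin 5, s.val + c.val + d.val = 6 →
    sqd s 2 + sqd a 2 + sqd b 2 + sqd c 2 + sqd d 2 ≤ 8 → (⟨s, a, b, c, d⟩ : Col) ∈ opts0 := by
  decide +kernel

theorem opts_mem0 (s a b c d : ℕ) (hb : s + a + b = 4) (hd : s + c + d = 6)
    (hn : sqd s 2 + sqd a 2 + sqd b 2 + sqd c 2 + sqd d 2 ≤ 8) (h0 : s < 5) (h1 : a < 5) (h2 : b < 5)
    (h3 : c < 5) (h4 : d < 5) : (⟨s, a, b, c, d⟩ : Col) ∈ opts0 :=
  opts0_complete ⟨s, h0⟩ ⟨a, h1⟩ ⟨c, h3⟩ ⟨b, h2⟩ hb ⟨d, h4⟩ hd hn

theorem opts1_complete : ∀ s : Fin 5, ∀ a : Fin 5, ∀ c : Fin 5, ∀ b : Fin 5, s.val + a.val + b.val = 5 →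
    ∀ d : Fin 5, s.val + c.val + d.val = 7 →
    sqd s 2 + sqd a 2 + sqd b 2 + sqd c 2 + sqd d 2 ≤ 4 → (⟨s, a, b, c, d⟩ : Col) ∈ opts1 := by
  decide +kernel

theorem opts_mem1 (s a b c d : ℕ) (hb : s + a + b = 5) (hd : s + c + d = 7)
    (hn : sqd s 2 + sqd a 2 + sqd b 2 + sqd c 2 + sqd d 2 ≤ 4) (h0 : s < 5) (h1 : a < 5) (h2 : b < 5)
    (h3 : c < 5) (h4 : d < 5) : (⟨s, a, b, c, d⟩ : Col) ∈ opts1 :=
  opts1_complete ⟨s, h0⟩ ⟨a, h1⟩ ⟨c, h3⟩ ⟨b, h2⟩ hb ⟨d, h4⟩ hd hn

theorem opts2_complete : ∀ s : Fin 5, ∀ a : Fin 5, ∀ c : Fin 5, ∀ b : Fin 5, s.val + a.val + b.val = 6 →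
    ∀ d : Fin 5, s.val + c.val + d.val = 5 →
    sqd s 2 + sqd a 2 + sqd b 2 + sqd c 2 + sqd d 2 ≤ 5 → (⟨s, a, b, c, d⟩ : Col) ∈ opts2 := by
  decide +kernel

theorem opts_mem2 (s a b c d : ℕ) (hb : s + a + b = 6) (hd : s + c + d = 5)
    (hn : sqd s 2 + sqd a 2 + sqd b 2 + sqd c 2 + sqd d 2 ≤ 5) (h0 : s < 5) (h1 : a < 5) (h2 : b < 5)
    (h3 : c < 5) (h4 : d < 5) : (⟨s, a, b, c, d⟩ : Col) ∈ opts2 :=
  opts2_complete ⟨s, h0⟩ ⟨a, h1⟩ ⟨c, h3⟩ ⟨b, h2⟩ hb ⟨d, h4⟩ hd hn

theorem opts3_complete : ∀ s : Fin 5, ∀ a : Fin 5, ∀ c : Fin 5, ∀ b : Fin 5, s.val + a.val + b.val = 6 →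
    ∀ d : Fin 5, s.val + c.val + d.val = 6 →
    sqd s 2 + sqd a 2 + sqd b 2 + sqd c 2 + sqd d 2 ≤ 5 → (⟨s, a, b, c, d⟩ : Col) ∈ opts3 := by
  decide +kernel

theorem opts_mem3 (s a b c d : ℕ) (hb : s + a + b = 6) (hd : s + c + d = 6)
    (hn : sqd s 2 + sqd a 2 + sqd b 2 + sqd c 2 + sqd d 2 ≤ 5) (h0 : s < 5) (h1 : a < 5) (h2 : b < 5)
    (h3 : c < 5) (h4 : d < 5) : (⟨s, a, b, c, d⟩ : Col) ∈ opts3 :=
  opts3_complete ⟨s, h0⟩ ⟨a, h1⟩ ⟨c, h3⟩ ⟨b, h2⟩ hb ⟨d, h4⟩ hd hn

/-- The value of a quadratic form in the four further functions. -/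
def gramForm (a b c d : ℤ) : ℤ :=
  8 * a * a + 4 * b * b + 5 * c * c + 5 * d * d + 4 * a * c + 4 * a * d - 2 * b * d

/-- The multiplicities of a constituent at the four further functions, after the sign. -/
structure Mult where
  m01 : ℤ
  m4 : ℤ
  m5 : ℤ
  m6 : ℤ

/-- The product with a direction. -/
def Mult.along (M : Mult) (a b c d : ℤ) : ℤ := a * M.m01 + b * M.m4 + c * M.m5 + d * M.m6

theorem sqd_cast (p q : ℕ) : ((sqd p q : ℕ) : ℤ) = ((p : ℤ) - q) * ((p : ℤ) - q) := by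
  unfold sqd
  rcases le_total p q with h | h
  · rw [Nat.sub_eq_zero_of_le h]; push_cast [Nat.cast_sub h]; ring
  · rw [Nat.sub_eq_zero_of_le h]; push_cast [Nat.cast_sub h]; ring

/-- The multiplicity shifted by two. -/
def sh (m : ℤ) : ℕ := (m + 2).toNat

/-- The columns coming from the five constituents. -/
def colOf (f : Mult → ℤ) (S A B C D : Mult) : Col := ⟨sh (f S), sh (f A), sh (f B), sh (f C), sh (f D)⟩

theorem small_of_sq {m : ℤ} {N : ℤ} (hN : N ≤ 8) (h : m * m ≤ N) : m ∈ Finset.Icc (-2 : ℤ) 2 := by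
  rw [Finset.mem_Icc]
  constructor <;> nlinarith

set_option maxHeartbeats 2000000 in
/-- The five constituents are in the table. -/
theorem inTable_of {S A B C D : Mult}
    (h01 : S.m01 + A.m01 + B.m01 = -2 ∧ S.m01 + C.m01 + D.m01 = 0)
    (h4 : S.m4 + A.m4 + B.m4 = -1 ∧ S.m4 + C.m4 + D.m4 = 1)
    (h5 : S.m5 + A.m5 + B.m5 = 0 ∧ S.m5 + C.m5 + D.m5 = -1)
    (h6 : S.m6 + A.m6 + B.m6 = 0 ∧ S.m6 + C.m6 + D.m6 = 0)
    (hform : ∀ a b c d : ℤ, S.along a b c d ^ 2 + A.along a b c d ^ 2 + B.along a b c d ^ 2 +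
      C.along a b c d ^ 2 + D.along a b c d ^ 2 ≤ gramForm a b c d) :
    inTable (colOf Mult.m01 S A B C D) (colOf Mult.m4 S A B C D) (colOf Mult.m5 S A B C D)
      (colOf Mult.m6 S A B C D) = true := by
  have n01 := hform 1 0 0 0
  have n4 := hform 0 1 0 0
  have n5 := hform 0 0 1 0
  have n6 := hform 0 0 0 1
  simp only [Mult.along, gramForm, one_mul, zero_mul, add_zero, zero_add, mul_one, mul_zero,
    sub_zero] at n01 n4 n5 n6
  have range : ∀ {s a b c d N : ℤ}, s ^ 2 + a ^ 2 + b ^ 2 + c ^ 2 + d ^ 2 ≤ N → N ≤ 8 →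
      ((-2 ≤ s ∧ s ≤ 2) ∧ (-2 ≤ a ∧ a ≤ 2) ∧ (-2 ≤ b ∧ b ≤ 2) ∧ (-2 ≤ c ∧ c ≤ 2) ∧ (-2 ≤ d ∧ d ≤ 2)) := by
    intro s a b c d N h hN
    refine ⟨?_, ?_, ?_, ?_, ?_⟩ <;>
      constructor <;> nlinarith [sq_nonneg s, sq_nonneg a, sq_nonneg b, sq_nonneg c, sq_nonneg d]
  obtain ⟨r0s, r0a, r0b, r0c, r0d⟩ := range n01 le_rfl
  obtain ⟨r1s, r1a, r1b, r1c, r1d⟩ := range n4 (by norm_num)
  obtain ⟨r2s, r2a, r2b, r2c, r2d⟩ := range n5 (by norm_num)
  obtain ⟨r3s, r3a, r3b, r3c, r3d⟩ := range n6 (by norm_num)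
  have cmp : ∀ {s a b c d N : ℤ}, (-2 ≤ s ∧ s ≤ 2) → (-2 ≤ a ∧ a ≤ 2) → (-2 ≤ b ∧ b ≤ 2) →
      (-2 ≤ c ∧ c ≤ 2) → (-2 ≤ d ∧ d ≤ 2) → s ^ 2 + a ^ 2 + b ^ 2 + c ^ 2 + d ^ 2 ≤ N →
      sqd (sh s) 2 + sqd (sh a) 2 + sqd (sh b) 2 + sqd (sh c) 2 + sqd (sh d) 2 ≤ N.toNat := by
    intro s a b c d N hs ha hb hc hd h
    have e : ((sqd (sh s) 2 + sqd (sh a) 2 + sqd (sh b) 2 + sqd (sh c) 2 + sqd (sh d) 2 : ℕ) : ℤ) ≤ N := by
      push_cast [sqd_cast, sh, Int.toNat_of_nonneg (show (0 : ℤ) ≤ s + 2 by omega),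
        Int.toNat_of_nonneg (show (0 : ℤ) ≤ a + 2 by omega), Int.toNat_of_nonneg (show (0 : ℤ) ≤ b + 2 by omega),
        Int.toNat_of_nonneg (show (0 : ℤ) ≤ c + 2 by omega), Int.toNat_of_nonneg (show (0 : ℤ) ≤ d + 2 by omega)]
      nlinarith
    omega
  have m0 : colOf Mult.m01 S A B C D ∈ opts0 := by
    refine opts_mem0 _ _ _ _ _ ?_ ?_ (cmp r0s r0a r0b r0c r0d n01) ?_ ?_ ?_ ?_ ?_ <;>
      simp only [sh] <;> omega
  have m1 : colOf Mult.m4 S A B C D ∈ opts1 := by
    refine opts_mem1 _ _ _ _ _ ?_ ?_ (cmp r1s r1a r1b r1c r1d n4) ?_ ?_ ?_ ?_ ?_ <;>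
      simp only [sh] <;> omega
  have m2 : colOf Mult.m5 S A B C D ∈ opts2 := by
    refine opts_mem2 _ _ _ _ _ ?_ ?_ (cmp r2s r2a r2b r2c r2d n5) ?_ ?_ ?_ ?_ ?_ <;>
      simp only [sh] <;> omega
  have m3 : colOf Mult.m6 S A B C D ∈ opts3 := by
    refine opts_mem3 _ _ _ _ _ ?_ ?_ (cmp r3s r3a r3b r3c r3d n6) ?_ ?_ ?_ ?_ ?_ <;>
      simp only [sh] <;> omega
  have cast : ∀ {m : ℤ}, (-2 ≤ m ∧ m ≤ 2) → ((sh m : ℕ) : ℤ) = m + 2 := fun h => by
    simp only [sh]; omega
  have h := pattern_checked _ m0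
  simp only [checkFrom, List.all_eq_true, Bool.or_eq_true, Bool.not_eq_true'] at h
  have e2 : ok2 (colOf Mult.m01 S A B C D) (colOf Mult.m4 S A B C D) = true := by
    simp only [ok2, dirs2, List.all_cons, List.all_nil, Bool.and_true, Bool.and_eq_true, Nat.ble_eq,
      colOf, dir2_0, dir2_1]
    refine ⟨?_, ?_⟩ <;> zify <;> push_cast [sqd_cast, cast r0s, cast r0a, cast r0b, cast r0c, cast r0d,
      cast r1s, cast r1a, cast r1b, cast r1c, cast r1d]
    · have := hform 1 1 0 0; simp only [Mult.along, gramForm] at this; linarith only [this]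
    · have := hform 1 (-1) 0 0; simp only [Mult.along, gramForm] at this; linarith only [this]
  have e3 : ok3 (colOf Mult.m01 S A B C D) (colOf Mult.m4 S A B C D) (colOf Mult.m5 S A B C D) = true := by
    simp only [ok3, dirs3, List.all_cons, List.all_nil, Bool.and_true, Bool.and_eq_true, Nat.ble_eq,
      colOf, dir3_0, dir3_1, dir3_2, dir3_3, dir3_4, dir3_5, dir3_6, dir3_7]
    refine ⟨?_, ?_, ?_, ?_, ?_, ?_, ?_, ?_⟩ <;> zify <;> push_cast [sqd_cast, cast r0s, cast r0a, cast r0b, cast r0c, cast r0d,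
      cast r1s, cast r1a, cast r1b, cast r1c, cast r1d,
      cast r2s, cast r2a, cast r2b, cast r2c, cast r2d]
    · have := hform 1 0 1 0; simp only [Mult.along, gramForm] at this; linarith only [this]
    · have := hform 1 0 (-1) 0; simp only [Mult.along, gramForm] at this; linarith only [this]
    · have := hform 0 1 1 0; simp only [Mult.along, gramForm] at this; linarith only [this]
    · have := hform 0 1 (-1) 0; simp only [Mult.along, gramForm] at this; linarith only [this]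
    · have := hform 1 1 1 0; simp only [Mult.along, gramForm] at this; linarith only [this]
    · have := hform 1 1 (-1) 0; simp only [Mult.along, gramForm] at this; linarith only [this]
    · have := hform 1 (-1) 1 0; simp only [Mult.along, gramForm] at this; linarith only [this]
    · have := hform 1 (-1) (-1) 0; simp only [Mult.along, gramForm] at this; linarith only [this]
  have e4 : ok4 (colOf Mult.m01 S A B C D) (colOf Mult.m4 S A B C D) (colOf Mult.m5 S A B C D) (colOf Mult.m6 S A B C D) = true := by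
    simp only [ok4, dirs4, List.all_cons, List.all_nil, Bool.and_true, Bool.and_eq_true, Nat.ble_eq,
      colOf, dir4_0, dir4_1, dir4_2, dir4_3, dir4_4, dir4_5, dir4_6, dir4_7, dir4_8, dir4_9, dir4_10, dir4_11, dir4_12, dir4_13, dir4_14, dir4_15, dir4_16, dir4_17, dir4_18, dir4_19, dir4_20]
    refine ⟨?_, ?_, ?_, ?_, ?_, ?_, ?_, ?_, ?_, ?_, ?_, ?_, ?_, ?_, ?_, ?_, ?_, ?_, ?_, ?_, ?_⟩ <;> zify <;> push_cast [sqd_cast, cast r0s, cast r0a, cast r0b, cast r0c, cast r0d,
      cast r1s, cast r1a, cast r1b, cast r1c, cast r1d,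
      cast r2s, cast r2a, cast r2b, cast r2c, cast r2d,
      cast r3s, cast r3a, cast r3b, cast r3c, cast r3d]
    · have := hform 1 0 0 (-1); simp only [Mult.along, gramForm] at this; linarith only [this]
    · have := hform 0 1 1 1; simp only [Mult.along, gramForm] at this; linarith only [this]
    · have := hform 0 1 (-1) 1; simp only [Mult.along, gramForm] at this; linarith only [this]
    · have := hform 1 0 (-1) (-1); simp only [Mult.along, gramForm] at this; linarith only [this]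
    · have := hform 1 1 1 (-1); simp only [Mult.along, gramForm] at this; linarith only [this]
    · have := hform 1 1 (-1) 1; simp only [Mult.along, gramForm] at this; linarith only [this]
    · have := hform 1 1 (-1) (-1); simp only [Mult.along, gramForm] at this; linarith only [this]
    · have := hform 1 (-1) (-1) (-1); simp only [Mult.along, gramForm] at this; linarith only [this]
    · have := hform 1 0 0 1; simp only [Mult.along, gramForm] at this; linarith only [this]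
    · have := hform 0 0 1 (-1); simp only [Mult.along, gramForm] at this; linarith only [this]
    · have := hform 0 1 (-1) (-1); simp only [Mult.along, gramForm] at this; linarith only [this]
    · have := hform 0 1 1 (-1); simp only [Mult.along, gramForm] at this; linarith only [this]
    · have := hform 1 0 1 1; simp only [Mult.along, gramForm] at this; linarith only [this]
    · have := hform 0 0 1 1; simp only [Mult.along, gramForm] at this; linarith only [this]
    · have := hform 1 0 (-1) 1; simp only [Mult.along, gramForm] at this; linarith only [this]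
    · have := hform 1 1 1 1; simp only [Mult.along, gramForm] at this; linarith only [this]
    · have := hform 0 1 0 1; simp only [Mult.along, gramForm] at this; linarith only [this]
    · have := hform 1 (-1) 1 1; simp only [Mult.along, gramForm] at this; linarith only [this]
    · have := hform 1 0 1 (-1); simp only [Mult.along, gramForm] at this; linarith only [this]
    · have := hform 1 1 0 1; simp only [Mult.along, gramForm] at this; linarith only [this]
    · have := hform 1 (-1) (-1) 1; simp only [Mult.along, gramForm] at this; linarith only [this]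
  rcases h _ m1 with h' | h'
  · rw [e2] at h'; exact absurd h' (by decide)
  rcases h' _ m2 with h'' | h''
  · rw [e3] at h''; exact absurd h'' (by decide)
  rcases h'' _ m3 with h3 | h3
  · rw [e4] at h3; exact absurd h3 (by decide)
  · exact h3

end CfsgLib.JThree
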