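import Cfsg.Agent.Lib.JThree.Combine

/-!
The five constituents of the two exceptional functions force the number of involutions.
-/

set_option autoImplicit false

namespace CfsgLib.JThree

theorem mkRow_snd (a b c d e f : ℤ) : (mkRow a b c d e f).2 < 128 := by
  simp only [mkRow]; omega

theorem mkRow_enc {a b c d e f : ℤ} (ha : -2 ≤ a ∧ a ≤ 2) (hb : 0 ≤ b ∧ b ≤ 1) (hc : 0 ≤ c ∧ c ≤ 1)
    (hd : -2 ≤ d ∧ d ≤ 2) (he : -2 ≤ e ∧ e ≤ 2) (hf : -2 ≤ f ∧ f ≤ 2) : encR (mkRow a b c d e f) < 16384 := by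
  have h2 := mkRow_snd a b c d e f
  have h1 : (mkRow a b c d e f).1 < 127 := by simp only [mkRow, zVal]; omega
  unfold encR; omega

theorem five_range {s a b c d N : ℤ} (h : s ^ 2 + a ^ 2 + b ^ 2 + c ^ 2 + d ^ 2 ≤ N) (hN : N ≤ 8) :
    (-2 ≤ s ∧ s ≤ 2) ∧ (-2 ≤ a ∧ a ≤ 2) ∧ (-2 ≤ b ∧ b ≤ 2) ∧ (-2 ≤ c ∧ c ≤ 2) ∧ (-2 ≤ d ∧ d ≤ 2) := by
  refine ⟨?_, ?_, ?_, ?_, ?_⟩ <;>
    constructor <;> nlinarith [sq_nonneg s, sq_nonneg a, sq_nonneg b, sq_nonneg c, sq_nonneg d]

/-- The row of the common constituent. -/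
def Mult.rowS (M : Mult) : ℕ × ℕ := mkRow M.m01 1 1 M.m4 M.m5 M.m6

/-- The row of a constituent of the first function only. -/
def Mult.rowF (M : Mult) : ℕ × ℕ := mkRow M.m01 0 1 M.m4 M.m5 M.m6

/-- The row of a constituent of the second function only. -/
def Mult.rowG (M : Mult) : ℕ × ℕ := mkRow M.m01 1 0 M.m4 M.m5 M.m6

theorem decode {a b c : ℕ} (hb : b < 16384) (hc : c < 16384) :
    ((a * 16384 + b) * 16384 + c) / (16384 * 16384) = a ∧
      ((a * 16384 + b) * 16384 + c) / 16384 % 16384 = b ∧ ((a * 16384 + b) * 16384 + c) % 16384 = c := by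
  refine ⟨?_, ?_, ?_⟩ <;> omega

theorem decode_pair {b c : ℕ} (hc : c < 16384) :
    (b * 16384 + c) / 16384 = b ∧ (b * 16384 + c) % 16384 = c := by
  refine ⟨?_, ?_⟩ <;> omega

theorem forced {S A B C D : Mult}
    (h01 : S.m01 + A.m01 + B.m01 = -2 ∧ S.m01 + C.m01 + D.m01 = 0)
    (h4 : S.m4 + A.m4 + B.m4 = -1 ∧ S.m4 + C.m4 + D.m4 = 1)
    (h5 : S.m5 + A.m5 + B.m5 = 0 ∧ S.m5 + C.m5 + D.m5 = -1)
    (h6 : S.m6 + A.m6 + B.m6 = 0 ∧ S.m6 + C.m6 + D.m6 = 0)
    (hform : ∀ a b c d : ℤ, S.along a b c d ^ 2 + A.along a b c d ^ 2 + B.along a b c d ^ 2 +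
      C.along a b c d ^ 2 + D.along a b c d ^ 2 ≤ gramForm a b c d)
    {k : ℕ} (hk : k % 2 = 1) {us ua ub uc ud : ℤ}
    (mS : Member k S.rowS us) (mA : Member k A.rowF ua) (mB : Member k B.rowF ub)
    (mC : Member k C.rowG uc) (mD : Member k D.rowG ud)
    (hsum : us + ua + ub = -1) (hsum' : us + uc + ud = 0)
    (hsq : us.natAbs * us.natAbs + ua.natAbs * ua.natAbs + ub.natAbs * ub.natAbs < 1920 * k)
    (heq : (k : ℤ) * (us * ua * ub + (S.rowS.1 * S.rowS.1 : ℕ) * ua * ub +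
      (A.rowF.1 * A.rowF.1 : ℕ) * us * ub + (B.rowF.1 * B.rowF.1 : ℕ) * us * ua) =
      15200 * (us * ua * ub))
    (heq' : (k : ℤ) * ((S.rowS.1 * S.rowS.1 : ℕ) * uc * ud + (C.rowG.1 * C.rowG.1 : ℕ) * us * ud +
      (D.rowG.1 * D.rowG.1 : ℕ) * us * uc) = 320 * us * uc * ud) :
    k = 26163 := by
  have hT := inTable_of h01 h4 h5 h6 hform
  have n01 := hform 1 0 0 0
  have n4 := hform 0 1 0 0
  have n5 := hform 0 0 1 0
  have n6 := hform 0 0 0 1
  simp only [Mult.along, gramForm, one_mul, zero_mul, add_zero, zero_add, mul_one, mul_zero,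
    sub_zero] at n01 n4 n5 n6
  obtain ⟨r0s, r0a, r0b, r0c, r0d⟩ := five_range n01 le_rfl
  obtain ⟨r1s, r1a, r1b, r1c, r1d⟩ := five_range n4 (by norm_num)
  obtain ⟨r2s, r2a, r2b, r2c, r2d⟩ := five_range n5 (by norm_num)
  obtain ⟨r3s, r3a, r3b, r3c, r3d⟩ := five_range n6 (by norm_num)
  have c1 : ∀ {m : ℤ}, (-2 ≤ m ∧ m ≤ 2) → ((sh m : ℕ) : ℤ) - 2 = m := fun h => by
    simp only [sh]; omega
  simp only [inTable, rowS, rowA, rowB, rowC, rowD, colOf, c1 r0s, c1 r0a, c1 r0b, c1 r0c, c1 r0d,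
    c1 r1s, c1 r1a, c1 r1b, c1 r1c, c1 r1d, c1 r2s, c1 r2a, c1 r2b, c1 r2c, c1 r2d,
    c1 r3s, c1 r3a, c1 r3b, c1 r3c, c1 r3d, Bool.and_eq_true, List.any_eq_true] at hT
  rw [show mkRow S.m01 1 1 S.m4 S.m5 S.m6 = S.rowS from rfl,
    show mkRow A.m01 0 1 A.m4 A.m5 A.m6 = A.rowF from rfl,
    show mkRow B.m01 0 1 B.m4 B.m5 B.m6 = B.rowF from rfl,
    show mkRow C.m01 1 0 C.m4 C.m5 C.m6 = C.rowG from rfl,
    show mkRow D.m01 1 0 D.m4 D.m5 D.m6 = D.rowG from rfl] at hT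
  obtain ⟨hkey, q, hq, hqp⟩ := hT
  have hkey' := Nat.eq_of_beq_eq_true hkey
  have hqp' := Nat.eq_of_beq_eq_true hqp
  have lS : encR S.rowS < 16384 := mkRow_enc r0s (by norm_num) (by norm_num) r1s r2s r3s
  have lA : encR A.rowF < 16384 := mkRow_enc r0a (by norm_num) (by norm_num) r1a r2a r3a
  have lB : encR B.rowF < 16384 := mkRow_enc r0b (by norm_num) (by norm_num) r1b r2b r3b
  have lC : encR C.rowG < 16384 := mkRow_enc r0c (by norm_num) (by norm_num) r1c r2c r3c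
  have lD : encR D.rowG < 16384 := mkRow_enc r0d (by norm_num) (by norm_num) r1d r2d r3d
  generalize hE : table.getD (findI ((encR S.rowS * 16384 + min (encR A.rowF) (encR B.rowF)) * 16384 +
    max (encR A.rowF) (encR B.rowF))) (0, []) = e at hkey' hq
  have he : e ∈ table := by
    rw [List.getD_eq_getElem?_getD] at hE
    rcases hg : table[findI ((encR S.rowS * 16384 + min (encR A.rowF) (encR B.rowF)) * 16384 +
      max (encR A.rowF) (encR B.rowF))]? with _ | e'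
    · rw [hg, Option.getD_none] at hE; subst hE; simp at hq
    · rw [hg, Option.getD_some] at hE; subst hE; exact List.mem_of_getElem? hg
  have hs := table_checked e he
  have qS : decR (encR S.rowS) = S.rowS := decR_encR (mkRow_snd ..)
  have qA : decR (encR A.rowF) = A.rowF := decR_encR (mkRow_snd ..)
  have qB : decR (encR B.rowF) = B.rowF := decR_encR (mkRow_snd ..)
  have qC : decR (encR C.rowG) = C.rowG := decR_encR (mkRow_snd ..)
  have qD : decR (encR D.rowG) = D.rowG := decR_encR (mkRow_snd ..)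
  obtain ⟨k1, k2, k3⟩ := decode (a := encR S.rowS)
    (lt_of_le_of_lt (min_le_left _ (encR B.rowF)) lA) (max_lt lA lB)
  have dS : decR (e.1 / (16384 * 16384)) = S.rowS := by
    rw [hkey', k1, qS]
  have d1 : decR (e.1 / 16384 % 16384) = decR (min (encR A.rowF) (encR B.rowF)) := by rw [hkey', k2]
  have d2 : decR (e.1 % 16384) = decR (max (encR A.rowF) (encR B.rowF)) := by rw [hkey', k3]
  have hP : Partner k us (S.rowS.1 * S.rowS.1) q := by
    obtain ⟨e1, e2⟩ := decode_pair (b := min (encR C.rowG) (encR D.rowG)) (max_lt lC lD)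
    rw [← hqp'] at e1 e2
    rcases le_total (encR C.rowG) (encR D.rowG) with h | h
    · rw [min_eq_left h] at e1; rw [max_eq_right h] at e2
      refine ⟨uc, ud, hsum', ?_, ?_, ?_, ?_⟩
      · have := mC.two_le; omega
      · have := mD.two_le; omega
      · rw [e1, qC]; exact mC.cong
      · rw [e1, e2, qC, qD]; exact heq'
    · rw [min_eq_right h] at e1; rw [max_eq_left h] at e2
      refine ⟨ud, uc, by omega, ?_, ?_, ?_, ?_⟩
      · have := mD.two_le; omega
      · have := mC.two_le; omega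
      · rw [e1, qD]; exact mD.cong
      · rw [e1, e2, qC, qD]; linear_combination heq'
  rcases le_total (encR A.rowF) (encR B.rowF) with h | h
  · rw [min_eq_left h, qA] at d1
    rw [max_eq_right h, qB] at d2
    exact searchT_spec hs dS d1 d2 hk mS mA mB hsum hsq heq hq hP
  · rw [min_eq_right h, qB] at d1
    rw [max_eq_left h, qA] at d2
    exact searchT_spec hs dS d1 d2 hk mS mB mA (by omega) (by omega) (by linear_combination heq) hq hP

end CfsgLib.JThree
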