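import Cfsg.Agent.Lib.JThree.ModelFun

/-! The subgroups of the model carrying the linear characters. -/

set_option autoImplicit false
set_option maxRecDepth 100000
set_option Elab.async false

namespace CfsgLib.JThree.Model

theorem hom0 : homTest 0 = true := by decide +kernel

theorem hom1 : homTest 1 = true := by decide +kernel

theorem hom2 : homTest 2 = true := by decide +kernel

theorem hom3 : homTest 3 = true := by decide +kernel

theorem hom4 : homTest 4 = true := by decide +kernel

theorem hom5 : homTest 5 = true := by decide +kernel

theorem hom6 : homTest 6 = true := by decide +kernel

theorem hom7 : homTest 7 = true := by decide +kernel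

theorem hom8 : homTest 8 = true := by decide +kernel

theorem hom9 : homTest 9 = true := by decide +kernel

theorem hom10 : homTest 10 = true := by decide +kernel

theorem hom11 : homTest 11 = true := by decide +kernel

theorem hom_ok : ∀ n < 12, homTest n = true := by
  intro n hn
  interval_cases n
  exacts [hom0, hom1, hom2, hom3, hom4, hom5, hom6, hom7, hom8, hom9, hom10, hom11]

end CfsgLib.JThree.Model
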