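import Cfsg.Agent.Lib.JThree.Coded
import Cfsg.Agent.Lib.JThree.ModelSubs
import Cfsg.Agent.Lib.Characters.Artin
import Cfsg.Agent.Lib.Characters.Generalized

/-!
The exceptional functions are generalised characters of the coded group.
-/

set_option autoImplicit false
set_option maxRecDepth 100000

namespace CfsgLib.JThree

open Model Cfsg CfsgLib.Characters

/-- A primitive sixth root of unity. -/
noncomputable def w6 : ℂ := (1 + Complex.I * (Real.sqrt 3 : ℝ)) / 2

theorem w6_sq : w6 * w6 = w6 - 1 := by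
  have h : ((Real.sqrt 3 : ℝ) : ℂ) * (Real.sqrt 3 : ℝ) = 3 := by
    rw [← Complex.ofReal_mul, Real.mul_self_sqrt (by norm_num)]; norm_num
  have hI := Complex.I_mul_I
  simp only [w6]
  linear_combination (1 / 4 : ℂ) * (((Real.sqrt 3 : ℝ) : ℂ) * (Real.sqrt 3 : ℝ)) * hI - (1 / 4 : ℂ) * h

theorem w6_cube : w6 ^ 3 = -1 := by linear_combination (w6 + 1) * w6_sq

theorem w6_pow_six : w6 ^ 6 = 1 := by
  rw [show (6 : ℕ) = 3 * 2 from rfl, pow_mul, w6_cube]; norm_num

theorem w6_zeta (l : ℕ) (hl : l < 6) : w6 ^ l = ((zeta6 l).1 : ℂ) + (zeta6 l).2 * w6 := by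
  interval_cases l <;> simp only [zeta6] <;> push_cast
  · simp
  · simp
  · linear_combination w6_sq
  · linear_combination w6_cube
  · linear_combination w6 * w6_cube
  · linear_combination (w6 * w6) * w6_cube - w6_sq

namespace Coded

variable {C : Type*} [Group C] [Fintype C] (e : Coded C)

theorem subs_getD {n : ℕ} (hn : n < 12) : subs.getD n ([], []) ∈ subs := by
  rw [List.getD_eq_getElem _ _ (by rw [subs_incr.2]; exact hn)]
  exact List.getElem_mem _

theorem homTest_parts {n : ℕ} (hn : n < 12) :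
    (List.range 1920).countP (fun x => !Nat.beq (labC n x) 0) = (subs.getD n ([], [])).1.length ∧
    (subs.getD n ([], [])).2.length = (subs.getD n ([], [])).1.length ∧ labC n 0 = 1 ∧
    (∀ a ∈ (subs.getD n ([], [])).1.zip (subs.getD n ([], [])).2,
      a.1 < 1920 ∧ a.2 < 6 ∧ labC n a.1 = a.2 + 1) ∧
    (∀ x ∈ (subs.getD n ([], [])).1, ∀ y ∈ (subs.getD n ([], [])).1,
      labC n (mulC x y) = (labC n x - 1 + (labC n y - 1)) % 6 + 1) := by
  have h := hom_ok n hn
  simp only [homTest, Bool.and_eq_true, List.all_eq_true] at h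
  obtain ⟨⟨⟨⟨h1, h2⟩, h3⟩, h4⟩, h5⟩ := h
  exact ⟨Nat.eq_of_beq_eq_true h1, Nat.eq_of_beq_eq_true h2, Nat.eq_of_beq_eq_true h3,
    fun a ha => ⟨Nat.le_of_ble_eq_true (h4 a ha).1.1, Nat.le_of_ble_eq_true (h4 a ha).1.2,
      Nat.eq_of_beq_eq_true (h4 a ha).2⟩,
    fun x hx y hy => Nat.eq_of_beq_eq_true (h5 x hx y hy)⟩

theorem incr_lt : ∀ (l : List ℕ) (a : ℕ), incr (a :: l) = true → ∀ x ∈ l, a < x
  | [], _, _, x, hx => absurd hx (by simp)
  | b :: l, a, h, x, hx => by
    simp only [incr, Bool.and_eq_true, Nat.blt_eq] at h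
    rcases List.mem_cons.1 hx with rfl | hx
    exacts [h.1, h.1.trans (incr_lt l b h.2 x hx)]

theorem incr_nodup : ∀ l : List ℕ, incr l = true → l.Nodup
  | [], _ => List.nodup_nil
  | [a], _ => List.nodup_singleton a
  | a :: b :: l, h => by
    refine List.nodup_cons.2 ⟨fun ha => lt_irrefl a (incr_lt _ a h a ha), incr_nodup _ ?_⟩
    simp only [incr, Bool.and_eq_true] at h
    exact h.2

theorem exists_zip {H L : List ℕ} (hl : L.length = H.length) {x : ℕ} (hx : x ∈ H) :
    ∃ l, (x, l) ∈ H.zip L := by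
  obtain ⟨j, hj, rfl⟩ := List.getElem_of_mem hx
  exact ⟨L[j]'(hl ▸ hj), List.mem_iff_getElem.2 ⟨j, by simp [hl, hj], by simp⟩⟩

theorem subList_eq {n : ℕ} (hn : n < 12) :
    (Finset.range 1920).filter (fun x => labC n x ≠ 0) = (subs.getD n ([], [])).1.toFinset := by
  obtain ⟨hc, hl, -, hz, -⟩ := homTest_parts hn
  have hnd : (subs.getD n ([], [])).1.Nodup :=
    incr_nodup _ (List.all_eq_true.1 subs_incr.1 _ (subs_getD hn))
  symm
  refine Finset.eq_of_subset_of_card_le ?_ ?_
  · intro x hx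
    obtain ⟨l, hxl⟩ := exists_zip hl (List.mem_toFinset.1 hx)
    obtain ⟨a, b, c⟩ := hz _ hxl
    exact Finset.mem_filter.2 ⟨Finset.mem_range.2 a, by simp only at c; omega⟩
  · rw [List.toFinset_card_of_nodup hnd, ← hc, List.countP_eq_length_filter, Finset.card_def,
      Finset.filter_val, Finset.range_val, Multiset.range, Multiset.filter_coe, Multiset.coe_card]
    refine le_of_eq (congrArg List.length (List.filter_congr fun x _ => ?_))
    cases hx : Nat.beq (labC n x) 0
    · simpa using beq_false_iff.1 hx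
    · simpa using Nat.eq_of_beq_eq_true hx

theorem mem_subList {n : ℕ} (hn : n < 12) (x : C) :
    labC n (e.code x) ≠ 0 ↔ e.code x ∈ (subs.getD n ([], [])).1 := by
  rw [← List.mem_toFinset, ← subList_eq hn, Finset.mem_filter, Finset.mem_range]
  exact ⟨fun h => ⟨e.lt x, h⟩, fun h => h.2⟩

theorem labC_mul {n : ℕ} (hn : n < 12) {x y : C} (hx : labC n (e.code x) ≠ 0)
    (hy : labC n (e.code y) ≠ 0) :
    labC n (e.code (x * y)) = (labC n (e.code x) - 1 + (labC n (e.code y) - 1)) % 6 + 1 := by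
  rw [e.mul]
  exact (homTest_parts hn).2.2.2.2 _ ((e.mem_subList hn x).1 hx) _ ((e.mem_subList hn y).1 hy)

/-- The subgroup with number `n`. -/
def subgp {n : ℕ} (hn : n < 12) : Subgroup C where
  carrier := {x | labC n (e.code x) ≠ 0}
  one_mem' := by show labC n (e.code 1) ≠ 0; rw [e.code_one, (homTest_parts hn).2.2.1]; omega
  mul_mem' := fun {a b} ha hb => by
    show labC n (e.code (a * b)) ≠ 0
    rw [e.labC_mul hn ha hb]; omega
  inv_mem' := fun {a} ha => by
    have hpow : ∀ k : ℕ, labC n (e.code (a ^ k)) ≠ 0 := by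
      intro k
      induction k with
      | zero => rw [pow_zero, e.code_one, (homTest_parts hn).2.2.1]; omega
      | succ k ih => rw [pow_succ, e.labC_mul hn ih ha]; omega
    show labC n (e.code a⁻¹) ≠ 0
    rw [inv_eq_of_mul_eq_one_right (b := a ^ (orderOf a - 1)) (by
      rw [← pow_succ', Nat.sub_add_cancel (orderOf_pos a), pow_orderOf_eq_one])]
    exact hpow _

/-- The linear character on the subgroup with number `n`. -/
noncomputable def linChar {n : ℕ} (hn : n < 12) : e.subgp hn →* ℂ where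
  toFun x := w6 ^ (labC n (e.code x.1) - 1)
  map_one' := by rw [OneMemClass.coe_one, e.code_one, (homTest_parts hn).2.2.1]; simp
  map_mul' a b := by
    rw [Subgroup.coe_mul, e.labC_mul hn a.2 b.2, Nat.add_sub_cancel, ← pow_eq_pow_mod _ w6_pow_six,
      pow_add]

/-- The induced character. -/
noncomputable def indChar {n : ℕ} (hn : n < 12) : C → ℂ :=
  indFun (e.subgp hn) (fun x => e.linChar hn x)

theorem isGeneralized_indChar {n : ℕ} (hn : n < 12) : IsGeneralizedCharacter C (e.indChar hn) :=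
  CfsgLib.CharArtin.isGeneralizedCharacter_indFun _
    (isGeneralizedCharacter_of_isCharacter (CfsgLib.Induction.isCharacter_monoidHom (e.linChar hn)))

include e in
theorem card_subgp {n : ℕ} (hn : n < 12) :
    Nat.card (e.subgp hn) = (subs.getD n ([], [])).1.length := by
  classical
  rw [← (homTest_parts hn).1, ← e.card_filter_code, Nat.card_eq_fintype_card, Fintype.card_subtype]
  refine congrArg Finset.card (Finset.filter_congr fun x _ => ?_)
  show labC n (e.code x) ≠ 0 ↔ _
  cases hx : Nat.beq (labC n (e.code x)) 0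
  · simpa using beq_false_iff.1 hx
  · simpa using Nat.eq_of_beq_eq_true hx

theorem clsSum_eq (n i : ℕ) : ∀ H L : List ℕ, L.length = H.length →
    (∀ a ∈ H.zip L, a.1 < 1920 ∧ a.2 < 6 ∧ labC n a.1 = a.2 + 1) →
    (H.map fun x => if cls x = i then w6 ^ (labC n x - 1) else 0).sum =
      (clsSumA H L i : ℂ) + clsSumB H L i * w6 := by
  intro H
  induction H with
  | nil => intro L _ _; simp [clsSumA, clsSumB]
  | cons x H ih =>
    intro L hl h
    cases L with
    | nil => simp at hl
    | cons l L =>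
      obtain ⟨-, hl6, hlab⟩ := h (x, l) (by simp)
      rw [List.map_cons, List.sum_cons, ih L (by simpa using hl)
        (fun a ha => h a (List.mem_cons_of_mem _ ha))]
      simp only at hlab
      rw [hlab, Nat.add_sub_cancel, w6_zeta l hl6]
      simp only [clsSumA, clsSumB, Nat.beq_eq]
      split_ifs <;> push_cast <;> ring

/-- The values of an induced character. -/
theorem indChar_apply {n : ℕ} (hn : n < 12) {i : ℕ} (hi : i < 16) {x : C} (hx : e.cl x = i) :
    (sz i : ℂ) * ((subs.getD n ([], [])).1.length : ℂ) * e.indChar hn x =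
      1920 * ((clsSumA (subs.getD n ([], [])).1 (subs.getD n ([], [])).2 i : ℂ) +
        clsSumB (subs.getD n ([], [])).1 (subs.getD n ([], [])).2 i * w6) := by
  classical
  obtain ⟨-, hl, -, hz, -⟩ := homTest_parts hn
  rw [← clsSum_eq n i _ _ hl hz, ← List.sum_toFinset _ (incr_nodup _
    (List.all_eq_true.1 subs_incr.1 _ (subs_getD hn))), ← subList_eq hn, Finset.sum_filter]
  have hcf := isClassFunction_of_isGeneralizedCharacter (e.isGeneralized_indChar hn)
  set Ki := Finset.univ.filter fun y : C => e.cl y = i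
  have h1 : ∑ y ∈ Ki, e.indChar hn y = (sz i : ℂ) * e.indChar hn x := by
    rw [Finset.sum_congr rfl (g := fun _ => e.indChar hn x) (fun y hy => by
        obtain ⟨g, hg⟩ := isConj_iff.1 (e.isConj_of_cl (hx.trans (Finset.mem_filter.1 hy).2.symm))
        rw [← hg]; exact hcf x g),
      Finset.sum_const, e.card_class hi, nsmul_eq_mul]
  set ext0 := extendByZero (e.subgp hn) (fun h => e.linChar hn h)
  have h2 : ∀ g : C, ∑ y ∈ Ki, ext0 (g⁻¹ * y * g) = ∑ y ∈ Ki, ext0 y := by
    intro g
    refine Finset.sum_bij' (fun y _ => g⁻¹ * y * g) (fun y _ => g * y * g⁻¹) ?_ ?_ ?_ ?_ (fun _ _ => rfl)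
    · intro y hy
      refine Finset.mem_filter.2 ⟨Finset.mem_univ _, ?_⟩
      rw [show g⁻¹ * y * g = g⁻¹ * y * g⁻¹⁻¹ by group, e.cl_conj]
      exact (Finset.mem_filter.1 hy).2
    · intro y hy
      refine Finset.mem_filter.2 ⟨Finset.mem_univ _, ?_⟩
      rw [e.cl_conj]; exact (Finset.mem_filter.1 hy).2
    · intro y _; group
    · intro y _; group
  have h3 : ∑ y ∈ Ki, ext0 y =
      ∑ a ∈ Finset.range 1920, if labC n a ≠ 0 then (if cls a = i then w6 ^ (labC n a - 1) else 0) else 0 := by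
    rw [Finset.sum_filter, ← e.sum_code]
    refine Finset.sum_congr rfl fun y _ => ?_
    by_cases hy : labC n (e.code y) ≠ 0
    · rw [if_pos hy]
      simp only [ext0, CfsgLib.Induction.extendByZero_mem (e.subgp hn) _ (show y ∈ e.subgp hn from hy)]
      rfl
    · rw [if_neg hy]
      simp only [ext0, CfsgLib.Induction.extendByZero_notMem (e.subgp hn) _ (show y ∉ e.subgp hn from hy)]
      simp
  have hc0 : (Nat.card (e.subgp hn) : ℂ) ≠ 0 := Nat.cast_ne_zero.2 Nat.card_pos.ne'
  have h4 : ∑ y ∈ Ki, e.indChar hn y =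
      (Nat.card (e.subgp hn) : ℂ)⁻¹ * (1920 * ∑ y ∈ Ki, ext0 y) := by
    simp only [indChar, CfsgLib.Induction.indFun_apply, ← Finset.mul_sum]
    congr 1
    rw [Finset.sum_comm, Finset.sum_congr rfl fun g _ => h2 g, Finset.sum_const, Finset.card_univ,
      ← Nat.card_eq_fintype_card, e.card_eq, nsmul_eq_mul]
    norm_num
  rw [h1, h3] at h4
  rw [← e.card_subgp hn, mul_right_comm, h4, mul_comm, ← mul_assoc, mul_inv_cancel₀ hc0, one_mul]

/-- The exceptional functions on the coded group. -/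
noncomputable def fn (j : ℕ) : C → ℂ := fun x => (funV j (e.cl x) : ℂ)

theorem fn_conj (j : ℕ) (g x : C) : e.fn j (g * x * g⁻¹) = e.fn j x := by
  simp only [fn, e.cl_conj]

/-- The coefficient of an induced character. -/
def coefV (j n : ℕ) : ℤ := (coefL.getD j []).getD n 0

/-- The size of a subgroup. -/
def subLen (n : ℕ) : ℕ := (subs.getD n ([], [])).1.length

theorem combSum_eq (f : List ℕ → List ℕ → ℕ → ℤ) (i : ℕ) :
    ∀ (Hs : List (List ℕ × List ℕ)) (cs : List ℤ), cs.length = Hs.length →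
      combSum f Hs cs i = ∑ n ∈ Finset.range Hs.length,
        cs.getD n 0 * ((1920 / (Hs.getD n ([], [])).1.length : ℕ) : ℤ) *
          f (Hs.getD n ([], [])).1 (Hs.getD n ([], [])).2 i := by
  intro Hs
  induction Hs with
  | nil => intro cs _; cases cs <;> simp [combSum]
  | cons H Hs ih =>
    intro cs hl
    cases cs with
    | nil => simp at hl
    | cons c cs =>
      rw [combSum, ih cs (by simpa using hl), List.length_cons, Finset.sum_range_succ']
      simp [add_comm]

theorem data_len : ∀ j < 6, (coefL.getD j []).length = 12 := by decide +kernel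

theorem len_dvd : ∀ n < 12, subLen n ∣ 1920 ∧ 0 < subLen n := by decide +kernel

theorem isGeneralized_fn {j : ℕ} (hj : j < 6) : IsGeneralizedCharacter C (e.fn j) := by
  have key : e.fn j = ∑ n : Fin 12, (coefV j n : ℂ) • e.indChar n.2 := by
    funext x
    have hi := e.cl_lt x
    have h := allBelow_spec (allBelow_spec comb_ok j hj) _ hi
    simp only [Bool.and_eq_true, decide_eq_true_eq] at h
    rw [combSum_eq _ _ _ _ ((data_len j hj).trans subs_incr.2.symm),
      combSum_eq _ _ _ _ ((data_len j hj).trans subs_incr.2.symm), subs_incr.2] at h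
    have hA : ((∑ n ∈ Finset.range 12, coefV j n * ((1920 / subLen n : ℕ) : ℤ) *
        clsSumA (subs.getD n ([], [])).1 (subs.getD n ([], [])).2 (e.cl x) : ℤ) : ℂ) =
        (((sz (e.cl x) : ℤ) * funV j (e.cl x) : ℤ) : ℂ) := congrArg Int.cast h.1
    have hB : ((∑ n ∈ Finset.range 12, coefV j n * ((1920 / subLen n : ℕ) : ℤ) *
        clsSumB (subs.getD n ([], [])).1 (subs.getD n ([], [])).2 (e.cl x) : ℤ) : ℂ) =
        ((0 : ℤ) : ℂ) := congrArg Int.cast h.2
    rw [← Fin.sum_univ_eq_sum_range (fun n => coefV j n * ((1920 / subLen n : ℕ) : ℤ) *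
        clsSumA (subs.getD n ([], [])).1 (subs.getD n ([], [])).2 (e.cl x)) 12, Int.cast_sum] at hA
    rw [← Fin.sum_univ_eq_sum_range (fun n => coefV j n * ((1920 / subLen n : ℕ) : ℤ) *
        clsSumB (subs.getD n ([], [])).1 (subs.getD n ([], [])).2 (e.cl x)) 12, Int.cast_sum] at hB
    push_cast at hA hB
    have hsz : (sz (e.cl x) : ℂ) ≠ 0 := by
      have h := allBelow_spec sz_ok _ hi
      simp only [Bool.and_eq_true, Nat.blt_eq] at h
      exact Nat.cast_ne_zero.2 h.2.ne'
    refine mul_left_cancel₀ hsz ?_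
    simp only [Finset.sum_apply, Pi.smul_apply, smul_eq_mul, Finset.mul_sum]
    rw [fn, ← hA, ← add_zero (∑ n : Fin 12, _), ← mul_zero w6, ← hB, Finset.mul_sum,
      ← Finset.sum_add_distrib]
    refine Finset.sum_congr rfl fun n _ => ?_
    have hind := e.indChar_apply n.2 hi (x := x) rfl
    obtain ⟨hd, hpos⟩ := len_dvd n n.2
    have hlen : (((1920 : ℤ) / (subLen n : ℤ) : ℤ) : ℂ) * ((subs.getD (n : ℕ) ([], [])).1.length : ℂ) = 1920 := by
      rw [← Int.cast_natCast (subs.getD (n : ℕ) ([], [])).1.length, ← Int.cast_mul]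
      exact_mod_cast congrArg (Int.cast : ℤ → ℂ) (Int.ediv_mul_cancel (Int.natCast_dvd_natCast.2 hd))
    have hlen0 : ((subs.getD (n : ℕ) ([], [])).1.length : ℂ) ≠ 0 := Nat.cast_ne_zero.2 hpos.ne'
    refine mul_left_cancel₀ hlen0 ?_
    linear_combination (coefV j n : ℂ) * (((clsSumA (subs.getD (n : ℕ) ([], [])).1 (subs.getD (n : ℕ) ([], [])).2 (e.cl x) : ℂ)) + (clsSumB (subs.getD (n : ℕ) ([], [])).1 (subs.getD (n : ℕ) ([], [])).2 (e.cl x) : ℂ) * w6) * hlen - (coefV j n : ℂ) * hind
  rw [key]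
  exact isGeneralizedCharacter_sum _ fun n _ =>
    isGeneralizedCharacter_intCast_smul (e.isGeneralized_indChar n.2) _

end Coded

end CfsgLib.JThree
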