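import Cfsg.Agent.Lib.JThree.Model

/-!
Words in four anticommuting involutions evaluate according to the tables of the model.
-/

set_option autoImplicit false
set_option maxRecDepth 100000
set_option Elab.async false

namespace CfsgLib.JThree

open Model

namespace Model

/-- Two exponents of an involution agree. -/
def par (a b : ℕ) : Bool := Nat.beq (a % 2) (b % 2)

/-- Two words agree with prescribed exponents. -/
def wordTest (w a b c d f : ℕ) : Bool :=
  par w a && par (w / 2) b && par (w / 4) c && par (w / 8) d && par (w / 16) f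

theorem gen_ok : allBelow (fun q =>
    wordTest (mQ q 1) (q + 1) (q / 2) (q / 4) (q / 8) (q / 16) &&
    wordTest (mQ q 2) (q + q / 4 + q / 8 + q / 16) (q / 2 + 1) (q / 4) (q / 8) (q / 16) &&
    wordTest (mQ q 4) (q + q / 8 + q / 16) (q / 2) (q / 4 + 1) (q / 8) (q / 16) &&
    wordTest (mQ q 8) (q + q / 16) (q / 2) (q / 4) (q / 8 + 1) (q / 16) &&
    wordTest (mQ q 16) q (q / 2) (q / 4) (q / 8) (q / 16 + 1)) 32 = true := by decide +kernel

theorem winv_ok : allBelow (fun q => Nat.blt (invC q) 32 && Nat.beq (mQ q (invC q)) 0 &&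
    allBelow (fun r => !Nat.beq (mQ r (invC q)) 0 || Nat.beq r q) 32) 32 = true := by decide +kernel

/-- A word commutes with all four involutions only if it is central. -/
def moved (q : ℕ) : Bool :=
  Nat.beq (mQ (mQ q 2) 1) (mQ 2 q) || Nat.beq (mQ (mQ q 4) 1) (mQ 4 q) ||
    Nat.beq (mQ (mQ q 8) 1) (mQ 8 q) || Nat.beq (mQ (mQ q 16) 1) (mQ 16 q)

theorem moved_ok : allBelow (fun q => Nat.beq q 0 || Nat.beq q 1 || moved q) 32 = true := by
  decide +kernel

theorem five_ok : Nat.beq u4code 30 && Nat.beq (mQ 30 30) 0 = true := by decide +kernel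

theorem mQ_lt {q r : ℕ} (hq : q < 32) (hr : r < 32) : mQ q r < 32 := by
  have h := word_lt
  simp only [Bool.and_eq_true] at h
  simpa using allBelow_spec (allBelow_spec h.1 q hq) r hr

theorem actQ_lt {s q : ℕ} (hs : s < 60) (hq : q < 32) : actQ s q < 32 := by
  have h := word_lt
  simp only [Bool.and_eq_true] at h
  simpa using allBelow_spec (allBelow_spec (of_decide_eq_true h.2) s hs) q hq

theorem gcode_lt (i : ℕ) : gcode i < 32 := by
  unfold gcode u4code; split <;> omega

end Model

/-- Four pairwise anticommuting involutions with central commutator `z`. -/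
structure Anti {G : Type*} [Group G] (z a b c d : G) : Prop where
  zz : z * z = 1
  zne : z ≠ 1
  aa : a * a = 1
  bb : b * b = 1
  cc : c * c = 1
  dd : d * d = 1
  za : Commute z a
  zb : Commute z b
  zc : Commute z c
  zd : Commute z d
  ba : b * a = z * (a * b)
  ca : c * a = z * (a * c)
  cb : c * b = z * (b * c)
  da : d * a = z * (a * d)
  db : d * b = z * (b * d)
  dc : d * c = z * (c * d)

theorem pow_parity {G : Type*} [Group G] {x : G} (hx : x * x = 1) {m n : ℕ} (h : par m n = true) :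
    x ^ m = x ^ n := by
  rw [pow_eq_pow_mod m (show x ^ 2 = 1 by rw [pow_two, hx]), pow_eq_pow_mod n (show x ^ 2 = 1 by rw [pow_two, hx]),
    Nat.eq_of_beq_eq_true h]

theorem pow_swap {G : Type*} [Group G] {z x y : G} (hzy : Commute z y) (hzx : Commute z x)
    (h : x * y = z * (y * x)) : ∀ n : ℕ, x ^ n * y = z ^ n * (y * x ^ n)
  | 0 => by simp
  | n + 1 => by
    rw [pow_succ x, mul_assoc, h, ← mul_assoc, ← (hzx.pow_right n).eq, mul_assoc, ← mul_assoc (x ^ n) y x,
      pow_swap hzy hzx h n, mul_assoc (z ^ n), mul_assoc y, ← pow_succ x, ← mul_assoc z, ← pow_succ' z]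

/-- The value of a word. -/
def wval {G : Type*} [Group G] (z a b c d : G) (q : ℕ) : G :=
  z ^ q * a ^ (q / 2) * b ^ (q / 4) * c ^ (q / 8) * d ^ (q / 16)

namespace Anti

variable {G : Type*} [Group G] {z a b c d : G} (A : Anti z a b c d)
include A

theorem wval_eq {w m1 m2 m3 m4 m5 : ℕ} (h : wordTest w m1 m2 m3 m4 m5 = true) :
    wval z a b c d w = z ^ m1 * a ^ m2 * b ^ m3 * c ^ m4 * d ^ m5 := by
  simp only [wordTest, Bool.and_eq_true] at h
  obtain ⟨⟨⟨⟨h1, h2⟩, h3⟩, h4⟩, h5⟩ := h
  simp only [wval, pow_parity A.zz h1, pow_parity A.aa h2, pow_parity A.bb h3, pow_parity A.cc h4,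
    pow_parity A.dd h5]

theorem val_zero : wval z a b c d 0 = 1 := by simp [wval]

theorem val_one : wval z a b c d 1 = z := by simp [wval]

theorem val_two : wval z a b c d 2 = a := by
  rw [A.wval_eq (show wordTest 2 0 1 0 0 0 = true from rfl)]
  simp

theorem val_four : wval z a b c d 4 = b := by
  rw [A.wval_eq (show wordTest 4 0 0 1 0 0 = true from rfl)]
  simp

theorem val_eight : wval z a b c d 8 = c := by
  rw [A.wval_eq (show wordTest 8 0 0 0 1 0 = true from rfl)]
  simp

theorem val_sixteen : wval z a b c d 16 = d := by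
  rw [A.wval_eq (show wordTest 16 0 0 0 0 1 = true from rfl)]
  simp

theorem val_thirty : wval z a b c d 30 = a * b * c * d := by
  rw [A.wval_eq (show wordTest 30 0 1 1 1 1 = true from rfl)]
  simp

theorem gens_step {q : ℕ} (hq : q < 32) :
    wval z a b c d (mQ q 1) = wval z a b c d q * z ∧
    wval z a b c d (mQ q 2) = wval z a b c d q * a ∧
    wval z a b c d (mQ q 4) = wval z a b c d q * b ∧
    wval z a b c d (mQ q 8) = wval z a b c d q * c ∧
    wval z a b c d (mQ q 16) = wval z a b c d q * d := by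
  have h := allBelow_spec gen_ok q hq
  simp only [Bool.and_eq_true] at h
  obtain ⟨⟨⟨⟨h1, h2⟩, h3⟩, h4⟩, h5⟩ := h
  have hc : ∀ (n : ℕ) (p x : G), Commute z p → p * (z ^ n * x) = z ^ n * (p * x) := fun n p x hp => by
    rw [← mul_assoc, ← (hp.pow_left n).eq, mul_assoc]
  have p2 := fun n => A.za.pow_right n
  have p3 := fun n => A.zb.pow_right n
  have p4 := fun n => A.zc.pow_right n
  have p5 := fun n => A.zd.pow_right n
  refine ⟨?_, ?_, ?_, ?_, ?_⟩
  · rw [A.wval_eq h1, wval, pow_succ]
    simp only [mul_assoc]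
    rw [← (p5 (q / 16)).eq, ← mul_assoc (c ^ (q / 8)) z, ← (p4 _).eq, mul_assoc z, ← mul_assoc (b ^ (q / 4)) z,
      ← (p3 _).eq, mul_assoc z, ← mul_assoc (a ^ (q / 2)) z, ← (p2 _).eq, mul_assoc z]
  · rw [A.wval_eq h2, wval, pow_add, pow_add, pow_add, pow_succ a]
    simp only [mul_assoc]
    rw [pow_swap A.za A.zd A.da, hc _ _ _ (p4 _), hc _ _ _ (p3 _), hc _ _ _ (p2 _),
      ← mul_assoc (c ^ (q / 8)) a, pow_swap A.za A.zc A.ca]
    simp only [mul_assoc]
    rw [hc _ _ _ (p3 _), hc _ _ _ (p2 _), ← mul_assoc (b ^ (q / 4)) a, pow_swap A.za A.zb A.ba]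
    simp only [mul_assoc]
    rw [hc _ _ _ (p2 _)]
    simp only [← mul_assoc]
    simp only [← pow_add]
    rw [show q + q / 16 + q / 8 + q / 4 = q + q / 4 + q / 8 + q / 16 by ring]
  · rw [A.wval_eq h3, wval, pow_add, pow_add, pow_succ b]
    simp only [mul_assoc]
    rw [pow_swap A.zb A.zd A.db, hc _ _ _ (p4 _), hc _ _ _ (p3 _), hc _ _ _ (p2 _),
      ← mul_assoc (c ^ (q / 8)) b, pow_swap A.zb A.zc A.cb]
    simp only [mul_assoc]
    rw [hc _ _ _ (p3 _), hc _ _ _ (p2 _)]
    simp only [← mul_assoc]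
    simp only [← pow_add]
    rw [show q + q / 16 + q / 8 = q + q / 8 + q / 16 by ring]
  · rw [A.wval_eq h4, wval, pow_add, pow_succ c]
    simp only [mul_assoc]
    rw [pow_swap A.zc A.zd A.dc, hc _ _ _ (p4 _), hc _ _ _ (p3 _), hc _ _ _ (p2 _)]
  · rw [A.wval_eq h5, wval, pow_succ d, ← mul_assoc]

theorem step_bit {q g : ℕ} {x : G} (e : Bool) (hx : x * x = 1)
    (hg : wval z a b c d (mQ q g) = wval z a b c d q * x) :
    wval z a b c d (cond e (mQ q g) q) = wval z a b c d q * x ^ e.toNat := by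
  cases e <;> simp [hg]

theorem pow_bit {x : G} (hx : x * x = 1) (r i : ℕ) : x ^ (bit r i).toNat = x ^ (r / 2 ^ i) := by
  refine pow_parity hx ?_
  unfold bit par
  rcases Nat.mod_two_eq_zero_or_one (r / 2 ^ i) with h | h <;> simp [h] <;> rfl

theorem lt_step {q g : ℕ} (e : Bool) (hq : q < 32) (hg : g < 32) : cond e (mQ q g) q < 32 := by
  cases e
  exacts [hq, mQ_lt hq hg]

/-- The evaluation is multiplicative. -/
theorem val_mul {q r : ℕ} (hq : q < 32) (hr : r < 32) :
    wval z a b c d (mQ q r) = wval z a b c d q * wval z a b c d r := by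
  rw [Nat.eq_of_beq_eq_true (allBelow_spec (allBelow_spec chain_ok q hq) r hr)]
  simp only [stepU, stepZ, gcode]
  have l0 := A.lt_step (bit r 0) hq (show 1 < 32 by omega)
  have l1 := A.lt_step (bit r 1) l0 (show 2 < 32 by omega)
  have l2 := A.lt_step (bit r 2) l1 (show 4 < 32 by omega)
  have l3 := A.lt_step (bit r 3) l2 (show 8 < 32 by omega)
  rw [A.step_bit _ A.dd (A.gens_step l3).2.2.2.2, A.step_bit _ A.cc (A.gens_step l2).2.2.2.1,
    A.step_bit _ A.bb (A.gens_step l1).2.2.1, A.step_bit _ A.aa (A.gens_step l0).2.1,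
    A.step_bit _ A.zz (A.gens_step hq).1, A.pow_bit A.zz, A.pow_bit A.aa, A.pow_bit A.bb,
    A.pow_bit A.cc, A.pow_bit A.dd]
  simp only [wval, mul_assoc, pow_zero, Nat.div_one]
  norm_num

theorem eq_zero_of_val {q : ℕ} (hq : q < 32) (h : wval z a b c d q = 1) : q = 0 := by
  have h' := allBelow_spec moved_ok q hq
  simp only [Bool.or_eq_true, moved] at h'
  have key : ∀ {g : ℕ}, g < 32 → mQ (mQ q g) 1 = mQ g q → False := by
    intro g hg he
    have := congrArg (wval z a b c d) he
    rw [(A.gens_step (mQ_lt hq hg)).1, A.val_mul hq hg, A.val_mul hg hq, h, one_mul, mul_one] at this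
    exact A.zne (mul_eq_left.1 this)
  rcases h' with (h' | h') | ((h' | h') | h') | h'
  · exact Nat.eq_of_beq_eq_true h'
  · rw [Nat.eq_of_beq_eq_true h', A.val_one] at h
    exact absurd h A.zne
  all_goals exact (key (by omega) (Nat.eq_of_beq_eq_true h')).elim

theorem val_inj {q r : ℕ} (hq : q < 32) (hr : r < 32) (h : wval z a b c d q = wval z a b c d r) : q = r := by
  have hi := allBelow_spec winv_ok r hr
  simp only [Bool.and_eq_true, Nat.blt_eq] at hi
  have h0 := congrArg (wval z a b c d) (Nat.eq_of_beq_eq_true hi.1.2)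
  rw [A.val_mul hr hi.1.1, A.val_zero, ← h, ← A.val_mul hq hi.1.1] at h0
  have := allBelow_spec hi.2 q hq
  simp only [A.eq_zero_of_val (mQ_lt hq hi.1.1) h0, Bool.or_eq_true] at this
  rcases this with e | e
  · simp at e
  · exact Nat.eq_of_beq_eq_true e

theorem thirty_sq : a * b * c * d * (a * b * c * d) = 1 := by
  have h := five_ok
  simp only [Bool.and_eq_true] at h
  rw [← A.val_thirty, ← A.val_mul (by omega) (by omega), Nat.eq_of_beq_eq_true (of_decide_eq_true h.2), A.val_zero]

theorem thirty_mul {q : ℕ} (hq : q < 32) :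
    wval z a b c d (mQ q u4code) = wval z a b c d q * (a * b * c * d) := by
  rw [show u4code = 30 from rfl, A.val_mul hq (by omega), A.val_thirty]

end Anti

end CfsgLib.JThree
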