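import Cfsg.Agent.Lib.JThree.OuterExists
import Cfsg.Agent.Lib.JThree.Words
import Cfsg.Agent.Lib.PSL2.Icosahedral

/-!
A complement to the extraspecial group and five anticommuting singular elements permuted by it.
-/

set_option autoImplicit false
set_option linter.unusedSectionVars false
set_option maxRecDepth 10000

namespace CfsgLib.JThree

open Subgroup CfsgLib.HJType CfsgLib.PSL2

/-- The first double transposition fixing the last point. -/
def kA : A5 := ⟨Equiv.swap 0 1 * Equiv.swap 2 3, Equiv.Perm.mem_alternatingGroup.2 (by decide)⟩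

/-- The second double transposition fixing the last point. -/
def kB : A5 := ⟨Equiv.swap 0 2 * Equiv.swap 1 3, Equiv.Perm.mem_alternatingGroup.2 (by decide)⟩

/-- A three-cycle fixing the last point. -/
def rC : A5 := ⟨Equiv.swap 0 1 * Equiv.swap 1 2, Equiv.Perm.mem_alternatingGroup.2 (by decide)⟩

theorem k_facts : kA * kA = 1 ∧ kA ≠ 1 ∧ kB * kB = 1 ∧ kB ≠ 1 ∧ kA * kB = kB * kA ∧
    rC * kA * rC⁻¹ * (rC * kA * rC⁻¹) = 1 ∧ rC * kA * rC⁻¹ ≠ 1 ∧
    kA * (rC * kA * rC⁻¹) = (rC * kA * rC⁻¹) * kA ∧ rC ^ 3 = 1 := by decide +kernel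

theorem stab_four : ∀ s : A5, s.1 4 = 4 → ∃ a : Fin 2, ∃ b : Fin 2, ∃ c : Fin 3,
    s = kA ^ (a : ℕ) * kB ^ (b : ℕ) * rC ^ (c : ℕ) := by decide +kernel

/-- An element taking the last point to `i`. -/
def rot (i : Fin 5) : A5 := icoY ^ ((i : ℕ) + 1)

theorem rot_ok : ∀ i : Fin 5, (rot i).1 4 = i := by decide +kernel

theorem two_trans : ∀ i j k : Fin 5, i ≠ j → k ≠ 4 → ∃ s : A5, s.1 i = 4 ∧ s.1 j = k := by decide +kernel

variable {G : Type*} [Group G] [Finite G] {z : G} {Q : Subgroup G}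

/-- A complement with five singular elements permuted as five points. -/
structure Lifts (z : G) (Q : Subgroup G) (H : Hyp z Q) where
  ψ : A5 →* G
  mem : ∀ s, ψ s ∈ centralizer ({z} : Set G)
  sect : ∀ s, H.φ ⟨ψ s, mem s⟩ = s
  u : Fin 5 → G
  sing : ∀ i, Sing z Q (u i)
  anti : ∀ i j, i ≠ j → u i * u j = z * (u j * u i)
  conj : ∀ (s : A5) (i : Fin 5), ψ s * u i * (ψ s)⁻¹ = u (s.1 i)

namespace Lifts

variable {H : Hyp z Q} (L : Lifts z Q H)
include L

theorem toAnti : Anti z (L.u 0) (L.u 1) (L.u 2) (L.u 3) :=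
  { zz := H.zz
    zne := H.z_ne
    aa := (L.sing 0).2.1
    bb := (L.sing 1).2.1
    cc := (L.sing 2).2.1
    dd := (L.sing 3).2.1
    za := (H.comm_zQ (L.sing 0).1).symm
    zb := (H.comm_zQ (L.sing 1).1).symm
    zc := (H.comm_zQ (L.sing 2).1).symm
    zd := (H.comm_zQ (L.sing 3).1).symm
    ba := L.anti 1 0 (by decide)
    ca := L.anti 2 0 (by decide)
    cb := L.anti 2 1 (by decide)
    da := L.anti 3 0 (by decide)
    db := L.anti 3 1 (by decide)
    dc := L.anti 3 2 (by decide) }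

/-- The value of a word. -/
def word (q : ℕ) : G := wval z (L.u 0) (L.u 1) (L.u 2) (L.u 3) q

theorem word_mem (q : ℕ) : L.word q ∈ Q :=
  mul_mem (mul_mem (mul_mem (mul_mem (pow_mem H.hzQ _) (pow_mem (L.sing 0).1 _))
    (pow_mem (L.sing 1).1 _)) (pow_mem (L.sing 2).1 _)) (pow_mem (L.sing 3).1 _)

theorem word_surj {x : G} (hx : x ∈ Q) : ∃ q < 32, L.word q = x := by
  classical
  have := Fintype.ofFinite G
  have hS : (Finset.univ.filter fun x : G => x ∈ Q).card = 32 := by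
    rw [← Fintype.card_subtype, ← Nat.card_eq_fintype_card]; exact H.card
  have e : (Finset.range 32).image L.word = Finset.univ.filter fun x : G => x ∈ Q := by
    refine Finset.eq_of_subset_of_card_le (fun y hy => ?_) ?_
    · obtain ⟨q, -, rfl⟩ := Finset.mem_image.1 hy
      exact Finset.mem_filter.2 ⟨Finset.mem_univ _, L.word_mem q⟩
    · rw [hS, Finset.card_image_of_injOn (f := L.word) fun a ha b hb h =>
        L.toAnti.val_inj (Finset.mem_range.1 ha) (Finset.mem_range.1 hb) h, Finset.card_range]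
  obtain ⟨q, hq, h⟩ := Finset.mem_image.1 (e ▸ Finset.mem_filter.2 ⟨Finset.mem_univ x, hx⟩)
  exact ⟨q, Finset.mem_range.1 hq, h⟩

/-- The last element is the product of the others up to the central involution. -/
theorem last_eqv : Eqv z (L.u 4) (L.u 0 * L.u 1 * L.u 2 * L.u 3) := by
  set m := L.u 0 * L.u 1 * L.u 2 * L.u 3 with hm
  have hmQ : m ∈ Q := mul_mem (mul_mem (mul_mem (L.sing 0).1 (L.sing 1).1) (L.sing 2).1) (L.sing 3).1
  have hm2 : m * m = 1 := L.toAnti.thirty_sq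
  have hcz : ∀ x ∈ Q, ∀ y : G, x * (z * y) = z * (x * y) := fun x hx y => by
    rw [← mul_assoc, H.comm_zQ hx, mul_assoc]
  -- left multiplication by a generator
  have hcomm : ∀ i : Fin 5, i ≠ 4 → L.u 4 * m * L.u i = L.u i * (L.u 4 * m) := by
    intro i hi
    have a4 := L.anti 4 i (Ne.symm hi)
    suffices h : m * L.u i = z * (L.u i * m) by
      rw [mul_assoc, h, hcz _ (L.sing 4).1, ← mul_assoc (L.u 4), a4, mul_assoc z, H.z_mul_z_mul, mul_assoc]
    have sw : ∀ j, j ≠ i → ∀ y : G, L.u j * (L.u i * y) = z * (L.u i * (L.u j * y)) := fun j hj y => by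
      rw [← mul_assoc, L.anti j i hj, mul_assoc, mul_assoc]
    have sf : ∀ j, j ≠ i → L.u j * L.u i = z * (L.u i * L.u j) := fun j hj => L.anti j i hj
    have cz := fun j y => hcz _ (L.sing j).1 y
    have hz3 : ∀ y : G, z * (z * (z * y)) = z * y := fun y => by rw [H.z_mul_z_mul]
    fin_cases i <;> simp only [Fin.reduceFinMk, Fin.zero_eta, Fin.mk_one] at sw sf hi ⊢
    · rw [hm]; simp only [mul_assoc]
      rw [sf 3 (by decide), cz, cz, cz, sw 2 (by decide), cz, cz, sw 1 (by decide), cz, H.z_mul_z_mul]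
    · rw [hm]; simp only [mul_assoc]
      rw [sf 3 (by decide), cz, cz, cz, sw 2 (by decide), cz, cz, H.z_mul_z_mul,
        sw 0 (by decide)]
    · rw [hm]; simp only [mul_assoc]
      rw [sf 3 (by decide), cz, cz, cz, sw 1 (by decide), cz, H.z_mul_z_mul, sw 0 (by decide)]
    · rw [hm]; simp only [mul_assoc]
      rw [sw 2 (by decide), cz, cz, sw 1 (by decide), cz, H.z_mul_z_mul, sw 0 (by decide)]
    · exact absurd rfl hi
  have hall : ∀ q, L.word q * (L.u 4 * m) = L.u 4 * m * L.word q := by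
    intro q
    have hb : ∀ i : Fin 5, i ≠ 4 → Commute (L.u i) (L.u 4 * m) := fun i hi => (hcomm i hi).symm
    exact Commute.mul_left (Commute.mul_left (Commute.mul_left (Commute.mul_left
      (Commute.pow_left (show Commute z (L.u 4 * m) from (H.comm_zQ (mul_mem (L.sing 4).1 hmQ)).symm) _)
      ((hb 0 (by decide)).pow_left _)) ((hb 1 (by decide)).pow_left _))
      ((hb 2 (by decide)).pow_left _)) ((hb 3 (by decide)).pow_left _)
  rcases H.cen _ (mul_mem (L.sing 4).1 hmQ) (fun x hx => by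
    obtain ⟨q, -, rfl⟩ := L.word_surj hx
    exact hall q) with h | h
  · left
    calc L.u 4 = L.u 4 * m * m := by rw [mul_assoc, hm2, mul_one]
      _ = m := by rw [h, one_mul]
  · right
    calc L.u 4 = L.u 4 * m * m := by rw [mul_assoc, hm2, mul_one]
      _ = z * m := by rw [h]

/-- Multiplying the five elements by `z`. -/
def flip : Lifts z Q H where
  ψ := L.ψ
  mem := L.mem
  sect := L.sect
  u i := z * L.u i
  sing i := H.sing_zmul (L.sing i)
  anti i j hij := by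
    rw [mul_assoc, ← mul_assoc (L.u i), H.comm_zQ (L.sing i).1, mul_assoc, H.z_mul_z_mul, L.anti i j hij,
      mul_assoc z (L.u j), ← mul_assoc (L.u j) z, H.comm_zQ (L.sing j).1, mul_assoc, H.z_mul_z_mul]
  conj s i := by
    rw [← mul_assoc, H.comm_z (L.mem s), ← L.conj s i]
    group

end Lifts

/-- A splitting of the centraliser. -/
theorem exists_section (H : Hyp z Q) (hout : ∃ t, Outer z Q t) :
    ∃ ψ : A5 →* G, ∃ hm : ∀ s, ψ s ∈ centralizer ({z} : Set G), ∀ s, H.φ ⟨ψ s, hm s⟩ = s := by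
  obtain ⟨t, ht⟩ := hout
  have hxy : icoX * icoY * (icoX * icoY) = 1 := by rw [← pow_two]; exact icoXY_pow
  obtain ⟨c₀, -, ha, haφ⟩ := H.outer_lift ht hxy icoXY_ne
  set a := c₀ * t * c₀⁻¹
  obtain ⟨c, hc, hcφ⟩ := H.exists_lift icoX
  have hc3 : c ^ 3 ∈ Q := (H.ker (⟨c, hc⟩ ^ 3)).1 (by rw [map_pow, hcφ, icoX_pow])
  set x := c ^ 4 with hx
  have hxC : x ∈ centralizer ({z} : Set G) := pow_mem hc 4
  have hxφ : H.φ ⟨x, hxC⟩ = icoX := by
    show H.φ (⟨c, hc⟩ ^ 4) = icoX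
    rw [map_pow, hcφ, pow_succ, icoX_pow, one_mul]
  have hx3 : x ^ 3 = 1 := by
    have e : x ^ 3 = c ^ 3 * c ^ 3 * (c ^ 3 * c ^ 3) := by rw [hx, ← pow_mul, ← pow_add, ← pow_add]
    rw [e]
    rcases H.sq _ hc3 with h | h <;> rw [h]
    · rw [one_mul]
    · exact H.zz
  have key : ∀ a' : G, ∀ ha' : a' ∈ centralizer ({z} : Set G), H.φ ⟨a', ha'⟩ = icoX * icoY →
      H.φ ⟨x⁻¹ * a', mul_mem (inv_mem hxC) ha'⟩ = icoY := by
    intro a' ha' h
    show H.φ (⟨x, hxC⟩⁻¹ * ⟨a', ha'⟩) = icoY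
    rw [map_mul, map_inv, hxφ, h, inv_mul_cancel_left]
  set y := x⁻¹ * a with hy
  have hyC : y ∈ centralizer ({z} : Set G) := mul_mem (inv_mem hxC) ha.1
  have hyφ : H.φ ⟨y, hyC⟩ = icoY := key a ha.1 haφ
  have hy5Q : y ^ 5 ∈ Q := (H.ker (⟨y, hyC⟩ ^ 5)).1 (by rw [map_pow, hyφ, icoY_pow])
  have hy4 : y ^ 4 ∉ Q := by
    rw [H.not_mem_iff (pow_mem hyC 4)]
    show H.φ (⟨y, hyC⟩ ^ 4) ≠ 1
    rw [map_pow, hyφ]
    decide +kernel
  have hfix := H.five_fix (pow_mem hyC 4) (H.pow_twenty hyC icoY_pow hyφ) hy4 hy5Q (Or.inl (by group))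
  -- the corrected involution
  obtain ⟨a', ha'C, ha'2, ha'φ, hy'⟩ : ∃ a' : G, ∃ h : a' ∈ centralizer ({z} : Set G), a' * a' = 1 ∧
      H.φ ⟨a', h⟩ = icoX * icoY ∧ (x⁻¹ * a') ^ 5 = 1 := by
    rcases hfix with h | h
    · exact ⟨a, ha.1, ha.2.1, haφ, h⟩
    · refine ⟨z * a, mul_mem H.zC ha.1, ?_, ?_, ?_⟩
      · rw [mul_assoc, ← mul_assoc a z a, H.comm_z ha.1, mul_assoc, H.z_mul_z_mul, ha.2.1]
      · show H.φ (⟨z, H.zC⟩ * ⟨a, ha.1⟩) = _
        rw [map_mul, (H.ker ⟨z, H.zC⟩).2 H.hzQ, one_mul, haφ]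
      · have e : x⁻¹ * (z * a) = z * y := by
          rw [← mul_assoc, H.comm_z (inv_mem hxC), mul_assoc]
        rw [e, Commute.mul_pow (show Commute z y from (H.comm_z hyC).symm), h, pow_succ z 4,
          show z ^ 4 = (z * z) * (z * z) by rw [← pow_two, ← pow_two, ← pow_mul], H.zz, one_mul, one_mul, H.zz]
  have hyφ' := key a' ha'C ha'φ
  obtain ⟨f, -, hfx, hfy⟩ := exists_hom_alt_five (x := (⟨x, hxC⟩ : centralizer ({z} : Set G)))
    (y := ⟨x⁻¹ * a', mul_mem (inv_mem hxC) ha'C⟩) (Subtype.ext (by simpa using hx3))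
    (Subtype.ext (by simpa using hy')) (Subtype.ext (by simpa [pow_two] using ha'2)) (fun e => icoY_ne (by
      rw [← hyφ', e, map_one]))
  have hid : H.φ.comp f = MonoidHom.id A5 :=
    MonoidHom.eq_of_eqOn_dense ico_generates (by
      rintro _ (rfl | rfl)
      · show H.φ (f icoX) = icoX
        rw [hfx, hxφ]
      · show H.φ (f icoY) = icoY
        rw [hfy, hyφ'])
  exact ⟨(centralizer ({z} : Set G)).subtype.comp f, fun s => (f s).2, fun s => DFunLike.congr_fun hid s⟩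

/-- The five singular elements. -/
theorem exists_lifts (H : Hyp z Q) (hout : ∃ t, Outer z Q t) : Nonempty (Lifts z Q H) := by
  obtain ⟨ψ, hm, hs⟩ := exists_section H hout
  obtain ⟨hA2, hA1, hB2, hB1, hAB, hR2, hR1, hAR, hC3⟩ := k_facts
  have houter : ∀ s : A5, s * s = 1 → s ≠ 1 → Outer z Q (ψ s) := fun s h2 h1 =>
    ⟨hm s, by rw [← map_mul, h2, map_one], (H.not_mem_iff (hm s)).2 (by rw [hs]; exact h1)⟩
  have hA := houter kA hA2 hA1
  obtain ⟨⟨w, hw, hwA, -⟩, -, -⟩ := H.outer_sing hA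
  have hwA' : Fixed z Q (ψ kA) w := ⟨hw.1, Or.inl hwA⟩
  have hB := houter kB hB2 hB1
  have hwB : ψ kB * w * ψ kB = w := H.sing_fixed hA hB (by rw [hs, hs, hAB]) hw hwA'
  have fixA : ψ kA * w * (ψ kA)⁻¹ = w := by rw [H.t_inv hA]; exact hwA
  have fixB : ψ kB * w * (ψ kB)⁻¹ = w := by rw [H.t_inv hB]; exact hwB
  set t' := rC * kA * rC⁻¹ with ht'
  have hR := houter t' hR2 hR1
  have hwR : ψ t' * w * ψ t' = w := H.sing_fixed hA hR (by rw [hs, hs, hAR]) hw hwA'
  set r := ψ rC with hr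
  have hrw : Sing z Q (r * w * r⁻¹) := H.sing_conj_mem (hm rC) hw
  have hrfix : Fixed z Q (ψ t') (r * w * r⁻¹) := by
    refine ⟨hrw.1, Or.inl ?_⟩
    nth_rw 2 [← H.t_inv hR]
    rw [ht', map_mul, map_mul, map_inv]
    calc r * ψ kA * r⁻¹ * (r * w * r⁻¹) * (r * ψ kA * r⁻¹)⁻¹ = r * (ψ kA * w * (ψ kA)⁻¹) * r⁻¹ := by
          group
      _ = r * w * r⁻¹ := by rw [fixA]
  have fixC : r * w * r⁻¹ = w := by
    rcases H.outer_sing_unique hR hw ⟨hw.1, Or.inl hwR⟩ hrw hrfix with h | h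
    · exact h
    exfalso
    have h3 : r ^ 3 = 1 := by rw [hr, ← map_pow, hC3, map_one]
    have hzr : r * z * r⁻¹ = z := by rw [H.comm_z (hm rC), mul_inv_cancel_right]
    have e : r ^ 3 * w * (r ^ 3)⁻¹ = z * w := by
      calc r ^ 3 * w * (r ^ 3)⁻¹ = r * (r * (r * w * r⁻¹) * r⁻¹) * r⁻¹ := by rw [pow_three]; group
        _ = r * (r * (z * w) * r⁻¹) * r⁻¹ := by rw [h]
        _ = r * ((r * z * r⁻¹) * (r * w * r⁻¹)) * r⁻¹ := by group
        _ = r * (z * (z * w)) * r⁻¹ := by rw [hzr, h]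
        _ = r * w * r⁻¹ := by rw [H.z_mul_z_mul]
        _ = z * w := h
    rw [h3] at e
    simp at e
    exact H.z_ne e
  have hstab : ∀ s : A5, s.1 4 = 4 → ψ s * w * (ψ s)⁻¹ = w := by
    let F : Subgroup A5 :=
      { carrier := {s | ψ s * w * (ψ s)⁻¹ = w}
        one_mem' := by simp
        mul_mem' := fun {a b} ha hb => by
          show ψ (a * b) * w * (ψ (a * b))⁻¹ = w
          rw [map_mul]
          calc ψ a * ψ b * w * (ψ a * ψ b)⁻¹ = ψ a * (ψ b * w * (ψ b)⁻¹) * (ψ a)⁻¹ := by group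
            _ = w := by rw [show ψ b * w * (ψ b)⁻¹ = w from hb]; exact ha
        inv_mem' := fun {a} ha => by
          show ψ a⁻¹ * w * (ψ a⁻¹)⁻¹ = w
          rw [map_inv]
          calc (ψ a)⁻¹ * w * (ψ a)⁻¹⁻¹ = (ψ a)⁻¹ * (ψ a * w * (ψ a)⁻¹) * ψ a := by
                rw [show ψ a * w * (ψ a)⁻¹ = w from ha]; group
            _ = w := by group }
    intro s hs4
    obtain ⟨a, b, c, rfl⟩ := stab_four s hs4
    exact (mul_mem (mul_mem (pow_mem (show kA ∈ F from fixA) _) (pow_mem (show kB ∈ F from fixB) _))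
      (pow_mem (show rC ∈ F from fixC) _) : _ ∈ F)
  let u : Fin 5 → G := fun i => ψ (rot i) * w * (ψ (rot i))⁻¹
  have hconj : ∀ (s : A5) (i : Fin 5), ψ s * u i * (ψ s)⁻¹ = u (s.1 i) := by
    intro s i
    have h := hstab ((rot (s.1 i))⁻¹ * (s * rot i)) (by
      show (rot (s.1 i)).1⁻¹ (s.1 ((rot i).1 4)) = 4
      rw [rot_ok, Equiv.Perm.inv_eq_iff_eq, rot_ok])
    rw [map_mul, map_inv, map_mul] at h
    calc ψ s * u i * (ψ s)⁻¹ = ψ (rot (s.1 i)) * ((ψ (rot (s.1 i)))⁻¹ * (ψ s * ψ (rot i)) * w *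
          ((ψ (rot (s.1 i)))⁻¹ * (ψ s * ψ (rot i)))⁻¹) * (ψ (rot (s.1 i)))⁻¹ := by simp only [u]; group
      _ = _ := by rw [h]
  have hsing : ∀ i, Sing z Q (u i) := fun i => H.sing_conj_mem (hm _) hw
  have hsep : ∀ i j, i ≠ j → ¬ Eqv z (u j) (u i) := by
    intro i j hij he
    have hk : ∀ k : Fin 5, Eqv z (u k) (u 4) := by
      intro k
      by_cases hk4 : k = 4
      · rw [hk4]; exact H.eqv_refl _
      obtain ⟨s, hsi, hsj⟩ := two_trans i j k hij hk4
      have := H.eqv_conj (hm s) he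
      rwa [hconj, hconj, hsi, hsj] at this
    set g := ψ icoY with hg
    have hgQ : g ∉ Q := (H.not_mem_iff (hm _)).2 (by rw [hs]; exact icoY_ne)
    have hg5 : g ^ 5 = 1 := by rw [hg, ← map_pow, icoY_pow, map_one]
    have hfix : Eqv z (g * u 4 * g⁻¹) (u 4) := by rw [hconj]; exact hk _
    rcases H.five_fix (hm _) hg5 hgQ (hsing 4).1 hfix with e | e
    exacts [(hsing 4).2.2.1 e, (hsing 4).2.2.2 e]
  exact ⟨{ ψ := ψ, mem := hm, sect := hs, u := u, sing := hsing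
           anti := fun i j hij => H.sing_anticomm (hsing i) (hsing j) (hsep i j hij)
           conj := hconj }⟩

/-- The five elements can be taken with product one. -/
theorem exists_lifts_prod (H : Hyp z Q) (hout : ∃ t, Outer z Q t) :
    ∃ L : Lifts z Q H, L.u 4 = L.u 0 * L.u 1 * L.u 2 * L.u 3 := by
  obtain ⟨L⟩ := exists_lifts H hout
  rcases L.last_eqv with h | h
  · exact ⟨L, h⟩
  refine ⟨L.flip, ?_⟩
  show z * L.u 4 = z * L.u 0 * (z * L.u 1) * (z * L.u 2) * (z * L.u 3)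
  have e0 := H.comm_zQ (L.sing 0).1
  have e2 := H.comm_zQ (L.sing 2).1
  calc z * L.u 4 = L.u 0 * L.u 1 * L.u 2 * L.u 3 := by rw [h, H.z_mul_z_mul]
    _ = (z * z) * L.u 0 * L.u 1 * ((z * z) * L.u 2 * L.u 3) := by rw [H.zz]; group
    _ = z * (z * L.u 0) * L.u 1 * (z * (z * L.u 2) * L.u 3) := by group
    _ = z * (L.u 0 * z) * L.u 1 * (z * (L.u 2 * z) * L.u 3) := by rw [e0, e2]
    _ = _ := by group

end CfsgLib.JThree
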