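import Cfsg.Agent.Lib.JThree.Table

/-! The position of a coded triple in the table, found by bisection. -/

set_option autoImplicit false
set_option maxRecDepth 100000

namespace CfsgLib.JThree

/-- The position of a triple. -/
def findI (key : ℕ) : ℕ :=
  bif Nat.blt key 690425891991 then
   bif Nat.blt key 464692743002 then
    bif Nat.blt key 281346641571 then
     bif Nat.blt key 191957897312 then
      bif Nat.blt key 128084036997 then
       bif Nat.blt key 128078057330 then
        bif Nat.blt key 128070259022 then
         0
        else
         bif Nat.blt key 128074158176 then
          1
         else
          2
       else
        bif Nat.blt key 128080137971 then
         3
        else
         bif Nat.blt key 128081448611 then
          4
         else
          5
      else
       bif Nat.blt key 128087936151 then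
        bif Nat.blt key 128085347765 then
         6
        else
         bif Nat.blt key 128087428406 then
          7
         else
          8
       else
        bif Nat.blt key 128091327560 then
         9
        else
         bif Nat.blt key 191950606749 then
          10
         else
          11
     else
      bif Nat.blt key 191978965850 then
       bif Nat.blt key 191969086901 then
        bif Nat.blt key 191961796466 then
         12
        else
         bif Nat.blt key 191967776133 then
          13
         else
          14
       else
        bif Nat.blt key 191971675287 then
         15
        else
         bif Nat.blt key 191975066696 then
          16
         else
          17
      else
       bif Nat.blt key 277061815368 then
        bif Nat.blt key 277044645984 then
         18
        else
         bif Nat.blt key 277048545138 then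
          19
         else
          20
       else
        bif Nat.blt key 277069105803 then
         bif Nat.blt key 277065714522 then
          21
         else
          22
        else
         bif Nat.blt key 281339351136 then
          23
         else
          24
    else
     bif Nat.blt key 345240259656 then
      bif Nat.blt key 345219191118 then
       bif Nat.blt key 281363810955 then
        bif Nat.blt key 281351327109 then
         25
        else
         bif Nat.blt key 281356520520 then
          26
         else
          27
       else
        bif Nat.blt key 345213997707 then
         28
        else
         bif Nat.blt key 345217896861 then
          29
         else
          30
      else
       bif Nat.blt key 345230380707 then
        bif Nat.blt key 345223090272 then
         31
        else
         bif Nat.blt key 345226989426 then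
          32
         else
          33
       else
        bif Nat.blt key 345235066245 then
         bif Nat.blt key 345234279861 then
          34
         else
          35
        else
         bif Nat.blt key 345238965399 then
          36
         else
          37
     else
      bif Nat.blt key 443482442903 then
       bif Nat.blt key 345248057964 then
        bif Nat.blt key 345244158810 then
         38
        else
         bif Nat.blt key 345244420938 then
          39
         else
          40
       else
        bif Nat.blt key 345248320092 then
         41
        else
         bif Nat.blt key 443466567776 then
          42
         else
          43
      else
       bif Nat.blt key 443491797596 then
        bif Nat.blt key 443487636314 then
         44
        else
         bif Nat.blt key 443491535468 then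
          45
         else
          46
       else
        bif Nat.blt key 464671674464 then
         bif Nat.blt key 464667775310 then
          47
         else
          48
        else
         bif Nat.blt key 464688843848 then
          49
         else
          50
   else
    bif Nat.blt key 541460859722 then
     bif Nat.blt key 477572959304 then
      bif Nat.blt key 473278254152 then
       bif Nat.blt key 464698198413 then
        bif Nat.blt key 464694037131 then
         51
        else
         bif Nat.blt key 464697936285 then
          52
         else
          53
       else
        bif Nat.blt key 473270963589 then
         54
        else
         bif Nat.blt key 473274862743 then
          55
         else
          56
      else
       bif Nat.blt key 473288133101 then
        bif Nat.blt key 473282153306 then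
         57
        else
         bif Nat.blt key 473286052460 then
          58
         else
          59
       else
        bif Nat.blt key 473289443741 then
         60
        else
         bif Nat.blt key 477565668741 then
          61
         else
          62
     else
      bif Nat.blt key 541436432797 then
       bif Nat.blt key 528580381292 then
        bif Nat.blt key 528555413600 then
         63
        else
         bif Nat.blt key 528576482138 then
          64
         else
          65
       else
        bif Nat.blt key 528581675421 then
         66
        else
         bif Nat.blt key 528585574575 then
          67
         else
          68
      else
       bif Nat.blt key 541449407877 then
        bif Nat.blt key 541440922251 then
         69
        else
         bif Nat.blt key 541445508851 then
          70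
         else
          71
       else
        bif Nat.blt key 541456698440 then
         bif Nat.blt key 541453307031 then
          72
         else
          73
        else
         bif Nat.blt key 541460597594 then
          74
         else
          75
    else
     bif Nat.blt key 626543447112 then
      bif Nat.blt key 605333147013 then
       bif Nat.blt key 541470476543 then
        bif Nat.blt key 541464758876 then
         76
        else
         bif Nat.blt key 541466577389 then
          77
         else
          78
       else
        bif Nat.blt key 562659707976 then
         79
        else
         bif Nat.blt key 562666998411 then
          80
         else
          81
      else
       bif Nat.blt key 626534354675 then
        bif Nat.blt key 605348235884 then
         82
        else
         bif Nat.blt key 626530472032 then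
          83
         else
          84
       else
        bif Nat.blt key 626538253701 then
         bif Nat.blt key 626534961486 then
          85
         else
          86
        else
         bif Nat.blt key 626539547958 then
          87
         else
          88
     else
      bif Nat.blt key 626555423213 then
       bif Nat.blt key 626550737547 then
        bif Nat.blt key 626547346266 then
         89
        else
         bif Nat.blt key 626547608394 then
          90
         else
          91
       else
        bif Nat.blt key 626554636701 then
         92
        else
         bif Nat.blt key 626554898829 then
          93
         else
          94
      else
       bif Nat.blt key 626560616496 then
        bif Nat.blt key 626558797983 then
         95
        else
         bif Nat.blt key 626559322367 then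
          96
         else
          97
       else
        bif Nat.blt key 690421992837 then
         bif Nat.blt key 690418110322 then
          98
         else
          99
        else
         bif Nat.blt key 690422599776 then
          100
         else
          101
  else
   bif Nat.blt key 971738467162 then
    bif Nat.blt key 788689913777 then
     bif Nat.blt key 745992031304 then
      bif Nat.blt key 690442274991 then
       bif Nat.blt key 690434984556 then
        bif Nat.blt key 690427186248 then
         102
        else
         bif Nat.blt key 690431085402 then
          103
         else
          104
       else
        bif Nat.blt key 690435246684 then
         105
        else
         bif Nat.blt key 690438375837 then
          106
         else
          107
      else
       bif Nat.blt key 690446436273 then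
        bif Nat.blt key 690442537119 then
         108
        else
         bif Nat.blt key 690443061503 then
          109
         else
          110
       else
        bif Nat.blt key 745984249507 then
         111
        else
         bif Nat.blt key 745988132150 then
          112
         else
          113
     else
      bif Nat.blt key 746009200688 then
       bif Nat.blt key 746001123741 then
        bif Nat.blt key 745996128590 then
         114
        else
         bif Nat.blt key 745997224587 then
          115
         else
          116
       else
        bif Nat.blt key 746001385869 then
         117
        else
         bif Nat.blt key 746005285023 then
          118
         else
          119
      else
       bif Nat.blt key 788669976434 then
        bif Nat.blt key 746012575586 then
         120
        else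
         bif Nat.blt key 788669369495 then
          121
         else
          122
       else
        bif Nat.blt key 788678462060 then
         bif Nat.blt key 788674562906 then
          123
         else
          124
        else
         bif Nat.blt key 788685752495 then
          125
         else
          126
    else
     bif Nat.blt key 873763408730 then
      bif Nat.blt key 809883766880 then
       bif Nat.blt key 809876377251 then
        bif Nat.blt key 809871887797 then
         127
        else
         bif Nat.blt key 809875770440 then
          128
         else
          129
       else
        bif Nat.blt key 809879669594 then
         130
        else
         bif Nat.blt key 809880963723 then
          131
         else
          132
      else
       bif Nat.blt key 809889024159 then
        bif Nat.blt key 809884862877 then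
         133
        else
         bif Nat.blt key 809888762031 then
          134
         else
          135
       else
        bif Nat.blt key 809896314722 then
         bif Nat.blt key 809892923313 then
          136
         else
          137
        else
         bif Nat.blt key 809896838978 then
          138
         else
          139
     else
      bif Nat.blt key 873775894624 then
       bif Nat.blt key 873768602013 then
        bif Nat.blt key 873764015541 then
         140
        else
         bif Nat.blt key 873767307884 then
          141
         else
          142
       else
        bif Nat.blt key 873771405170 then
         143
        else
         bif Nat.blt key 873772501167 then
          144
         else
          145
      else
       bif Nat.blt key 878067468447 then
        bif Nat.blt key 873776662449 then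
         146
        else
         bif Nat.blt key 873783953012 then
          147
         else
          148
       else
        bif Nat.blt key 878074759010 then
         bif Nat.blt key 878071367601 then
          149
         else
          150
        else
         bif Nat.blt key 878078658164 then
          151
         else
          152
   else
    bif Nat.blt key 1155083765570 then
     bif Nat.blt key 1035630594906 then
      bif Nat.blt key 971751442242 then
       bif Nat.blt key 971746248959 then
        bif Nat.blt key 971742349805 then
         153
        else
         bif Nat.blt key 971742956616 then
          154
         else
          155
       else
        bif Nat.blt key 971747543088 then
         156
        else
         bif Nat.blt key 971750346117 then
          157
         else
          158
      else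
       bif Nat.blt key 971758732677 then
        bif Nat.blt key 971755341396 then
         159
        else
         bif Nat.blt key 971755603524 then
          160
         else
          161
       else
        bif Nat.blt key 1035626105452 then
         162
        else
         bif Nat.blt key 1035629988095 then
          163
         else
          164
     else
      bif Nat.blt key 1061399791775 then
       bif Nat.blt key 1035639080532 then
        bif Nat.blt key 1035635181378 then
         165
        else
         bif Nat.blt key 1035637984407 then
          166
         else
          167
       else
        bif Nat.blt key 1035642473861 then
         168
        else
         bif Nat.blt key 1035643241814 then
          169
         else
          170
      else
       bif Nat.blt key 1091196734091 then
        bif Nat.blt key 1061403690929 then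
         171
        else
         bif Nat.blt key 1091192244637 then
          172
         else
          173
       else
        bif Nat.blt key 1091209118871 then
         bif Nat.blt key 1091200026434 then
          174
         else
          175
        else
         bif Nat.blt key 1155079882927 then
          176
         else
          177
    else
     bif Nat.blt key 1223270270294 then
      bif Nat.blt key 1155096251464 then
       bif Nat.blt key 1155088958853 then
        bif Nat.blt key 1155084372381 then
         178
        else
         bif Nat.blt key 1155087664724 then
          179
         else
          180
       else
        bif Nat.blt key 1155091762010 then
         181
        else
         bif Nat.blt key 1155092858007 then
          182
         else
          183
      else
       bif Nat.blt key 1159387825287 then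
        bif Nat.blt key 1159374850207 then
         184
        else
         bif Nat.blt key 1159382632004 then
          185
         else
          186
       else
        bif Nat.blt key 1223266371140 then
         bif Nat.blt key 1223262488497 then
          187
         else
          188
        else
         bif Nat.blt key 1223266977951 then
          189
         else
          190
     else
      bif Nat.blt key 1308361017186 then
       bif Nat.blt key 1223275463577 then
        bif Nat.blt key 1223271564423 then
         191
        else
         bif Nat.blt key 1223274367580 then
          192
         else
          193
       else
        bif Nat.blt key 1308356527732 then
         194
        else
         bif Nat.blt key 1308360410247 then
          195
         else
          196
      else
       bif Nat.blt key 1406607786905 then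
        bif Nat.blt key 1308364309401 then
         197
        else
         bif Nat.blt key 1308368406687 then
          198
         else
          199
       else
        bif Nat.blt key 1406611686059 then
         bif Nat.blt key 1406608393844 then
          200
         else
          201
        else
         bif Nat.blt key 1406615783345 then
          202
         else
          203

end CfsgLib.JThree
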