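import Cfsg.Agent.Lib.JThree.Sylow
import Cfsg.Agent.Lib.JThree.Degrees.Forced
import Cfsg.Agent.Lib.GL23.Main

/-!
The order of a simple group with one class of involutions and this centraliser.
-/

set_option autoImplicit false
set_option linter.style.haveILetI false
set_option linter.unusedSectionVars false
set_option maxRecDepth 100000

namespace CfsgLib.JThree

open Cfsg CfsgLib.Characters Model
open CfsgLib.JankoCent (Ct tC mem_Ct sq_t t_ne_one pairs)
open scoped ComplexConjugate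

/-- An integral function with square sum three has three nonzero values, all of absolute value one. -/
theorem three_support {ι : Type*} [DecidableEq ι] (s : Finset ι) (n : ι → ℤ) (h : ∑ x ∈ s, n x * n x = 3) :
    (s.filter fun x => n x ≠ 0).card = 3 ∧ ∀ x ∈ s, n x ≠ 0 → n x = 1 ∨ n x = -1 := by
  have hone : ∀ x ∈ s, n x ≠ 0 → n x = 1 ∨ n x = -1 := by
    intro x hx h0
    have h1 : n x * n x ≤ 3 := h ▸ Finset.single_le_sum (fun y _ => mul_self_nonneg (n y)) hx
    have : -1 ≤ n x ∧ n x ≤ 1 := ⟨by nlinarith, by nlinarith⟩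
    omega
  refine ⟨?_, hone⟩
  have e : ∑ x ∈ s, n x * n x = ∑ x ∈ s.filter fun x => n x ≠ 0, (1 : ℤ) := by
    rw [Finset.sum_filter]
    refine Finset.sum_congr rfl fun x hx => ?_
    split_ifs with h0
    · rcases hone x hx h0 with e | e <;> rw [e] <;> rfl
    · rw [not_not.1 h0]; rfl
  rw [h, Finset.sum_const, nsmul_eq_mul, mul_one] at e
  exact_mod_cast e.symm

/-- Two signed triples with product sum one meet in one point, unless the parities fail. -/
theorem one_common {ι : Type*} [DecidableEq ι] (s : Finset ι) (m n u : ι → ℤ)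
    (hm : ∑ x ∈ s, m x * m x = 3) (hn : ∑ x ∈ s, n x * n x = 3) (hmn : ∑ x ∈ s, m x * n x = 1)
    (hu : ∑ x ∈ s, (m x - n x) * u x = 1) :
    ∃ S A B C D : ι, [S, A, B, C, D].Nodup ∧ (∀ x ∈ [S, A, B, C, D], x ∈ s) ∧
      (n S = 1 ∨ n S = -1) ∧ m S = n S ∧ (n A = 1 ∨ n A = -1) ∧ (n B = 1 ∨ n B = -1) ∧
      (m C = 1 ∨ m C = -1) ∧ (m D = 1 ∨ m D = -1) ∧ m A = 0 ∧ m B = 0 ∧ n C = 0 ∧ n D = 0 ∧
      (∀ x ∈ s, m x ≠ 0 → x ∈ ({S, C, D} : Finset ι)) ∧
      (∀ x ∈ s, n x ≠ 0 → x ∈ ({S, A, B} : Finset ι)) := by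
  obtain ⟨cm, om⟩ := three_support s m hm
  obtain ⟨cn, on'⟩ := three_support s n hn
  set M := s.filter fun x => m x ≠ 0 with hM
  set N := s.filter fun x => n x ≠ 0 with hN
  have hI : ∑ x ∈ M ∩ N, m x * n x = 1 := by
    rw [← hmn]
    refine Finset.sum_subset (fun x hx => (Finset.mem_filter.1 (Finset.mem_inter.1 hx).1).1) fun x hx hx' => ?_
    by_contra h0
    exact hx' (Finset.mem_inter.2 ⟨Finset.mem_filter.2 ⟨hx, fun e => h0 (by rw [e, zero_mul])⟩,
      Finset.mem_filter.2 ⟨hx, fun e => h0 (by rw [e, mul_zero])⟩⟩)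
  have hle : (M ∩ N).card ≤ 3 := (Finset.card_le_card Finset.inter_subset_left).trans cm.le
  have hpar : (M ∩ N).card % 2 = 1 := by
    have h2 : (2 : ℤ) ∣ ∑ x ∈ M ∩ N, (m x * n x - 1) := by
      refine Finset.dvd_sum fun x hx => ?_
      obtain ⟨h1, h2⟩ := Finset.mem_inter.1 hx
      obtain ⟨hs, h1⟩ := Finset.mem_filter.1 h1
      rcases om x hs h1 with e | e <;> rcases on' x hs (Finset.mem_filter.1 h2).2 with e' | e' <;>
        rw [e, e'] <;> norm_num
    rw [Finset.sum_sub_distrib, hI, Finset.sum_const, nsmul_eq_mul, mul_one] at h2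
    omega
  have h1 : (M ∩ N).card = 1 := by
    by_contra hne
    have hMN : M = N := by
      have hM' : M ∩ N = M := Finset.eq_of_subset_of_card_le Finset.inter_subset_left (by omega)
      have hN' : M ∩ N = N := Finset.eq_of_subset_of_card_le Finset.inter_subset_right (by omega)
      exact hM'.symm.trans hN'
    have h2 : (2 : ℤ) ∣ ∑ x ∈ s, (m x - n x) * u x := by
      refine Finset.dvd_sum fun x hx => Dvd.dvd.mul_right ?_ _
      by_cases h0 : m x = 0
      · have : n x = 0 := by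
          by_contra hn0
          have : x ∈ M := hMN ▸ Finset.mem_filter.2 ⟨hx, hn0⟩
          exact (Finset.mem_filter.1 this).2 h0
        simp [h0, this]
      · have hn0 : n x ≠ 0 := (Finset.mem_filter.1 (hMN ▸ Finset.mem_filter.2 ⟨hx, h0⟩ : x ∈ N)).2
        rcases om x hx h0 with e | e <;> rcases on' x hx hn0 with e' | e' <;> rw [e, e'] <;> norm_num
    rw [hu] at h2
    omega
  obtain ⟨S, hS⟩ := Finset.card_eq_one.1 h1
  have hSM : S ∈ M ∧ S ∈ N := Finset.mem_inter.1 (hS ▸ Finset.mem_singleton_self S)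
  obtain ⟨A, B, hAB, hNe⟩ := Finset.card_eq_two.1 (show (N.erase S).card = 2 by
    rw [Finset.card_erase_of_mem hSM.2, cn])
  obtain ⟨C, D, hCD, hMe⟩ := Finset.card_eq_two.1 (show (M.erase S).card = 2 by
    rw [Finset.card_erase_of_mem hSM.1, cm])
  have hA : A ≠ S ∧ A ∈ N := Finset.mem_erase.1 (hNe ▸ Finset.mem_insert_self _ _)
  have hB : B ≠ S ∧ B ∈ N := Finset.mem_erase.1 (hNe ▸ Finset.mem_insert_of_mem (Finset.mem_singleton_self _))
  have hC : C ≠ S ∧ C ∈ M := Finset.mem_erase.1 (hMe ▸ Finset.mem_insert_self _ _)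
  have hD : D ≠ S ∧ D ∈ M := Finset.mem_erase.1 (hMe ▸ Finset.mem_insert_of_mem (Finset.mem_singleton_self _))
  have notM : ∀ x, x ≠ S → x ∈ N → x ∉ M := fun x hx hxN hxM =>
    hx (Finset.mem_singleton.1 (hS ▸ Finset.mem_inter.2 ⟨hxM, hxN⟩))
  have notN : ∀ x, x ≠ S → x ∈ M → x ∉ N := fun x hx hxM hxN => notM x hx hxN hxM
  have zm : ∀ x, x ∈ s → x ∉ M → m x = 0 := fun x hx hx' => by
    by_contra h0; exact hx' (Finset.mem_filter.2 ⟨hx, h0⟩)
  have zn : ∀ x, x ∈ s → x ∉ N → n x = 0 := fun x hx hx' => by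
    by_contra h0; exact hx' (Finset.mem_filter.2 ⟨hx, h0⟩)
  have fM := fun {x : ι} (h : x ∈ M) => Finset.mem_filter.1 h
  have fN := fun {x : ι} (h : x ∈ N) => Finset.mem_filter.1 h
  have hSS : m S = n S := by
    rw [hS, Finset.sum_singleton] at hI
    rcases om S (fM hSM.1).1 (fM hSM.1).2 with e | e <;> rcases on' S (fN hSM.2).1 (fN hSM.2).2 with e' | e' <;>
      rw [e, e'] at hI ⊢ <;> norm_num at hI
  refine ⟨S, A, B, C, D, ?_, ?_, on' S (fN hSM.2).1 (fN hSM.2).2, hSS, on' A (fN hA.2).1 (fN hA.2).2,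
    on' B (fN hB.2).1 (fN hB.2).2, om C (fM hC.2).1 (fM hC.2).2, om D (fM hD.2).1 (fM hD.2).2,
    zm A (fN hA.2).1 (notM A hA.1 hA.2), zm B (fN hB.2).1 (notM B hB.1 hB.2),
    zn C (fM hC.2).1 (notN C hC.1 hC.2), zn D (fM hD.2).1 (notN D hD.1 hD.2), ?_, ?_⟩
  · have d1 : ∀ x y, x ≠ S → x ∈ N → y ∈ M → x ≠ y := fun x y hx hxN hy e => notM x hx hxN (e ▸ hy)
    simp [hA.1.symm, hB.1.symm, hC.1.symm, hD.1.symm, hAB, hCD, d1 A C hA.1 hA.2 hC.2,
      d1 A D hA.1 hA.2 hD.2, d1 B C hB.1 hB.2 hC.2, d1 B D hB.1 hB.2 hD.2]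
  · intro x hx
    simp only [List.mem_cons, List.not_mem_nil, or_false] at hx
    rcases hx with rfl | rfl | rfl | rfl | rfl
    exacts [(fM hSM.1).1, (fN hA.2).1, (fN hB.2).1, (fM hC.2).1, (fM hD.2).1]
  · intro x hx h0
    by_cases hxS : x = S
    · simp [hxS]
    · have : x ∈ M.erase S := Finset.mem_erase.2 ⟨hxS, Finset.mem_filter.2 ⟨hx, h0⟩⟩
      rw [hMe] at this
      exact Finset.mem_insert_of_mem this
  · intro x hx h0
    by_cases hxS : x = S
    · simp [hxS]
    · have : x ∈ N.erase S := Finset.mem_erase.2 ⟨hxS, Finset.mem_filter.2 ⟨hx, h0⟩⟩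
      rw [hNe] at this
      exact Finset.mem_insert_of_mem this

theorem mem_five_left {ι : Type*} [DecidableEq ι] {x S A B C D : ι} (h : x ∈ ({S, C, D} : Finset ι)) :
    x ∈ [S, A, B, C, D] := by
  simp only [Finset.mem_insert, Finset.mem_singleton] at h
  rcases h with rfl | rfl | rfl <;> simp

theorem mem_five_right {ι : Type*} [DecidableEq ι] {x S A B C D : ι} (h : x ∈ ({S, A, B} : Finset ι)) :
    x ∈ [S, A, B, C, D] := by
  simp only [Finset.mem_insert, Finset.mem_singleton] at h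
  rcases h with rfl | rfl | rfl <;> simp

variable {G : Type*} [Group G] [Fintype G] {t : G} (e : Coded ↥(Ct t))

include e in
/-- The involution is not central. -/
theorem not_central [IsSimpleGroup G] (ht : orderOf t = 2) : ¬ ∀ x : G, x * t = t * x := by
  intro h
  have hn : (Subgroup.zpowers t).Normal := ⟨fun a ha g => by
    obtain ⟨i, rfl⟩ := Subgroup.mem_zpowers_iff.1 ha
    rw [(Commute.zpow_right (show Commute g t from h g) i).eq, mul_inv_cancel_right]
    exact Subgroup.zpow_mem _ (Subgroup.mem_zpowers t) i⟩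
  rcases hn.eq_bot_or_eq_top with e' | e'
  · exact t_ne_one ht (Subgroup.mem_bot.1 (e' ▸ Subgroup.mem_zpowers t))
  · have h1 : Nat.card (Ct t) ≤ Nat.card G := Subgroup.card_le_card_group _
    rw [e.card_eq, ← Subgroup.card_top (G := G), ← e', Nat.card_zpowers, ht] at h1
    omega

include e in
/-- A nonprincipal irreducible character is smaller at `t` than at the identity. -/
theorem norm_lt_degree [IsSimpleGroup G] (ht : orderOf t = 2) (χ : IrrCharacter G)
    (hne : χ ≠ principalIrr G) : ‖(χ : G → ℂ) t‖ < ‖(χ : G → ℂ) 1‖ := by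
  obtain ⟨χ', n, ρ, hρ, rfl⟩ := χ
  change ‖ρ.character t‖ < ‖ρ.character 1‖
  rw [Representation.char_one, Complex.norm_natCast]
  refine lt_of_le_of_ne (norm_char_le ρ t) fun h => ?_
  obtain ⟨w, hw⟩ := (norm_char_eq_iff_scalar ρ t).1 h
  have hker : ρ.ker = ⊥ ∨ ρ.ker = ⊤ := Subgroup.Normal.eq_bot_or_eq_top inferInstance
  rcases hker with hk | hk
  · refine not_central e ht fun x => (MonoidHom.ker_eq_bot_iff ρ).1 hk ?_
    rw [map_mul, map_mul, hw]
    exact LinearMap.ext fun v => by simp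
  · have hc : ρ.character = fun _ => (n : ℂ) := by
      funext g
      have hg : g ∈ ρ.ker := by rw [hk]; exact Subgroup.mem_top _
      rw [Representation.character, MonoidHom.mem_ker.1 hg]
      simp
    have h0 : classInner ρ.character (fun _ : G => (1 : ℂ)) = 0 :=
      classInner_irr_ne ⟨n, ρ, hρ, rfl⟩ isIrrCharacter_one fun hh => hne (Subtype.ext hh)
    rw [hc, classInner] at h0
    simp at h0
    haveI := hρ
    have := CfsgLib.Characters.nontrivial_of_irreducible ρ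
    subst h0
    exact not_subsingleton (Fin 0 → ℂ) inferInstance

include e in
/-- The order is `1920` times an odd number. -/
theorem exists_odd (ht : orderOf t = 2) (hone : ∀ a : G, a * a = 1 → a ≠ 1 → IsConj t a) :
    ∃ k : ℕ, k % 2 = 1 ∧ Nat.card G = 1920 * k := by
  haveI : Fact (Nat.Prime 2) := ⟨Nat.prime_two⟩
  obtain ⟨k, hk⟩ : 1920 ∣ Nat.card G := e.card_eq ▸ Subgroup.card_subgroup_dvd_card (Ct t)
  refine ⟨k, ?_, hk⟩
  by_contra hodd
  let P : Sylow 2 G := default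
  have h2 : 2 ^ 8 ∣ Nat.card (P : Subgroup G) :=
    P.pow_dvd_card_of_pow_dvd_card (by rw [hk]; obtain ⟨m, hm⟩ : 2 ∣ k := by omega
                                       exact ⟨15 * m, by rw [hm]; ring⟩)
  haveI : Nontrivial (P : Subgroup G) := Finite.one_lt_card_iff_nontrivial.1
    (lt_of_lt_of_le (by norm_num) (Nat.le_of_dvd Nat.card_pos h2))
  haveI := P.isPGroup'.center_nontrivial
  obtain ⟨⟨c, hc⟩, hc1⟩ := exists_prime_orderOf_dvd_card' (G := Subgroup.center (P : Subgroup G)) 2 (by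
    obtain ⟨m, hm⟩ := (P.isPGroup'.to_subgroup (Subgroup.center (P : Subgroup G))).exists_card_eq
    have h1 : 1 < Nat.card (Subgroup.center (P : Subgroup G)) := Finite.one_lt_card_iff_nontrivial.2 inferInstance
    rw [hm] at h1 ⊢
    exact dvd_pow_self 2 (fun e => by rw [e] at h1; simp at h1))
  have hc2 : (c : G) * c = 1 ∧ (c : G) ≠ 1 := by
    have h := pow_orderOf_eq_one (⟨c, hc⟩ : Subgroup.center (P : Subgroup G))
    rw [hc1, pow_two] at h
    refine ⟨congrArg (fun w : Subgroup.center (P : Subgroup G) => ((w : (P : Subgroup G)) : G)) h, fun e => ?_⟩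
    have : (⟨c, hc⟩ : Subgroup.center (P : Subgroup G)) = 1 := Subtype.ext (Subtype.ext e)
    rw [this, orderOf_one] at hc1
    omega
  obtain ⟨g, hg⟩ := isConj_iff.1 (hone _ hc2.1 hc2.2).symm
  have hle : (P : Subgroup G).map (MulAut.conj g).toMonoidHom ≤ Ct t := by
    rintro _ ⟨x, hx, rfl⟩
    refine mem_Ct.2 ?_
    have hxc : x * c = c * x := congrArg Subtype.val (Subgroup.mem_center_iff.1 hc ⟨x, hx⟩)
    show g * x * g⁻¹ * t = t * (g * x * g⁻¹)
    calc g * x * g⁻¹ * t = g * x * g⁻¹ * (g * c * g⁻¹) := congrArg (g * x * g⁻¹ * ·) hg.symm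
      _ = g * (x * c) * g⁻¹ := by group
      _ = g * (c * x) * g⁻¹ := by rw [hxc]
      _ = (g * c * g⁻¹) * (g * x * g⁻¹) := by group
      _ = t * (g * x * g⁻¹) := congrArg (· * (g * x * g⁻¹)) hg
  have h3 := (h2.trans (Subgroup.card_map_of_injective (f := (MulAut.conj g).toMonoidHom)
    (MulAut.conj g).injective ▸ Subgroup.card_dvd_of_le hle))
  rw [e.card_eq] at h3
  norm_num at h3

/-- Applying a field automorphism to an inner product. -/
theorem map_classInner (τ : ℂ ≃+* ℂ) (F : G → ℂ) (χ : IrrCharacter G) :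
    τ (classInner F (χ : G → ℂ)) = classInner (fun g => τ (F g)) (fun g => τ ((χ : G → ℂ) g)) := by
  simp only [classInner, map_mul, map_inv₀, map_natCast, map_sum]
  congr 1
  refine Finset.sum_congr rfl fun g _ => ?_
  rw [← isGeneralizedCharacter_apply_inv (isGeneralizedCharacter_irr χ) g,
    ← isGeneralizedCharacter_apply_inv (θ := fun g => τ ((χ : G → ℂ) g))
      (isGeneralizedCharacter_irr ⟨_, CfsgLib.CharGalois.isIrrCharacter_map τ χ.2⟩) g]

/-- The induced functions are rational. -/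
theorem map_indT (τ : ℂ ≃+* ℂ) (j : ℕ) (g : G) : τ (indT e j g) = indT e j g := by
  classical
  simp only [indT, CfsgLib.Induction.indFun_apply, map_mul, map_inv₀, map_natCast, map_sum]
  congr 1
  refine Finset.sum_congr rfl fun x _ => ?_
  by_cases h : x⁻¹ * g * x ∈ Ct t
  · rw [CfsgLib.Induction.extendByZero_mem _ _ h]
    simp [Coded.fn]
  · rw [CfsgLib.Induction.extendByZero_notMem _ _ h, map_zero]

set_option maxHeartbeats 3000000 in
/-- The order, and rational characters of three degrees. -/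
theorem constituents [IsSimpleGroup G] (ht : orderOf t = 2) (he : e.code (tC t) = 1)
    (hone : ∀ a : G, a * a = 1 → a ≠ 1 → IsConj t a) :
    Nat.card G = 50232960 ∧ ∀ d ∈ [2754, 816, 324], ∃ χ : IrrCharacter G, χ ≠ principalIrr G ∧
      (χ : G → ℂ) 1 = ((d : ℕ) : ℂ) ∧
      ∀ (τ : ℂ ≃+* ℂ) (g : G), τ ((χ : G → ℂ) g) = (χ : G → ℂ) g := by
  classical
  obtain ⟨k, hk2, hcard⟩ := exists_odd e ht hone
  let P0 : IrrCharacter G := principalIrr G
  have hex : ∀ (j : Fin 6) (χ : IrrCharacter G), ∃ m : ℤ, classInner (indT e j) (χ : G → ℂ) = m :=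
    fun j χ => (isGeneralizedCharacter_iff.1 (isGeneralized_indT e j.2)).2 χ
  choose n hn using hex
  choose dd hd0 hd using fun χ : IrrCharacter G => irr_exists_degree χ.2
  have hcf : ∀ χ : IrrCharacter G, IsClassFunction G (χ : G → ℂ) := fun χ =>
    isClassFunction_of_isGeneralizedCharacter (isGeneralizedCharacter_irr χ)
  -- inner products
  have gram : ∀ j l : Fin 6, ∑ χ, n j χ * n l χ = (gramL.getD j []).getD l 0 := by
    intro j l
    have h := inner_indT_indT e he ht j.2 l.2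
    rw [classInner_eq_sum_mul (isClassFunction_indT e l.2)] at h
    simp only [hn, map_intCast] at h
    exact_mod_cast h
  have triv : ∀ j : Fin 6, n j P0 = trivV j := by
    intro j
    have h : (n j P0 : ℂ) = ((trivV j : ℤ) : ℂ) := (hn j P0).symm.trans (inner_indT_one e j.2)
    exact_mod_cast h
  -- values
  let Z : IrrCharacter G → ℤ := fun χ => zVal (n 0 χ) (n 1 χ) (n 2 χ) (n 3 χ) (n 4 χ) (n 5 χ)
  let A' : IrrCharacter G → ℤ := fun χ => fVal (n 0 χ) (n 1 χ) (n 2 χ) (n 3 χ) (n 4 χ) (n 5 χ)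
  let E' : IrrCharacter G → ℤ := fun χ => eVal (n 1 χ) (n 2 χ) (n 3 χ) (n 4 χ)
  have val : ∀ (χ : IrrCharacter G) (x : Ct t) {c : ℕ}, c ∈ [1, 3, 10] → e.cl x = c →
      (χ : G → ℂ) (x : G) = ((∑ j : Fin 6, (weight c).getD j 0 * n j χ : ℤ) : ℂ) := by
    intro χ x c hc hx
    have h := value_eq e (hcf χ) hc hx
    rw [← Fin.sum_univ_eq_sum_range (fun j => (((weight c).getD j 0 : ℤ) : ℂ) * classInner (indT e j) (χ : G → ℂ)) 6,
      Finset.sum_congr rfl fun j _ => by rw [hn j χ]] at h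
    rw [← Complex.conj_conj ((χ : G → ℂ) (x : G)), h]
    push_cast
    simp [map_sum]
  have hz : ∀ χ : IrrCharacter G, (χ : G → ℂ) t = Z χ := by
    intro χ
    have hc1 : e.cl (tC t) = 1 := by rw [Coded.cl, he]; exact Model.cls_one.1
    refine (val χ (tC t) (c := 1) (by simp) hc1).trans (congrArg _ ?_)
    simp [Fin.sum_univ_succ, weight, Z, zVal]; ring
  have ha : ∀ χ : IrrCharacter G, ∀ x : Ct t, e.cl x = 3 → (χ : G → ℂ) (x : G) = A' χ := by
    intro χ x hx
    refine (val χ x (c := 3) (by simp) hx).trans (congrArg _ ?_)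
    simp [Fin.sum_univ_succ, weight, A', fVal]; ring
  have he' : ∀ χ : IrrCharacter G, ∀ x : Ct t, e.cl x = 10 → (χ : G → ℂ) (x : G) = E' χ := by
    intro χ x hx
    refine (val χ x (c := 10) (by simp) hx).trans (congrArg _ ?_)
    simp [Fin.sum_univ_succ, weight, E', eVal]; ring
  have cong : ∀ χ, (128 : ℤ) ∣ dd χ + 35 * Z χ + 44 * A' χ + 48 * E' χ := fun χ =>
    congruence e he ht hone χ (by rw [hd]; norm_num) (hz χ) (ha χ) (he' χ)
  -- degrees and structure constants
  have ev : ∀ (j : Fin 6) (x : G), indT e j x = ∑ χ, (n j χ : ℂ) * (χ : G → ℂ) x := by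
    intro j x
    conv_lhs => rw [classFunction_eq_sum (isClassFunction_indT e j.2)]
    simp [hn]
  have deg : ∀ j : Fin 6, ∑ χ, n j χ * (dd χ : ℤ) = 0 := by
    intro j
    have h := ev j 1
    simp only [indT_one e j.2, hd] at h
    exact_mod_cast h.symm
  have hkC : (k : ℂ) ≠ 0 := Nat.cast_ne_zero.2 (by omega)
  have hcls : (Nat.card {x : G // IsConj t x} : ℂ) = k := by
    have h := card_isConj_mul_card_centralizer t
    rw [e.card_eq, hcard, mul_comm 1920 k] at h
    exact_mod_cast Nat.eq_of_mul_eq_mul_right (by norm_num) h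
  have main : ∀ j : Fin 6, (k : ℂ) * ∑ χ, (n j χ : ℂ) * ((Z χ : ℂ) ^ 2 / (dd χ : ℂ)) =
      ((wsum (fun i => funV j i * (cntL.getD i 0 : ℕ)) 16 : ℤ) : ℂ) := by
    intro j
    have h1 := sum_products e he ht hone j.2
    simp only [ev] at h1
    rw [Finset.sum_congr rfl (fun a _ => Finset.sum_comm), Finset.sum_comm] at h1
    simp only [← Finset.mul_sum, CfsgLib.GL23.sum_class_product, hz, hd, hcls, hcard] at h1
    rw [Finset.sum_congr rfl (fun χ _ => mul_left_comm ((n j χ : ℂ)) ((k : ℂ) ^ 2) _), ← Finset.mul_sum] at h1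
    push_cast at h1
    refine mul_left_cancel₀ hkC ?_
    linear_combination h1
  -- square sum of the degrees
  have hsqsum : ∑ χ, dd χ * dd χ = Nat.card G := by
    have h := column_orth (1 : G) 1
    rw [if_pos (IsConj.refl 1)] at h
    simp only [hd, map_natCast] at h
    rw [show Subgroup.centralizer ({1} : Set G) = ⊤ from
      top_unique fun g _ => Subgroup.mem_centralizer_singleton_iff.2 (by simp), Subgroup.card_top] at h
    exact_mod_cast h
  have hdP : dd P0 = 1 := by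
    have h := hd P0
    simp only [P0, principalIrr_apply] at h
    exact_mod_cast h.symm
  -- away from the principal character
  set s := (Finset.univ : Finset (IrrCharacter G)).erase P0 with hs
  have split : ∀ f : IrrCharacter G → ℤ, ∑ χ, f χ = f P0 + ∑ χ ∈ s, f χ := fun f =>
    (Finset.add_sum_erase _ _ (Finset.mem_univ P0)).symm
  have gs : ∀ j l : Fin 6, ∑ χ ∈ s, n j χ * n l χ = (gramL.getD j []).getD l 0 - trivV j * trivV l := by
    intro j l
    rw [← gram j l, split fun χ => n j χ * n l χ, triv, triv]; ring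
  have ds : ∀ j : Fin 6, ∑ χ ∈ s, n j χ * (dd χ : ℤ) = - trivV j := by
    intro j
    have h := deg j
    rw [split fun χ => n j χ * (dd χ : ℤ), triv, hdP] at h
    push_cast at h
    linarith
  obtain ⟨S, A, B, C, D, hnd, hmem, hS, hSS, hA, hB, hC, hD, hA1, hB1, hC2, hD2, hsup1, hsup2⟩ :=
    one_common s (n 1) (n 2) (fun χ => (dd χ : ℤ))
      ((gs 1 1).trans rfl) ((gs 2 2).trans rfl) ((gs 1 2).trans rfl)
      (by simp only [sub_mul]; rw [Finset.sum_sub_distrib, ds 1, ds 2]; rfl)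
  have hmem' : ∀ χ ∈ [S, A, B, C, D], χ ≠ P0 := fun χ hχ => (Finset.mem_erase.1 (hmem χ hχ)).1
  simp only [List.nodup_cons, List.mem_cons, List.not_mem_nil, or_false, not_or, List.nodup_nil,
    and_true] at hnd
  obtain ⟨⟨nSA, nSB, nSC, nSD⟩, ⟨nAB, nAC, nAD⟩, ⟨nBC, nBD⟩, nCD, -⟩ := hnd
  let mk : ℤ → IrrCharacter G → Mult := fun ε χ => ⟨ε * n 0 χ, ε * n 3 χ, ε * n 4 χ, ε * n 5 χ⟩
  have sum1 : ∀ f : IrrCharacter G → ℤ,
      ∑ χ ∈ s, n 1 χ * f χ = n 1 S * f S + n 1 C * f C + n 1 D * f D := by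
    intro f
    rw [← Finset.sum_subset (show ({S, C, D} : Finset _) ⊆ s by
      intro x hx
      simp only [Finset.mem_insert, Finset.mem_singleton] at hx
      rcases hx with rfl | rfl | rfl <;> exact hmem _ (by simp))
      (fun x hx hx' => by
        rw [show n 1 x = 0 by by_contra h; exact hx' (hsup1 x hx h), zero_mul]),
      Finset.sum_insert (by simp [nSC, nSD]), Finset.sum_pair nCD]
    ring
  have sum2 : ∀ f : IrrCharacter G → ℤ,
      ∑ χ ∈ s, n 2 χ * f χ = n 2 S * f S + n 2 A * f A + n 2 B * f B := by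
    intro f
    rw [← Finset.sum_subset (show ({S, A, B} : Finset _) ⊆ s by
      intro x hx
      simp only [Finset.mem_insert, Finset.mem_singleton] at hx
      rcases hx with rfl | rfl | rfl <;> exact hmem _ (by simp))
      (fun x hx hx' => by
        rw [show n 2 x = 0 by by_contra h; exact hx' (hsup2 x hx h), zero_mul]),
      Finset.sum_insert (by simp [nSA, nSB]), Finset.sum_pair nAB]
    ring
  have cross : ∀ l : Fin 6,
      n 2 S * n l S + n 2 A * n l A + n 2 B * n l B = (gramL.getD 2 []).getD l 0 - trivV 2 * trivV l ∧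
      n 1 S * n l S + n 1 C * n l C + n 1 D * n l D = (gramL.getD 1 []).getD l 0 - trivV 1 * trivV l :=
    fun l => ⟨(sum2 (n l)).symm.trans (gs 2 l), (sum1 (n l)).symm.trans (gs 1 l)⟩
  have member : ∀ (χ : IrrCharacter G), χ ≠ P0 → ∀ ε : ℤ, (ε = 1 ∨ ε = -1) → ∀ r : ℕ × ℕ,
      r = mkRow (ε * n 0 χ) (ε * n 1 χ) (ε * n 2 χ) (ε * n 3 χ) (ε * n 4 χ) (ε * n 5 χ) →
      Member k r (ε * dd χ) ∧ r.1 = (Z χ).natAbs := by
    intro χ hχ ε hε r hr
    have hlt := norm_lt_degree e ht χ hχ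
    rw [hz, hd, Complex.norm_intCast, Complex.norm_natCast] at hlt
    have hZd : (Z χ).natAbs < dd χ := by
      have : ((Z χ).natAbs : ℝ) < (dd χ : ℝ) := by rwa [Nat.cast_natAbs, Int.cast_abs]
      exact_mod_cast this
    have hzv : zVal (ε * n 0 χ) (ε * n 1 χ) (ε * n 2 χ) (ε * n 3 χ) (ε * n 4 χ) (ε * n 5 χ) = ε * Z χ := by
      simp only [Z, zVal]; ring
    have hfv : fVal (ε * n 0 χ) (ε * n 1 χ) (ε * n 2 χ) (ε * n 3 χ) (ε * n 4 χ) (ε * n 5 χ) = ε * A' χ := by
      simp only [A', fVal]; ring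
    have hev : eVal (ε * n 1 χ) (ε * n 2 χ) (ε * n 3 χ) (ε * n 4 χ) = ε * E' χ := by
      simp only [E', eVal]; ring
    subst hr
    have hc := cong χ
    have hdvd : dd χ ∣ 1920 * k := by
      obtain ⟨m, hm, -, hm'⟩ := irr_degree_dvd_card χ
      rw [hd χ] at hm
      have : dd χ = m := by exact_mod_cast hm
      rw [← hcard, this]; exact hm'
    have habs : (ε * dd χ : ℤ).natAbs = dd χ := by rcases hε with rfl | rfl <;> simp
    refine ⟨⟨?_, ?_, ?_, ?_, ?_⟩, ?_⟩
    · simp only [mkRow, hzv, hfv, hev]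
      rcases hε with rfl | rfl <;> omega
    · simp only [mkRow, hzv, habs]
      rcases hε with rfl | rfl <;> simp [hZd]
    · rw [habs]
      by_contra h2
      have := hd0 χ
      omega
    · rw [habs]
      intro h
      have := h.trans hdvd
      omega
    · rw [habs]; exact hdvd
    · simp only [mkRow, hzv]
      rcases hε with rfl | rfl <;> simp
  have sq1 : ∀ {ε : ℤ}, (ε = 1 ∨ ε = -1) → ε * ε = 1 := fun h => by rcases h with rfl | rfl <;> rfl
  obtain ⟨mS, zS⟩ := member S (hmem' S (by simp)) (n 2 S) hS (mk (n 2 S) S).rowS (by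
    simp only [Mult.rowS, mk, hSS, sq1 hS])
  obtain ⟨mA, zA⟩ := member A (hmem' A (by simp)) (n 2 A) hA (mk (n 2 A) A).rowF (by
    simp only [Mult.rowF, mk, hA1, mul_zero, sq1 hA])
  obtain ⟨mB, zB⟩ := member B (hmem' B (by simp)) (n 2 B) hB (mk (n 2 B) B).rowF (by
    simp only [Mult.rowF, mk, hB1, mul_zero, sq1 hB])
  obtain ⟨mC, zC⟩ := member C (hmem' C (by simp)) (n 1 C) hC (mk (n 1 C) C).rowG (by
    simp only [Mult.rowG, mk, hC2, mul_zero, sq1 hC])
  obtain ⟨mD, zD⟩ := member D (hmem' D (by simp)) (n 1 D) hD (mk (n 1 D) D).rowG (by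
    simp only [Mult.rowG, mk, hD2, mul_zero, sq1 hD])
  obtain ⟨h01, h4, h5, h6, hform, hsum, hsum', hsq, heq, heq'⟩ :
      ((mk (n 2 S) S).m01 + (mk (n 2 A) A).m01 + (mk (n 2 B) B).m01 = -2 ∧
        (mk (n 2 S) S).m01 + (mk (n 1 C) C).m01 + (mk (n 1 D) D).m01 = 0) ∧
      ((mk (n 2 S) S).m4 + (mk (n 2 A) A).m4 + (mk (n 2 B) B).m4 = -1 ∧
        (mk (n 2 S) S).m4 + (mk (n 1 C) C).m4 + (mk (n 1 D) D).m4 = 1) ∧
      ((mk (n 2 S) S).m5 + (mk (n 2 A) A).m5 + (mk (n 2 B) B).m5 = 0 ∧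
        (mk (n 2 S) S).m5 + (mk (n 1 C) C).m5 + (mk (n 1 D) D).m5 = -1) ∧
      ((mk (n 2 S) S).m6 + (mk (n 2 A) A).m6 + (mk (n 2 B) B).m6 = 0 ∧
        (mk (n 2 S) S).m6 + (mk (n 1 C) C).m6 + (mk (n 1 D) D).m6 = 0) ∧
      (∀ a b c d : ℤ, (mk (n 2 S) S).along a b c d ^ 2 + (mk (n 2 A) A).along a b c d ^ 2 +
        (mk (n 2 B) B).along a b c d ^ 2 + (mk (n 1 C) C).along a b c d ^ 2 +
        (mk (n 1 D) D).along a b c d ^ 2 ≤ gramForm a b c d) ∧
      (n 2 S * (dd S : ℤ) + n 2 A * dd A + n 2 B * dd B = -1) ∧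
      (n 2 S * (dd S : ℤ) + n 1 C * dd C + n 1 D * dd D = 0) ∧
      ((n 2 S * (dd S : ℤ)).natAbs * (n 2 S * (dd S : ℤ)).natAbs +
        (n 2 A * (dd A : ℤ)).natAbs * (n 2 A * (dd A : ℤ)).natAbs +
        (n 2 B * (dd B : ℤ)).natAbs * (n 2 B * (dd B : ℤ)).natAbs < 1920 * k) ∧
      ((k : ℤ) * (n 2 S * dd S * (n 2 A * dd A) * (n 2 B * dd B) +
        ((mk (n 2 S) S).rowS.1 * (mk (n 2 S) S).rowS.1 : ℕ) * (n 2 A * dd A) * (n 2 B * dd B) +
        ((mk (n 2 A) A).rowF.1 * (mk (n 2 A) A).rowF.1 : ℕ) * (n 2 S * dd S) * (n 2 B * dd B) +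
        ((mk (n 2 B) B).rowF.1 * (mk (n 2 B) B).rowF.1 : ℕ) * (n 2 S * dd S) * (n 2 A * dd A)) =
        15200 * (n 2 S * dd S * (n 2 A * dd A) * (n 2 B * dd B))) ∧
      ((k : ℤ) * (((mk (n 2 S) S).rowS.1 * (mk (n 2 S) S).rowS.1 : ℕ) * (n 1 C * dd C) * (n 1 D * dd D) +
        ((mk (n 1 C) C).rowG.1 * (mk (n 1 C) C).rowG.1 : ℕ) * (n 2 S * dd S) * (n 1 D * dd D) +
        ((mk (n 1 D) D).rowG.1 * (mk (n 1 D) D).rowG.1 : ℕ) * (n 2 S * dd S) * (n 1 C * dd C)) =
        320 * (n 2 S * dd S) * (n 1 C * dd C) * (n 1 D * dd D)) := by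
    refine ⟨?_, ?_, ?_, ?_, ?_, ?_, ?_, ?_, ?_, ?_⟩
    · have := cross 0
      rw [hSS] at this
      exact ⟨this.1.trans rfl, this.2.trans rfl⟩
    · have := cross 3
      rw [hSS] at this
      exact ⟨this.1.trans rfl, this.2.trans rfl⟩
    · have := cross 4
      rw [hSS] at this
      exact ⟨this.1.trans rfl, this.2.trans rfl⟩
    · have := cross 5
      rw [hSS] at this
      exact ⟨this.1.trans rfl, this.2.trans rfl⟩
    · intro a b c d
      let L : IrrCharacter G → ℤ := fun χ => a * n 0 χ + b * n 3 χ + c * n 4 χ + d * n 5 χ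
      have hsum : ∑ χ ∈ s, L χ ^ 2 = gramForm a b c d := by
        have e2 : ∀ χ, L χ ^ 2 = a * a * (n 0 χ * n 0 χ) + b * b * (n 3 χ * n 3 χ) + c * c * (n 4 χ * n 4 χ) +
            d * d * (n 5 χ * n 5 χ) + 2 * (a * b) * (n 0 χ * n 3 χ) + 2 * (a * c) * (n 0 χ * n 4 χ) +
            2 * (a * d) * (n 0 χ * n 5 χ) + 2 * (b * c) * (n 3 χ * n 4 χ) + 2 * (b * d) * (n 3 χ * n 5 χ) +
            2 * (c * d) * (n 4 χ * n 5 χ) := fun χ => by simp only [L]; ring
        simp only [e2, Finset.sum_add_distrib, ← Finset.mul_sum, gs]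
        simp [gramL, trivV, gramForm]
        ring
      have hsub : ({S, A, B, C, D} : Finset (IrrCharacter G)) ⊆ s := by
        intro x hx
        simp only [Finset.mem_insert, Finset.mem_singleton] at hx
        rcases hx with rfl | rfl | rfl | rfl | rfl <;> exact hmem _ (by simp)
      have hal : ∀ {ε : ℤ} (χ : IrrCharacter G), (ε = 1 ∨ ε = -1) → (mk ε χ).along a b c d ^ 2 = L χ ^ 2 :=
        fun χ hε => by rcases hε with rfl | rfl <;> simp only [mk, Mult.along, L] <;> ring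
      rw [hal S hS, hal A hA, hal B hB, hal C hC, hal D hD, ← hsum]
      refine le_trans (le_of_eq ?_) (Finset.sum_le_sum_of_subset_of_nonneg hsub fun _ _ _ => sq_nonneg _)
      rw [Finset.sum_insert (by simp [nSA, nSB, nSC, nSD]), Finset.sum_insert (by simp [nAB, nAC, nAD]),
        Finset.sum_insert (by simp [nBC, nBD]), Finset.sum_pair nCD]
      ring
    · exact (sum2 fun χ => (dd χ : ℤ)).symm.trans ((ds 2).trans rfl)
    · have h := (sum1 fun χ => (dd χ : ℤ)).symm.trans ((ds 1).trans rfl)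
      rwa [hSS] at h
    · rw [← hcard, ← hsqsum]
      have habs : ∀ {ε : ℤ} (χ : IrrCharacter G), (ε = 1 ∨ ε = -1) → (ε * dd χ : ℤ).natAbs = dd χ :=
        fun χ hε => by rcases hε with rfl | rfl <;> simp
      rw [habs S hS, habs A hA, habs B hB]
      have hsub := Finset.sum_le_univ_sum_of_nonneg (f := fun χ => dd χ * dd χ) (fun _ => Nat.zero_le _)
        (s := {P0, S, A, B})
      rw [Finset.sum_insert (by simp [(hmem' S (by simp)).symm, (hmem' A (by simp)).symm,
          (hmem' B (by simp)).symm]), Finset.sum_insert (by simp [nSA, nSB]), Finset.sum_pair nAB,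
        hdP] at hsub
      omega
    all_goals
      have hZP : (Z P0 : ℂ) = 1 := by rw [← hz P0]; simp [P0]
      have dne : ∀ χ, (dd χ : ℂ) ≠ 0 := fun χ => Nat.cast_ne_zero.2 (hd0 χ).ne'
      have cnat : ∀ χ, ((|Z χ| : ℤ) : ℂ) * ((|Z χ| : ℤ) : ℂ) = (Z χ : ℂ) ^ 2 := fun χ => by
        rw [← Int.cast_mul, abs_mul_abs_self]; push_cast; ring
    · have h := main 2
      rw [← Finset.add_sum_erase _ _ (Finset.mem_univ P0), triv, hdP, hZP] at h
      rw [← Finset.sum_subset (show ({S, A, B} : Finset _) ⊆ s by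
          intro x hx
          simp only [Finset.mem_insert, Finset.mem_singleton] at hx
          rcases hx with rfl | rfl | rfl <;> exact hmem _ (by simp))
        (fun x hx hx' => by
          rw [show n 2 x = 0 by by_contra hh; exact hx' (hsup2 x hx hh), Int.cast_zero, zero_mul]),
        Finset.sum_insert (by simp [nSA, nSB]), Finset.sum_pair nAB,
        show wsum (fun i => funV (2 : Fin 6) i * (cntL.getD i 0 : ℕ)) 16 = 15200 from pair_sums.2] at h
      refine Int.cast_injective (α := ℂ) ?_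
      rw [zS, zA, zB]
      push_cast
      rw [cnat, cnat, cnat]
      have eS : (n 2 S : ℂ) * n 2 S = 1 := by exact_mod_cast sq1 hS
      have eA : (n 2 A : ℂ) * n 2 A = 1 := by exact_mod_cast sq1 hA
      have eB : (n 2 B : ℂ) * n 2 B = 1 := by exact_mod_cast sq1 hB
      simp [trivV] at h
      field_simp [dne] at h
      linear_combination (n 2 S : ℂ) * (n 2 A : ℂ) * (n 2 B : ℂ) * h -
        (k : ℂ) * (Z S : ℂ) ^ 2 * (n 2 A : ℂ) * (n 2 B : ℂ) * (dd A : ℂ) * (dd B : ℂ) * eS -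
        (k : ℂ) * (Z A : ℂ) ^ 2 * (n 2 S : ℂ) * (n 2 B : ℂ) * (dd S : ℂ) * (dd B : ℂ) * eA -
        (k : ℂ) * (Z B : ℂ) ^ 2 * (n 2 S : ℂ) * (n 2 A : ℂ) * (dd S : ℂ) * (dd A : ℂ) * eB
    · have h := main 1
      rw [← Finset.add_sum_erase _ _ (Finset.mem_univ P0), triv, hdP, hZP] at h
      rw [← Finset.sum_subset (show ({S, C, D} : Finset _) ⊆ s by
          intro x hx
          simp only [Finset.mem_insert, Finset.mem_singleton] at hx
          rcases hx with rfl | rfl | rfl <;> exact hmem _ (by simp))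
        (fun x hx hx' => by
          rw [show n 1 x = 0 by by_contra hh; exact hx' (hsup1 x hx hh), Int.cast_zero, zero_mul]),
        Finset.sum_insert (by simp [nSC, nSD]), Finset.sum_pair nCD, hSS,
        show wsum (fun i => funV (1 : Fin 6) i * (cntL.getD i 0 : ℕ)) 16 = 320 from pair_sums.1] at h
      refine Int.cast_injective (α := ℂ) ?_
      rw [zS, zC, zD]
      push_cast
      rw [cnat, cnat, cnat]
      have eS : (n 2 S : ℂ) * n 2 S = 1 := by exact_mod_cast sq1 hS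
      have eC : (n 1 C : ℂ) * n 1 C = 1 := by exact_mod_cast sq1 hC
      have eD : (n 1 D : ℂ) * n 1 D = 1 := by exact_mod_cast sq1 hD
      simp [trivV] at h
      field_simp [dne] at h
      linear_combination (n 2 S : ℂ) * (n 1 C : ℂ) * (n 1 D : ℂ) * h -
        (k : ℂ) * (Z S : ℂ) ^ 2 * (n 1 C : ℂ) * (n 1 D : ℂ) * (dd C : ℂ) * (dd D : ℂ) * eS -
        (k : ℂ) * (Z C : ℂ) ^ 2 * (n 2 S : ℂ) * (n 1 D : ℂ) * (dd S : ℂ) * (dd D : ℂ) * eC -
        (k : ℂ) * (Z D : ℂ) ^ 2 * (n 2 S : ℂ) * (n 1 C : ℂ) * (dd S : ℂ) * (dd C : ℂ) * eD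
  have hk' : k = 26163 := forced h01 h4 h5 h6 hform hk2 mS mA mB mC mD hsum hsum' hsq heq heq'
  refine ⟨by rw [hcard, hk'], fun d hd' => ?_⟩
  subst hk'
  have habs : ∀ {ε : ℤ} (χ : IrrCharacter G), (ε = 1 ∨ ε = -1) → (ε * dd χ : ℤ).natAbs = dd χ :=
    fun χ hε => by rcases hε with rfl | rfl <;> simp
  have hlt : ∀ χ, χ ≠ P0 → dd χ * dd χ < 1920 * 26163 := fun χ hχ => by
    rw [← hcard, ← hsqsum]
    have := Finset.sum_le_univ_sum_of_nonneg (f := fun χ => dd χ * dd χ) (fun _ => Nat.zero_le _)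
      (s := {P0, χ})
    rw [Finset.sum_pair (Ne.symm hχ), hdP] at this
    omega
  have hg := degrees_forced h01 h4 h5 h6 hform mS mA mB mC mD hsum hsum' hsq
    (by rw [habs C hC]; exact hlt C (hmem' C (by simp))) (by rw [habs D hD]; exact hlt D (hmem' D (by simp)))
    heq heq'
  simp only [degGoal, habs S hS, habs A hA, habs B hB, habs C hC, habs D hD, Bool.and_eq_true,
    List.contains_iff_mem, decide_eq_true_eq] at hg
  obtain ⟨⟨⟨hg1, hg2⟩, hg3⟩, hnodup⟩ := hg
  have hfive : d ∈ [S, A, B, C, D].map dd := by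
    simp only [List.mem_cons, List.not_mem_nil, or_false] at hd'
    simp only [List.map_cons, List.map_nil]
    rcases hd' with rfl | rfl | rfl
    exacts [hg1, hg2, hg3]
  obtain ⟨χ, hχ, rfl⟩ := List.mem_map.1 hfive
  refine ⟨χ, hmem' χ hχ, hd χ, fun τ g => ?_⟩
  let χ' : IrrCharacter G := ⟨_, CfsgLib.CharGalois.isIrrCharacter_map τ χ.2⟩
  have hd'' : dd χ' = dd χ := by
    have h : (dd χ' : ℂ) = τ ((χ : G → ℂ) 1) := (hd χ').symm
    rw [hd, map_natCast] at h
    exact_mod_cast h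
  have hn' : ∀ j, n j χ' = n j χ := fun j => by
    have h := map_classInner τ (indT e j) χ
    rw [hn, map_intCast, funext fun g => map_indT e τ j g] at h
    have h2 : ((n j χ' : ℤ) : ℂ) = n j χ := (hn j χ').symm.trans h.symm
    exact_mod_cast h2
  have hne' : χ' ≠ P0 := fun hh => by
    rw [hh, hdP] at hd''
    have h2 : ∀ m ∈ [S, A, B, C, D], 2 ≤ dd m := by
      intro m hm
      simp only [List.mem_cons, List.not_mem_nil, or_false] at hm
      rcases hm with rfl | rfl | rfl | rfl | rfl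
      exacts [habs m hS ▸ mS.two_le, habs m hA ▸ mA.two_le, habs m hB ▸ mB.two_le,
        habs m hC ▸ mC.two_le, habs m hD ▸ mD.two_le]
    have := h2 χ hχ
    omega
  have hs' : χ' ∈ s := Finset.mem_erase.2 ⟨hne', Finset.mem_univ _⟩
  have hnz : n 1 χ ≠ 0 ∨ n 2 χ ≠ 0 := by
    simp only [List.mem_cons, List.not_mem_nil, or_false] at hχ
    rcases hχ with rfl | rfl | rfl | rfl | rfl
    · right; rcases hS with h | h <;> rw [h] <;> decide
    · right; rcases hA with h | h <;> rw [h] <;> decide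
    · right; rcases hB with h | h <;> rw [h] <;> decide
    · left; rcases hC with h | h <;> rw [h] <;> decide
    · left; rcases hD with h | h <;> rw [h] <;> decide
  have hmem5 : χ' ∈ [S, A, B, C, D] := by
    rcases hnz with h | h
    · exact mem_five_left (hsup1 χ' hs' (by rw [hn']; exact h))
    · exact mem_five_right (hsup2 χ' hs' (by rw [hn']; exact h))
  have heqχ : χ' = χ := List.inj_on_of_nodup_map (f := dd) (l := [S, A, B, C, D]) (by simpa only [List.map_cons, List.map_nil] using hnodup) hmem5 hχ hd''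
  exact congrFun (congrArg Subtype.val heqχ) g

/-- The theorem. -/
theorem order_eq [IsSimpleGroup G] (ht : orderOf t = 2) (he : e.code (tC t) = 1)
    (hone : ∀ a : G, a * a = 1 → a ≠ 1 → IsConj t a) : Nat.card G = 50232960 :=
  (constituents e ht he hone).1

end CfsgLib.JThree
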