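import Mathlib

/-!
The Diophantine search for the degrees of the exceptional characters of a group of Janko's third type:
a checkable search and its soundness.

Three degrees with signs add up to `-1` and satisfy one equation with the number `k` of involutions;
two of them have a common member with a second triple of sum `0` and a second equation.
-/

set_option autoImplicit false

namespace CfsgLib.JThree

/-- A coded row: the absolute character value at the involution and the degree modulo 128. -/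
def decR (n : ℕ) : ℕ × ℕ := (n / 128, n % 128)

/-- The code of a row. -/
def encR (r : ℕ × ℕ) : ℕ := r.1 * 128 + r.2

theorem decR_encR {r : ℕ × ℕ} (h : r.2 < 128) : decR (encR r) = r := by
  obtain ⟨a, b⟩ := r
  simp only [decR, encR, Prod.mk.injEq]
  exact ⟨by omega, by omega⟩

/-- An integer root by bisection. -/
def isqrtAux (D : ℕ) : ℕ → ℕ → ℕ
  | 0, lo => lo
  | f + 1, lo => cond (Nat.ble ((lo + 2 ^ f) * (lo + 2 ^ f)) D) (isqrtAux D f (lo + 2 ^ f))
      (isqrtAux D f lo)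

/-- The negation of being an admissible root. -/
def badRoot (us : ℤ) (cc : ℕ) (x : ℤ) : Bool :=
  decide (x = 0) || decide (x + us = 0) || !decide ((x - cc) % 128 = 0)

/-- No admissible root of the quadratic with these coefficients. -/
def noRoot (us : ℤ) (cc : ℕ) (A B C : ℤ) : Bool :=
  let D := B * B - 4 * A * C
  if D < 0 then true else
    let r := isqrtAux D.toNat 70 0
    if r * r < D.toNat && D.toNat < (r + 1) * (r + 1) then true else
      decide ((r : ℤ) * r = D) && !decide (A = 0) &&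
        (!decide ((-B + r) % (2 * A) = 0) || badRoot us cc ((-B + r) / (2 * A))) &&
        (!decide ((-B - r) % (2 * A) = 0) || badRoot us cc ((-B - r) / (2 * A)))

/-- The second triple does not exist. -/
def kill (k : ℕ) (us : ℤ) (Ws : ℕ) (rc rd : ℕ × ℕ) : Bool :=
  let e : ℤ := k * Ws - 320 * us
  noRoot us rc.2 (-e) (-e * us + k * us * ((rd.1 * rd.1 : ℕ) - (rc.1 * rc.1 : ℕ)))
    (-k * (rc.1 * rc.1 : ℕ) * us * us)

/-- The candidate is the known solution or has no second triple. -/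
def accept (k : ℕ) (us : ℤ) (Ws : ℕ) (ps : List ℕ) : Bool :=
  Nat.beq k 26163 ||
    ps.all fun p => kill k us Ws (decR (p / 16384)) (decR (p % 16384))

/-- The position of the common member and its absolute value. -/
def pick (pos a b c : ℕ) : ℕ := if pos = 0 then a else if pos = 1 then b else c

/-- The signed common member. -/
def pickS (sg : Bool) (pos a b c : ℕ) : ℤ :=
  if pos = 2 then cond sg (-(c : ℤ)) c else cond sg (pick pos a b c) (-(pick pos a b c : ℤ))

/-- The test on a candidate with quotient numerator `X`. -/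
def candX (X a b c : ℕ) (test : ℕ → Bool) : Bool :=
  Nat.beq X 0 || !Nat.beq (15200 * (a * b * c) % X) 0 ||
    let k := 15200 * (a * b * c) / X
    Nat.beq (k % 2) 0 || !Nat.beq (1920 * k % a) 0 || !Nat.beq (1920 * k % b) 0 ||
      !Nat.beq (1920 * k % c) 0 || Nat.ble (1920 * k) (a * a + b * b + c * c) || test k

/-- A test of a positive leading pair. -/
def candP (pos : ℕ) (ps : List ℕ) (W1 W2 W3 a b : ℕ) : Bool :=
  let c := a + b + 1
  candX (a * b * c + W1 * b * c + W2 * a * c - W3 * a * b) a b c fun k =>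
    accept k (pickS true pos a b c) (pick pos W1 W2 W3) ps

/-- A test of a negative leading pair. -/
def candN (pos : ℕ) (ps : List ℕ) (W1 W2 W3 a b : ℕ) : Bool :=
  let c := a + b - 1
  candX (a * b * c + W3 * a * b - (W1 * b * c + W2 * a * c)) a b c fun k =>
    accept k (pickS false pos a b c) (pick pos W1 W2 W3) ps

/-- Beyond this `b` a positive pair has no solution. -/
def violP (W1 W2 W3 a b : ℕ) : Bool :=
  Nat.blt (29184000 * a + 2 * a * b * W3) (2 * b * ((a + W1) * b + a * W2))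

/-- Beyond this `b` a negative pair has no solution. -/
def violN (W1 W2 W3 a b : ℕ) : Bool :=
  (Nat.blt a W1 && Nat.ble (W3 * a) ((W1 - a) * b)) ||
    (Nat.blt W1 a && Nat.ble (W2 * a) ((a - W1) * b) &&
      Nat.blt (29184000 * a) (2 * b * ((a - W1) * b - W2 * a)))

/-- Bisection for the first failure. -/
def bsearch (p : ℕ → Bool) : ℕ → ℕ → ℕ
  | 0, lo => lo + 1
  | f + 1, lo => cond (p (lo + 2 ^ f)) (bsearch p f lo) (bsearch p f (lo + 2 ^ f))

/-- A conjunction over an initial segment. -/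
def allBelow (p : ℕ → Bool) : ℕ → Bool
  | 0 => true
  | n + 1 => p n && allBelow p n

/-- The inner search. -/
def inner (cand viol : ℕ → ℕ → Bool) (r2 z2 a : ℕ) : Bool :=
  let N := bsearch (fun i => viol a (r2 + 128 * i)) 12 0
  viol a (r2 + 128 * N) &&
    allBelow (fun i =>
      let b := r2 + 128 * i
      Nat.blt b a || Nat.ble b z2 || Nat.beq (b % 256) 0 || cand a b) N

/-- The outer search. -/
def outer (cand viol : ℕ → ℕ → Bool) (stop : ℕ → Bool) (r1 r2 z1 z2 : ℕ) : Bool :=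
  stop (r1 + 128 * 80) &&
    allBelow (fun i =>
      let a := r1 + 128 * i
      Nat.blt a 2 || Nat.ble a z1 || Nat.beq (a % 256) 0 || stop a || inner cand viol r2 z2 a) 80

/-- Beyond this `a` no positive solution exists. -/
def stopP (W1 W3 a : ℕ) : Bool :=
  Nat.blt W3 (a + W1) && Nat.blt 29184000 (3 * a * (a + W1 - W3))

/-- Beyond this `a` no negative solution exists. -/
def stopN (W1 W2 a : ℕ) : Bool :=
  Nat.blt (W1 + W2) a && Nat.blt 29184000 (3 * a * (a - (W1 + W2)))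

/-- The residue of the absolute value of a negative number. -/
def negRes (c : ℕ) : ℕ := (128 - c) % 128

/-- The search with a given order of the absolute values. -/
def searchPerm (pos : ℕ) (ps : List ℕ) (p q r : ℕ × ℕ) : Bool :=
  outer (candP pos ps (p.1 * p.1) (q.1 * q.1) (r.1 * r.1))
      (violP (p.1 * p.1) (q.1 * q.1) (r.1 * r.1)) (stopP (p.1 * p.1) (r.1 * r.1)) p.2 q.2 p.1 q.1 &&
  outer (candN pos ps (p.1 * p.1) (q.1 * q.1) (r.1 * r.1))
      (violN (p.1 * p.1) (q.1 * q.1) (r.1 * r.1)) (stopN (p.1 * p.1) (q.1 * q.1))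
      (negRes p.2) (negRes q.2) p.1 q.1

/-- The search for one coded triple with its possible partners. -/
def searchT (e : ℕ × List ℕ) : Bool :=
  let s := decR (e.1 / (16384 * 16384))
  let a := decR (e.1 / 16384 % 16384)
  let b := decR (e.1 % 16384)
  searchPerm 0 e.2 s a b && searchPerm 0 e.2 s b a && searchPerm 1 e.2 a s b &&
    searchPerm 1 e.2 b s a && searchPerm 2 e.2 a b s && searchPerm 2 e.2 b a s

/-! ## Soundness -/

theorem allBelow_spec {p : ℕ → Bool} : ∀ {n : ℕ}, allBelow p n = true → ∀ i < n, p i = true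
  | 0, _, i, hi => by omega
  | n + 1, h, i, hi => by
    simp only [allBelow, Bool.and_eq_true] at h
    rcases Nat.lt_succ_iff_lt_or_eq.1 hi with hi | rfl
    exacts [allBelow_spec h.2 i hi, h.1]

theorem noRoot_spec {us : ℤ} {cc : ℕ} {A B C : ℤ} (h : noRoot us cc A B C = true) {x : ℤ}
    (hx : A * x * x + B * x + C = 0) (h0 : x ≠ 0) (h1 : x + us ≠ 0)
    (hc : (128 : ℤ) ∣ x - cc) : False := by
  have hD : (2 * A * x + B) * (2 * A * x + B) = B * B - 4 * A * C := by linear_combination (4 * A) * hx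
  unfold noRoot at h
  simp only at h
  generalize B * B - 4 * A * C = D at h hD
  have hD0 : 0 ≤ D := hD ▸ mul_self_nonneg _
  rw [if_neg (by omega)] at h
  generalize isqrtAux D.toNat 70 0 = r at h
  obtain ⟨s, hs⟩ : ∃ s : ℕ, ((s : ℤ) = 2 * A * x + B ∨ (s : ℤ) = -(2 * A * x + B)) :=
    ⟨(2 * A * x + B).natAbs, by omega⟩
  have hsD : (s : ℤ) * s = D := by
    rcases hs with e | e <;> rw [e, ← hD]
    ring
  have hsN : s * s = D.toNat := by
    have : ((s * s : ℕ) : ℤ) = (D.toNat : ℤ) := by rw [Int.toNat_of_nonneg hD0]; push_cast; exact hsD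
    exact_mod_cast this
  by_cases hgap : r * r < D.toNat ∧ D.toNat < (r + 1) * (r + 1)
  · rw [← hsN] at hgap
    rcases le_or_gt s r with hle | hlt
    · nlinarith [Nat.mul_le_mul hle hle]
    · nlinarith [Nat.mul_le_mul hlt hlt]
  rw [if_neg (by simpa using hgap)] at h
  simp only [Bool.and_eq_true, Bool.or_eq_true, Bool.not_eq_true', decide_eq_true_eq,
    decide_eq_false_iff_not, badRoot] at h
  obtain ⟨⟨⟨hrD, hA⟩, h2⟩, h3⟩ := h
  have hrs : s = r := by
    have : ((s : ℤ)) * s = (r : ℤ) * r := hsD.trans hrD.symm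
    exact_mod_cast (mul_self_inj (Int.natCast_nonneg s) (Int.natCast_nonneg r)).1 this
  have hA2 : (2 * A) ≠ 0 := by omega
  have hbad : ∀ {y : ℤ}, y = 2 * A * x → ((y % (2 * A) ≠ 0) ∨
      ((y / (2 * A) = 0 ∨ y / (2 * A) + us = 0) ∨ (y / (2 * A) - cc) % 128 ≠ 0)) → False := by
    intro y hy h
    rw [hy, Int.mul_emod_right, Int.mul_ediv_cancel_left _ hA2] at h
    rcases h with h | (h | h) | h
    exacts [h rfl, h0 h, h1 h, h (Int.emod_eq_zero_of_dvd hc)]
  rcases hs with e | e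
  · exact hbad (by rw [← hrs, e]; ring) h2
  · exact hbad (by rw [← hrs, e]; ring) h3

theorem kill_spec {k : ℕ} {us : ℤ} {Ws : ℕ} {rc rd : ℕ × ℕ} (h : kill k us Ws rc rd = true)
    {uc ud : ℤ} (hsum : us + uc + ud = 0) (hc0 : uc ≠ 0) (hd0 : ud ≠ 0)
    (hcc : (128 : ℤ) ∣ uc - rc.2)
    (heq : (k : ℤ) * ((Ws : ℤ) * uc * ud + (rc.1 * rc.1 : ℕ) * us * ud + (rd.1 * rd.1 : ℕ) * us * uc) =
      320 * us * uc * ud) : False := by
  obtain rfl : ud = -us - uc := by omega
  refine noRoot_spec h (x := uc) ?_ hc0 (by omega) hcc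
  linear_combination heq

/-- What is known about a constituent. -/
structure Member (k : ℕ) (r : ℕ × ℕ) (u : ℤ) : Prop where
  cong : (128 : ℤ) ∣ u - r.2
  z_lt : r.1 < u.natAbs
  two_le : 2 ≤ u.natAbs
  v2 : ¬ 256 ∣ u.natAbs
  dvd : u.natAbs ∣ 1920 * k

/-- The second triple. -/
def Partner (k : ℕ) (us : ℤ) (Ws : ℕ) (p : ℕ) : Prop :=
  ∃ uc ud : ℤ, us + uc + ud = 0 ∧ uc ≠ 0 ∧ ud ≠ 0 ∧ (128 : ℤ) ∣ uc - (decR (p / 16384)).2 ∧
    (k : ℤ) * ((Ws : ℤ) * uc * ud + ((decR (p / 16384)).1 * (decR (p / 16384)).1 : ℕ) * us * ud +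
      ((decR (p % 16384)).1 * (decR (p % 16384)).1 : ℕ) * us * uc) = 320 * us * uc * ud

theorem accept_spec {k : ℕ} {us : ℤ} {Ws : ℕ} {ps : List ℕ} (h : accept k us Ws ps = true)
    {p : ℕ} (hp : p ∈ ps) (hP : Partner k us Ws p) : k = 26163 := by
  simp only [accept, Bool.or_eq_true, List.all_eq_true] at h
  rcases h with h | h
  · exact Nat.eq_of_beq_eq_true h
  · obtain ⟨uc, ud, hs, hc0, hd0, hcc, heq⟩ := hP
    exact (kill_spec (h p hp) hs hc0 hd0 hcc heq).elim

theorem candX_spec {X a b c k : ℕ} {test : ℕ → Bool} (h : candX X a b c test = true)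
    (hX : k * X = 15200 * (a * b * c)) (hk : k % 2 = 1) (ha : a ∣ 1920 * k) (hb : b ∣ 1920 * k)
    (hc : c ∣ 1920 * k) (hsq : a * a + b * b + c * c < 1920 * k) (habc : 0 < a * b * c) :
    test k = true := by
  have hX0 : 0 < X := Nat.pos_of_ne_zero fun e => by rw [e, mul_zero] at hX; omega
  have hmod : 15200 * (a * b * c) % X = 0 := by rw [← hX]; exact Nat.mul_mod_left k X
  have hdiv : 15200 * (a * b * c) / X = k := by rw [← hX]; exact Nat.mul_div_cancel k hX0
  have e1 : Nat.beq X 0 = false := by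
    cases hx : Nat.beq X 0
    · rfl
    · exact absurd (Nat.eq_of_beq_eq_true hx) hX0.ne'
  have e3 : Nat.ble (1920 * k) (a * a + b * b + c * c) = false := by
    cases hx : Nat.ble (1920 * k) (a * a + b * b + c * c)
    · rfl
    · exact absurd (Nat.le_of_ble_eq_true hx) (by omega)
  simpa [candX, e1, e3, hmod, hdiv, hk, Nat.mod_eq_zero_of_dvd, Nat.dvd_iff_mod_eq_zero.1 ha,
    Nat.dvd_iff_mod_eq_zero.1 hb, Nat.dvd_iff_mod_eq_zero.1 hc] using h

theorem outer_spec {cand viol : ℕ → ℕ → Bool} {stop : ℕ → Bool} {r1 r2 z1 z2 : ℕ}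
    (h : outer cand viol stop r1 r2 z1 z2 = true) {a b : ℕ}
    (ha1 : (a : ℤ) % 128 = r1 % 128) (hr1 : r1 < 128)
    (hb1 : (b : ℤ) % 128 = r2 % 128) (hr2 : r2 < 128)
    (hza : z1 < a) (hzb : z2 < b) (ha2 : 2 ≤ a) (hab : a ≤ b) (hva : ¬ 256 ∣ a) (hvb : ¬ 256 ∣ b)
    (hstop : ∀ a₀, stop a₀ = true → a < a₀)
    (hviol : ∀ b₀, viol a b₀ = true → b < b₀) : cand a b = true := by
  simp only [outer, Bool.and_eq_true] at h
  obtain ⟨hA, hall⟩ := h
  obtain ⟨i, rfl⟩ : ∃ i, a = r1 + 128 * i := ⟨a / 128, by omega⟩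
  have hi : i < 80 := by have := hstop _ hA; omega
  have hn : ∀ m, ¬ 256 ∣ m → Nat.beq (m % 256) 0 = false := fun m hm => by
    cases hx : Nat.beq (m % 256) 0
    · rfl
    · exact absurd (Nat.dvd_of_mod_eq_zero (Nat.eq_of_beq_eq_true hx)) hm
  have hlt : ∀ {x y : ℕ}, y ≤ x → Nat.blt x y = false := fun {x y} hxy => by
    cases hx : Nat.blt x y
    · rfl
    · exact absurd (Nat.le_of_ble_eq_true hx) (by omega)
  have hle : ∀ {x y : ℕ}, y < x → Nat.ble x y = false := fun {x y} hxy => by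
    cases hx : Nat.ble x y
    · rfl
    · exact absurd (Nat.le_of_ble_eq_true hx) (by omega)
  have hs : stop (r1 + 128 * i) = false := by
    cases hx : stop (r1 + 128 * i)
    · rfl
    · exact absurd (hstop _ hx) (lt_irrefl _)
  have h1 := allBelow_spec hall i hi
  simp only [hlt ha2, hle hza, hn _ hva, hs, Bool.false_or] at h1
  simp only [inner, Bool.and_eq_true] at h1
  obtain ⟨hN, hin⟩ := h1
  obtain ⟨j, rfl⟩ : ∃ j, b = r2 + 128 * j := ⟨b / 128, by omega⟩
  have := hviol _ hN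
  have h2 := allBelow_spec hin j (by omega)
  simpa only [hlt hab, hle hzb, hn _ hvb, Bool.false_or] using h2

theorem stopN_spec {W1 W2 W3 a b c : ℕ} (h1Z : (a : ℤ) ≤ b) (h2Z : (b : ℤ) ≤ c) (ha : 0 < a)
    (_hval : (0 : ℤ) < (a : ℤ) * b * c + W3 * a * b - W1 * b * c - W2 * a * c)
    (hbig : ((a : ℤ) * a + (b : ℤ) * b + (c : ℤ) * c) *
        ((a : ℤ) * b * c + W3 * a * b - W1 * b * c - W2 * a * c) < 29184000 * ((a : ℤ) * b * c)) :
    ∀ a₀, stopN W1 W2 a₀ = true → a < a₀ := by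
  intro a₀ hs
  simp only [stopN, Bool.and_eq_true, Nat.blt_eq] at hs
  by_contra hge
  push Not at hge
  have hW : W1 + W2 < a₀ := hs.1
  have hm : 29184000 < 3 * a * (a - (W1 + W2)) :=
    hs.2.trans_le (Nat.mul_le_mul (Nat.mul_le_mul le_rfl hge) (by omega))
  have hmZ : (29184000 : ℤ) < 3 * a * (a - W1 - W2) := by
    have : ((29184000 : ℕ) : ℤ) < ((3 * a * (a - (W1 + W2)) : ℕ) : ℤ) := by exact_mod_cast hm
    rw [Nat.cast_mul, Nat.cast_sub (by omega)] at this
    push_cast at this ⊢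
    linarith
  have hlow : (b : ℤ) * c * (a - W1 - W2) ≤
      (a : ℤ) * b * c + W3 * a * b - W1 * b * c - W2 * a * c := by
    nlinarith [mul_le_mul_of_nonneg_left h1Z (show (0 : ℤ) ≤ W2 * c by positivity),
      show (0 : ℤ) ≤ W3 * a * b by positivity]
  have h3 : 3 * ((a : ℤ) * a) ≤ (a : ℤ) * a + (b : ℤ) * b + (c : ℤ) * c := by nlinarith
  have hd : (0 : ℤ) < a - W1 - W2 := by omega
  have h4 : 3 * ((a : ℤ) * a) * ((b : ℤ) * c * (a - W1 - W2)) < 29184000 * ((a : ℤ) * b * c) := by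
    refine lt_of_le_of_lt (mul_le_mul h3 hlow ?_ ?_) hbig <;> positivity
  nlinarith [mul_lt_mul_of_pos_right hmZ (show (0 : ℤ) < (a : ℤ) * b * c by have : 0 < b := (by omega); have : 0 < c := (by omega); positivity)]

theorem violN_spec {W1 W2 W3 a b c : ℕ} (h1Z : (a : ℤ) ≤ b) (h2Z : (b : ℤ) ≤ c) (ha : 0 < a)
    (_hval : (0 : ℤ) < (a : ℤ) * b * c + W3 * a * b - W1 * b * c - W2 * a * c)
    (hbig : ((a : ℤ) * a + (b : ℤ) * b + (c : ℤ) * c) *
        ((a : ℤ) * b * c + W3 * a * b - W1 * b * c - W2 * a * c) < 29184000 * ((a : ℤ) * b * c)) :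
    ∀ b₀, violN W1 W2 W3 a b₀ = true → b < b₀ := by
  intro b₀ hvb
  simp only [violN, Bool.or_eq_true, Bool.and_eq_true, Nat.blt_eq, Nat.ble_eq] at hvb
  by_contra hge
  push Not at hge
  rcases hvb with ⟨haW, hle⟩ | ⟨⟨haW, hle⟩, hlt⟩
  · have hle' : W3 * a ≤ (W1 - a) * b := hle.trans (Nat.mul_le_mul le_rfl hge)
    have hle'' : (W3 : ℤ) * a ≤ ((W1 : ℤ) - a) * b := by
      have : ((W3 * a : ℕ) : ℤ) ≤ (((W1 - a) * b : ℕ) : ℤ) := by exact_mod_cast hle'
      rw [Nat.cast_mul, Nat.cast_mul, Nat.cast_sub (by omega)] at this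
      exact this
    nlinarith [mul_le_mul_of_nonneg_left hle'' (show (0 : ℤ) ≤ (b : ℤ) by positivity),
      mul_le_mul_of_nonneg_left h2Z (show (0 : ℤ) ≤ ((W1 : ℤ) - a) * b by
        exact mul_nonneg (by omega) (by positivity)),
      show (0 : ℤ) ≤ W2 * a * c by positivity]
  · have hle' : W2 * a ≤ (a - W1) * b := hle.trans (Nat.mul_le_mul le_rfl hge)
    have hlt' : 29184000 * a < 2 * b * ((a - W1) * b - W2 * a) :=
      hlt.trans_le (Nat.mul_le_mul (Nat.mul_le_mul le_rfl hge)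
        (Nat.sub_le_sub_right (Nat.mul_le_mul le_rfl hge) _))
    have hltZ : (29184000 : ℤ) * a < 2 * b * (((a : ℤ) - W1) * b - W2 * a) := by
      have : ((29184000 * a : ℕ) : ℤ) < ((2 * b * ((a - W1) * b - W2 * a) : ℕ) : ℤ) := by
        exact_mod_cast hlt'
      rw [Nat.cast_mul (2 * b), Nat.cast_sub hle', Nat.cast_mul (a - W1),
        Nat.cast_sub (by omega : W1 ≤ a)] at this
      push_cast at this
      exact this
    have hnn : (0 : ℤ) ≤ ((a : ℤ) - W1) * b - W2 * a := by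
      by_contra hh
      push Not at hh
      nlinarith
    have hlow : (c : ℤ) * (((a : ℤ) - W1) * b - W2 * a) ≤
        (a : ℤ) * b * c + W3 * a * b - W1 * b * c - W2 * a * c := by
      nlinarith [show (0 : ℤ) ≤ W3 * a * b by positivity]
    have h3 : 2 * ((b : ℤ) * b) ≤ (a : ℤ) * a + (b : ℤ) * b + (c : ℤ) * c := by nlinarith
    have h4 : 2 * ((b : ℤ) * b) * ((c : ℤ) * (((a : ℤ) - W1) * b - W2 * a)) <
        29184000 * ((a : ℤ) * b * c) := by
      refine lt_of_le_of_lt (mul_le_mul h3 hlow ?_ ?_) hbig <;> positivity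
    have hbc0 : (0 : ℤ) < (b : ℤ) * c := by
      have : 0 < b := (by omega); have : 0 < c := (by omega); positivity
    nlinarith [mul_lt_mul_of_pos_right hltZ hbc0]

theorem stopP_spec {W1 W2 W3 a b c : ℕ} (h1Z : (a : ℤ) ≤ b) (h2Z : (b : ℤ) ≤ c) (ha : 0 < a)
    (_hval : (0 : ℤ) < (a : ℤ) * b * c + W1 * b * c + W2 * a * c - W3 * a * b)
    (hbig : ((a : ℤ) * a + (b : ℤ) * b + (c : ℤ) * c) *
        ((a : ℤ) * b * c + W1 * b * c + W2 * a * c - W3 * a * b) < 29184000 * ((a : ℤ) * b * c)) :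
    ∀ a₀, stopP W1 W3 a₀ = true → a < a₀ := by
  intro a₀ hs
  simp only [stopP, Bool.and_eq_true, Nat.blt_eq] at hs
  by_contra hge
  push Not at hge
  have hW : W3 < a₀ + W1 := hs.1
  have hm : 29184000 < 3 * a * (a + W1 - W3) :=
    hs.2.trans_le (Nat.mul_le_mul (Nat.mul_le_mul le_rfl hge) (by omega))
  have hmZ : (29184000 : ℤ) < 3 * a * (a + W1 - W3) := by
    have : ((29184000 : ℕ) : ℤ) < ((3 * a * (a + W1 - W3) : ℕ) : ℤ) := by exact_mod_cast hm
    rw [Nat.cast_mul, Nat.cast_sub (by omega)] at this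
    push_cast at this ⊢
    linarith
  have hlow : (b : ℤ) * c * (a + W1 - W3) ≤
      (a : ℤ) * b * c + W1 * b * c + W2 * a * c - W3 * a * b := by
    nlinarith [mul_le_mul_of_nonneg_left (h1Z.trans h2Z) (show (0 : ℤ) ≤ W3 * b by positivity),
      show (0 : ℤ) ≤ W2 * a * c by positivity]
  have h3 : 3 * ((a : ℤ) * a) ≤ (a : ℤ) * a + (b : ℤ) * b + (c : ℤ) * c := by nlinarith
  have hd : (0 : ℤ) < a + W1 - W3 := by omega
  have h4 : 3 * ((a : ℤ) * a) * ((b : ℤ) * c * (a + W1 - W3)) < 29184000 * ((a : ℤ) * b * c) := by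
    refine lt_of_le_of_lt (mul_le_mul h3 hlow ?_ ?_) hbig <;> positivity
  nlinarith [mul_lt_mul_of_pos_right hmZ (show (0 : ℤ) < (a : ℤ) * b * c by have : 0 < b := (by omega); have : 0 < c := (by omega); positivity)]

theorem violP_spec {W1 W2 W3 a b c : ℕ} (h1Z : (a : ℤ) ≤ b) (h2Z : (b : ℤ) ≤ c) (ha : 0 < a)
    (_hval : (0 : ℤ) < (a : ℤ) * b * c + W1 * b * c + W2 * a * c - W3 * a * b)
    (hbig : ((a : ℤ) * a + (b : ℤ) * b + (c : ℤ) * c) *
        ((a : ℤ) * b * c + W1 * b * c + W2 * a * c - W3 * a * b) < 29184000 * ((a : ℤ) * b * c)) :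
    ∀ b₀, violP W1 W2 W3 a b₀ = true → b < b₀ := by
  intro b₀ hvb
  simp only [violP, Nat.blt_eq] at hvb
  by_contra hge
  push Not at hge
  have hvZ : (29184000 : ℤ) * a + 2 * a * b₀ * W3 < 2 * b₀ * (((a : ℤ) + W1) * b₀ + a * W2) := by
    exact_mod_cast hvb
  have hgeZ : (b₀ : ℤ) ≤ b := by exact_mod_cast hge
  set E : ℤ := ((a : ℤ) + W1) * b + a * W2 - a * W3 with hE
  have hb0 : (0 : ℤ) < b₀ := by
    rcases Nat.eq_zero_or_pos b₀ with e | e
    · subst e; simp at hvb
    · exact_mod_cast e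
  set E0 : ℤ := ((a : ℤ) + W1) * b₀ + a * W2 - a * W3 with hE0
  have hE0' : (29184000 : ℤ) * a < 2 * b₀ * E0 := by rw [hE0]; linarith
  have hE0p : 0 < E0 := by
    by_contra hh
    push Not at hh
    nlinarith
  have hEE : E0 ≤ E := by
    rw [hE0, hE]
    nlinarith
  have hlow : (c : ℤ) * E ≤ (a : ℤ) * b * c + W1 * b * c + W2 * a * c - W3 * a * b := by
    rw [hE]
    nlinarith [mul_le_mul_of_nonneg_left h2Z (show (0 : ℤ) ≤ W3 * a by positivity)]
  have h3 : 2 * ((b : ℤ) * b) ≤ (a : ℤ) * a + (b : ℤ) * b + (c : ℤ) * c := by nlinarith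
  have hEp : 0 < E := lt_of_lt_of_le hE0p hEE
  have h4 : 2 * ((b : ℤ) * b) * ((c : ℤ) * E) < 29184000 * ((a : ℤ) * b * c) := by
    refine lt_of_le_of_lt (mul_le_mul h3 hlow ?_ ?_) hbig <;> positivity
  have hbc0 : (0 : ℤ) < (b : ℤ) * c := by
    have : 0 < b := (by omega); have : 0 < c := (by omega); positivity
  have hup : (29184000 : ℤ) * a < 2 * b * E := by
    nlinarith [mul_le_mul hgeZ hEE hE0p.le (show (0 : ℤ) ≤ b by positivity)]
  nlinarith [mul_lt_mul_of_pos_right hup hbc0]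

set_option maxHeartbeats 800000 in
theorem searchPerm_spec {pos : ℕ} {ps : List ℕ} {p q r : ℕ × ℕ}
    (h : searchPerm pos ps p q r = true) (hp : p.2 < 128) (hq : q.2 < 128)
    {k : ℕ} (hk : k % 2 = 1) {u v w : ℤ} (hu : Member k p u) (hv : Member k q v) (hw : Member k r w)
    (h1 : u.natAbs ≤ v.natAbs) (h2 : v.natAbs ≤ w.natAbs) (hsum : u + v + w = -1)
    (hsq : u.natAbs * u.natAbs + v.natAbs * v.natAbs + w.natAbs * w.natAbs < 1920 * k)
    (heq : (k : ℤ) * (u * v * w + (p.1 * p.1 : ℕ) * v * w + (q.1 * q.1 : ℕ) * u * w +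
      (r.1 * r.1 : ℕ) * u * v) = 15200 * (u * v * w))
    (hpos : pos < 3) {e : ℕ} (he : e ∈ ps)
    (hP : Partner k (if pos = 0 then u else if pos = 1 then v else w)
      (if pos = 0 then p.1 * p.1 else if pos = 1 then q.1 * q.1 else r.1 * r.1) e) : k = 26163 := by
  simp only [searchPerm, Bool.and_eq_true] at h
  obtain ⟨hPos, hNeg⟩ := h
  have := hu.two_le
  have hk0 : 0 < k := by omega
  have hc := hu.cong
  have hc' := hv.cong
  generalize hW1 : p.1 * p.1 = W1 at *
  generalize hW2 : q.1 * q.1 = W2 at *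
  generalize hW3 : r.1 * r.1 = W3 at *
  rcases lt_or_gt_of_ne (show u ≠ 0 by omega) with hneg | hposu
  · -- negative leading pair
    have hvneg : v < 0 := by omega
    have hwpos : 0 < w := by omega
    obtain ⟨a, rfl⟩ : ∃ a : ℕ, u = -(a : ℤ) := ⟨u.natAbs, by omega⟩
    obtain ⟨b, rfl⟩ : ∃ b : ℕ, v = -(b : ℤ) := ⟨v.natAbs, by omega⟩
    obtain ⟨c, rfl⟩ : ∃ c : ℕ, w = (c : ℤ) := ⟨w.natAbs, by omega⟩
    simp only [Int.natAbs_neg, Int.natAbs_natCast] at *
    have hc_eq : c = a + b - 1 := by omega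
    have hbc : b ≤ c := by omega
    have hX : k * (a * b * c + W3 * a * b - (W1 * b * c + W2 * a * c)) = 15200 * (a * b * c) := by
      have h0 : (k : ℤ) * ((a * b * c + W3 * a * b : ℕ) - (W1 * b * c + W2 * a * c : ℕ)) =
          15200 * ((a * b * c : ℕ) : ℤ) := by push_cast; linear_combination heq
      have hpos : (0 : ℤ) < ((a * b * c : ℕ) : ℤ) := by
        have : 0 < a * b * c := Nat.mul_pos (Nat.mul_pos (by omega) (by omega)) (by omega)
        exact_mod_cast this
      have hle : W1 * b * c + W2 * a * c ≤ a * b * c + W3 * a * b := by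
        by_contra hlt
        push Not at hlt
        have : ((a * b * c + W3 * a * b : ℕ) : ℤ) < (W1 * b * c + W2 * a * c : ℕ) := by exact_mod_cast hlt
        nlinarith
      exact_mod_cast (show (k : ℤ) * ((a * b * c + W3 * a * b - (W1 * b * c + W2 * a * c) : ℕ) : ℤ) =
        15200 * ((a * b * c : ℕ) : ℤ) by rw [Nat.cast_sub hle]; exact h0)
    have habc : 0 < a * b * c := Nat.mul_pos (Nat.mul_pos (by omega) (by omega)) (by omega)
    have hXZ : (k : ℤ) * ((a : ℤ) * b * c + W3 * a * b - W1 * b * c - W2 * a * c) =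
        15200 * ((a : ℤ) * b * c) := by linear_combination heq
    have habcZ : (0 : ℤ) < (a : ℤ) * b * c := by exact_mod_cast habc
    have hval : (0 : ℤ) < (a : ℤ) * b * c + W3 * a * b - W1 * b * c - W2 * a * c := by nlinarith
    have hsqZ : (a : ℤ) * a + (b : ℤ) * b + (c : ℤ) * c < 1920 * k := by exact_mod_cast hsq
    have hbig : ((a : ℤ) * a + (b : ℤ) * b + (c : ℤ) * c) *
        ((a : ℤ) * b * c + W3 * a * b - W1 * b * c - W2 * a * c) < 29184000 * ((a : ℤ) * b * c) := by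
      nlinarith [mul_lt_mul_of_pos_right hsqZ hval]
    have h1Z : (a : ℤ) ≤ b := by exact_mod_cast h1
    have h2Z : (b : ℤ) ≤ c := by exact_mod_cast hbc
    have hstop := stopN_spec h1Z h2Z (by omega) hval hbig
    have hviol := violN_spec h1Z h2Z (by omega) hval hbig
    have key := outer_spec hNeg (a := a) (b := b) (by unfold negRes; omega) (by unfold negRes; omega)
      (by unfold negRes; omega) (by unfold negRes; omega) (by simpa using hu.z_lt) (by simpa using hv.z_lt) this h1 (by simpa using hu.v2) (by simpa using hv.v2)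
      hstop hviol
    simp only [candN, ← hc_eq] at key
    have hacc := candX_spec key hX hk (by simpa using hu.dvd) (by simpa using hv.dvd) (by simpa using hw.dvd) hsq habc
    refine accept_spec hacc he ?_
    interval_cases pos <;> simpa [pickS, pick] using hP
  · -- positive leading pair
    have hvpos : 0 < v := by omega
    have hwneg : w < 0 := by omega
    obtain ⟨a, rfl⟩ : ∃ a : ℕ, u = (a : ℤ) := ⟨u.natAbs, by omega⟩
    obtain ⟨b, rfl⟩ : ∃ b : ℕ, v = (b : ℤ) := ⟨v.natAbs, by omega⟩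
    obtain ⟨c, rfl⟩ : ∃ c : ℕ, w = -(c : ℤ) := ⟨w.natAbs, by omega⟩
    simp only [Int.natAbs_neg, Int.natAbs_natCast] at *
    have hc_eq : c = a + b + 1 := by omega
    have hbc : b ≤ c := by omega
    have habc : 0 < a * b * c := Nat.mul_pos (Nat.mul_pos (by omega) (by omega)) (by omega)
    have hXZ : (k : ℤ) * ((a : ℤ) * b * c + W1 * b * c + W2 * a * c - W3 * a * b) =
        15200 * ((a : ℤ) * b * c) := by linear_combination -heq
    have habcZ : (0 : ℤ) < (a : ℤ) * b * c := by exact_mod_cast habc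
    have hval : (0 : ℤ) < (a : ℤ) * b * c + W1 * b * c + W2 * a * c - W3 * a * b := by nlinarith
    have hle : W3 * a * b ≤ a * b * c + W1 * b * c + W2 * a * c := by
      have : ((W3 * a * b : ℕ) : ℤ) ≤ ((a * b * c + W1 * b * c + W2 * a * c : ℕ) : ℤ) := by
        push_cast; linarith
      exact_mod_cast this
    have hX : k * (a * b * c + W1 * b * c + W2 * a * c - W3 * a * b) = 15200 * (a * b * c) := by
      exact_mod_cast (show (k : ℤ) * ((a * b * c + W1 * b * c + W2 * a * c - W3 * a * b : ℕ) : ℤ) =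
        15200 * ((a * b * c : ℕ) : ℤ) by rw [Nat.cast_sub hle]; push_cast; exact hXZ)
    have hsqZ : (a : ℤ) * a + (b : ℤ) * b + (c : ℤ) * c < 1920 * k := by exact_mod_cast hsq
    have hbig : ((a : ℤ) * a + (b : ℤ) * b + (c : ℤ) * c) *
        ((a : ℤ) * b * c + W1 * b * c + W2 * a * c - W3 * a * b) < 29184000 * ((a : ℤ) * b * c) := by
      nlinarith [mul_lt_mul_of_pos_right hsqZ hval]
    have h1Z : (a : ℤ) ≤ b := by exact_mod_cast h1
    have h2Z : (b : ℤ) ≤ c := by exact_mod_cast hbc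
    have hstop := stopP_spec h1Z h2Z (by omega) hval hbig (W2 := W2)
    have hviol := violP_spec h1Z h2Z (by omega) hval hbig
    have key := outer_spec hPos (a := a) (b := b) (by omega) hp (by omega) hq hu.z_lt hv.z_lt this h1
      hu.v2 hv.v2 hstop hviol
    simp only [candP, ← hc_eq] at key
    have hacc := candX_spec key hX hk (by simpa using hu.dvd) (by simpa using hv.dvd) (by simpa using hw.dvd) hsq habc
    refine accept_spec hacc he ?_
    interval_cases pos <;> simpa [pickS, pick] using hP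

/-- The search is correct. -/
theorem searchT_spec {e : ℕ × List ℕ} (h : searchT e = true) {rS rA rB : ℕ × ℕ}
    (hS : decR (e.1 / (16384 * 16384)) = rS) (hA : decR (e.1 / 16384 % 16384) = rA)
    (hB : decR (e.1 % 16384) = rB) {k : ℕ} (hk : k % 2 = 1) {us ua ub : ℤ}
    (mS : Member k rS us) (mA : Member k rA ua) (mB : Member k rB ub)
    (hsum : us + ua + ub = -1)
    (hsq : us.natAbs * us.natAbs + ua.natAbs * ua.natAbs + ub.natAbs * ub.natAbs < 1920 * k)
    (heq : (k : ℤ) * (us * ua * ub + (rS.1 * rS.1 : ℕ) * ua * ub + (rA.1 * rA.1 : ℕ) * us * ub +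
      (rB.1 * rB.1 : ℕ) * us * ua) = 15200 * (us * ua * ub))
    {p : ℕ} (hp : p ∈ e.2) (hP : Partner k us (rS.1 * rS.1) p) : k = 26163 := by
  have hlt : ∀ n, (decR n).2 < 128 := fun n => Nat.mod_lt _ (by norm_num)
  simp only [searchT, hS, hA, hB, Bool.and_eq_true] at h
  obtain ⟨⟨⟨⟨⟨g1, g2⟩, g3⟩, g4⟩, g5⟩, g6⟩ := h
  have lS : rS.2 < 128 := hS ▸ hlt _
  have lA : rA.2 < 128 := hA ▸ hlt _
  have lB : rB.2 < 128 := hB ▸ hlt _
  have cases : (us.natAbs ≤ ua.natAbs ∧ ua.natAbs ≤ ub.natAbs) ∨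
      (us.natAbs ≤ ub.natAbs ∧ ub.natAbs ≤ ua.natAbs) ∨
      (ua.natAbs ≤ us.natAbs ∧ us.natAbs ≤ ub.natAbs) ∨
      (ub.natAbs ≤ us.natAbs ∧ us.natAbs ≤ ua.natAbs) ∨
      (ua.natAbs ≤ ub.natAbs ∧ ub.natAbs ≤ us.natAbs) ∨
      (ub.natAbs ≤ ua.natAbs ∧ ua.natAbs ≤ us.natAbs) := by omega
  rcases cases with ⟨h1, h2⟩ | ⟨h1, h2⟩ | ⟨h1, h2⟩ | ⟨h1, h2⟩ | ⟨h1, h2⟩ | ⟨h1, h2⟩
  · exact searchPerm_spec g1 lS lA hk mS mA mB h1 h2 hsum hsq heq (by norm_num) hp (by simpa using hP)
  · exact searchPerm_spec g2 lS lB hk mS mB mA h1 h2 (by omega) (by omega)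
      (by linear_combination heq) (by norm_num) hp (by simpa using hP)
  · exact searchPerm_spec g3 lA lS hk mA mS mB h1 h2 (by omega) (by omega)
      (by linear_combination heq) (by norm_num) hp (by simpa using hP)
  · exact searchPerm_spec g4 lB lS hk mB mS mA h1 h2 (by omega) (by omega)
      (by linear_combination heq) (by norm_num) hp (by simpa using hP)
  · exact searchPerm_spec g5 lA lB hk mA mB mS h1 h2 (by omega) (by omega)
      (by linear_combination heq) (by norm_num) hp (by simpa using hP)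
  · exact searchPerm_spec g6 lB lA hk mB mA mS h1 h2 (by omega) (by omega)
      (by linear_combination heq) (by norm_num) hp (by simpa using hP)

end CfsgLib.JThree
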