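import Cfsg.Agent.Lib.JThree.ModelData
import Cfsg.Agent.Lib.JThree.Search

/-!
Arithmetic of codes for the group `2^(1+4).A₅` and its checked facts about elements and classes.
-/

set_option autoImplicit false
set_option maxRecDepth 100000
set_option Elab.async false

namespace CfsgLib.JThree.Model

open CfsgLib.JThree (allBelow)

/-- The image of point `i` under permutation `s`. -/
def img (s i : ℕ) : ℕ := tget imgT 3 (5 * s + i)

/-- The preimage of point `i` under permutation `s`. -/
def pre (s i : ℕ) : ℕ := tget preT 3 (5 * s + i)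

/-- The product of permutations. -/
def m5 (s t : ℕ) : ℕ := tget mul5T 6 (60 * s + t)

/-- The product of words. -/
def mQ (q r : ℕ) : ℕ := tget mQT 5 (32 * q + r)

/-- The image of a word under a permutation. -/
def actQ (s q : ℕ) : ℕ := tget actT 5 (32 * s + q)

/-- The product of codes. -/
def mulC (x y : ℕ) : ℕ := 32 * m5 (x / 32) (y / 32) + mQ (x % 32) (actQ (x / 32) (y % 32))

/-- The inverse of a code. -/
def invC (x : ℕ) : ℕ := tget invT 11 x

/-- The class of a code. -/
def cls (x : ℕ) : ℕ := tget clsT 4 x

/-- The representative of a class. -/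
def rep (i : ℕ) : ℕ := repL.getD i 0

/-- The size of a class. -/
def sz (i : ℕ) : ℕ := szL.getD i 0

/-- Conjugation. -/
def conjC (g x : ℕ) : ℕ := mulC (mulC g x) (invC g)

/-- The classes of elements with a power equal to the central involution. -/
def special : List ℕ := [1, 3, 5, 8, 10, 13, 15]

/-- Powers. -/
def powC (x : ℕ) : ℕ → ℕ
  | 0 => 0
  | n + 1 => mulC (powC x n) x

/-- An involution. -/
def isInv (x : ℕ) : Bool := !Nat.beq x 0 && Nat.beq (mulC x x) 0

/-- The codes of the five anticommuting involutions. -/
def gcode : ℕ → ℕ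
  | 0 => 2
  | 1 => 4
  | 2 => 8
  | 3 => 16
  | _ => u4code

/-! ## Permutations -/

theorem img_ok : allBelow (fun s => allBelow (fun i => Nat.blt (img s i) 5 && Nat.blt (pre s i) 5 &&
    Nat.beq (pre s (img s i)) i && Nat.beq (img s (pre s i)) i) 5) 60 = true := by decide +kernel

theorem m5_ok : allBelow (fun s => allBelow (fun t => Nat.blt (m5 s t) 60 &&
    allBelow (fun i => Nat.beq (img (m5 s t) i) (img s (img t i))) 5) 60) 60 = true := by decide +kernel

theorem img_inj : allBelow (fun s => allBelow (fun t => Nat.beq s t ||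
    !allBelow (fun i => Nat.beq (img s i) (img t i)) 5) 60) 60 = true := by decide +kernel

/-! ## Words -/

theorem word_lt : allBelow (fun q => allBelow (fun r => Nat.blt (mQ q r) 32) 32) 32 &&
    allBelow (fun s => allBelow (fun q => Nat.blt (actQ s q) 32) 32) 60 = true := by decide +kernel

/-- Multiplying a word by the central involution. -/
def stepZ (q : ℕ) (b : Bool) : ℕ := cond b (mQ q 1) q

/-- Multiplying a word by an involution. -/
def stepU (i q : ℕ) (b : Bool) : ℕ := cond b (mQ q (gcode i)) q

theorem stepZ_ok : allBelow (fun q => Nat.beq (mQ q 1) (2 * (q / 2) + (1 - q % 2))) 32 = true := by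
  decide +kernel

/-- A bit. -/
def bit (q i : ℕ) : Bool := Nat.beq (q / 2 ^ i % 2) 1

theorem chain_ok : allBelow (fun q => allBelow (fun r =>
    Nat.beq (mQ q r) (stepU 3 (stepU 2 (stepU 1 (stepU 0 (stepZ q (bit r 0)) (bit r 1)) (bit r 2))
      (bit r 3)) (bit r 4))) 32) 32 = true := by decide +kernel

/-- Multiplying a word by the image of an involution. -/
def stepA (s i q : ℕ) (b : Bool) : ℕ := cond b (mQ q (gcode (img s i))) q

theorem act_ok : allBelow (fun s => allBelow (fun q =>
    Nat.beq (actQ s q) (stepA s 3 (stepA s 2 (stepA s 1 (stepA s 0 (stepZ 0 (bit q 0)) (bit q 1))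
      (bit q 2)) (bit q 3)) (bit q 4))) 32) 60 = true := by decide +kernel

/-! ## Elements -/

theorem inv_ok : allBelow (fun x => Nat.blt (invC x) 1920 && Nat.beq (mulC x (invC x)) 0) 1920 = true := by
  decide +kernel

theorem tree_ok : allBelow (fun x => Nat.beq x 0 ||
    (Nat.blt (tget parT 11 x) 1920 &&
      Nat.beq (mulC (tget parT 11 x) (gens.getD (tget gixT 1 x) 0)) x &&
      Nat.blt (tget depT 6 (tget parT 11 x)) (tget depT 6 x))) 1920 = true := by decide +kernel

theorem cls_lt : allBelow (fun x => Nat.blt (cls x) 16) 1920 = true := by decide +kernel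

theorem cls_gens : allBelow (fun x => gens.all fun g => Nat.beq (cls (conjC g x)) (cls x)) 1920 = true := by
  decide +kernel

theorem wit_ok : allBelow (fun x => Nat.blt (tget witT 11 x) 1920 &&
    Nat.beq (conjC (tget witT 11 x) (rep (cls x))) x) 1920 = true := by decide +kernel

theorem rep_ok : allBelow (fun i => Nat.blt (rep i) 1920 && Nat.beq (cls (rep i)) i) 16 = true := by
  decide +kernel

theorem cls_zero : allBelow (fun x => (!Nat.beq (cls x) 0 || Nat.beq x 0) &&
    (!Nat.beq (cls x) 1 || Nat.beq x 1)) 1920 = true := by decide +kernel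

theorem cls_one : cls 1 = 1 ∧ cls 0 = 0 := by decide +kernel

end CfsgLib.JThree.Model
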