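import Cfsg.Agent.Lib.JThree.Model

/-!
The exceptional functions of the model: checked facts on their values and on the induced characters
combining to them.
-/

set_option autoImplicit false
set_option maxRecDepth 100000
set_option Elab.async false

namespace CfsgLib.JThree.Model

open CfsgLib.JThree (allBelow)

/-- The value of function `j` on class `i`. -/
def funV (j i : ℕ) : ℤ := (funL.getD j []).getD i 0

/-- Powers of a primitive sixth root of unity over `1` and the root. -/
def zeta6 : ℕ → ℤ × ℤ
  | 0 => (1, 0)
  | 1 => (0, 1)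
  | 2 => (-1, 1)
  | 3 => (-1, 0)
  | 4 => (0, -1)
  | _ => (1, -1)

/-- The first coordinates of the sum of a linear character over the elements of a class in a subgroup. -/
def clsSumA : List ℕ → List ℕ → ℕ → ℤ
  | x :: xs, l :: ls, i => (if Nat.beq (cls x) i then (zeta6 l).1 else 0) + clsSumA xs ls i
  | _, _, _ => 0

/-- The second coordinates of the sum of a linear character over the elements of a class in a subgroup. -/
def clsSumB : List ℕ → List ℕ → ℕ → ℤ
  | x :: xs, l :: ls, i => (if Nat.beq (cls x) i then (zeta6 l).2 else 0) + clsSumB xs ls i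
  | _, _, _ => 0

/-- A combination of sums over the subgroups. -/
def combSum (f : List ℕ → List ℕ → ℕ → ℤ) : List (List ℕ × List ℕ) → List ℤ → ℕ → ℤ
  | H :: Hs, c :: cs, i => c * ((1920 / H.1.length : ℕ) : ℤ) * f H.1 H.2 i + combSum f Hs cs i
  | _, _, _ => 0

theorem comb_ok : allBelow (fun j => allBelow (fun i =>
    decide (combSum clsSumA subs (coefL.getD j []) i = (sz i : ℤ) * funV j i) &&
      decide (combSum clsSumB subs (coefL.getD j []) i = 0)) 16) 6 = true := by decide +kernel

theorem fun_supp : allBelow (fun j => allBelow (fun i =>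
    special.contains i || decide (funV j i = 0)) 16) 6 = true := by decide +kernel

/-- The weighted sum over the classes. -/
def wsum (f : ℕ → ℤ) : ℕ → ℤ
  | 0 => 0
  | n + 1 => (sz n : ℤ) * f n + wsum f n

/-- The Gram matrix of the functions. -/
def gramL : List (List ℤ) :=
  [[8, 0, -2, 0, 2, 2], [0, 3, 1, 1, -1, 0], [-2, 1, 4, -1, 0, 1], [0, 1, -1, 4, 0, -1],
    [2, -1, 0, 0, 5, 0], [2, 0, 1, -1, 0, 6]]

theorem gram_ok : allBelow (fun j => allBelow (fun l =>
    decide (wsum (fun i => funV j i * funV l i) 16 = 1920 * (gramL.getD j []).getD l 0)) 6) 6 = true := by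
  decide +kernel

/-- The inner products with the trivial character. -/
def trivV (j : ℕ) : ℤ := [0, 0, 1, 0, 0, 1].getD j 0

theorem triv_ok : allBelow (fun j => decide (wsum (funV j) 16 = 1920 * trivV j)) 6 = true := by
  decide +kernel

theorem pair_sums : wsum (fun i => funV 1 i * (cntL.getD i 0 : ℕ)) 16 = 320 ∧
    wsum (fun i => funV 2 i * (cntL.getD i 0 : ℕ)) 16 = 15200 := by decide +kernel

/-- The weights giving the value at one class. -/
def weight : ℕ → List ℤ
  | 1 => [-2, -11, -9, 15, 5, 10]
  | 3 => [2, 1, 3, 3, 1, -2]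
  | _ => [0, -1, 1, 1, -1, 0]

/-- The weighted combination of the functions. -/
def wcomb (c i : ℕ) : ℤ :=
  (weight c).getD 0 0 * funV 0 i + (weight c).getD 1 0 * funV 1 i + (weight c).getD 2 0 * funV 2 i +
    (weight c).getD 3 0 * funV 3 i + (weight c).getD 4 0 * funV 4 i + (weight c).getD 5 0 * funV 5 i

theorem weight_ok : [1, 3, 10].all (fun c => allBelow (fun i =>
    decide ((sz c : ℤ) * wcomb c i = if Nat.beq i c then 1920 else 0)) 16) = true := by decide +kernel

/-- The exponent of `x` in subgroup `n`, increased by one, or zero outside. -/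
def labC (n x : ℕ) : ℕ := tget (labT.getD n 0) 3 x

/-- The test that subgroup `n` is a subgroup with a homomorphism to the integers modulo six. -/
def homTest (n : ℕ) : Bool :=
  let H := (subs.getD n ([], [])).1
  let L := (subs.getD n ([], [])).2
  Nat.beq ((List.range 1920).countP fun x => !Nat.beq (labC n x) 0) H.length &&
    Nat.beq L.length H.length && Nat.beq (labC n 0) 1 &&
    (H.zip L).all (fun a => Nat.blt a.1 1920 && Nat.blt a.2 6 && Nat.beq (labC n a.1) (a.2 + 1)) &&
    H.all fun x => H.all fun y => Nat.beq (labC n (mulC x y)) ((labC n x - 1 + (labC n y - 1)) % 6 + 1)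

/-- The elements of a list of codes are strictly increasing. -/
def incr : List ℕ → Bool
  | a :: b :: l => Nat.blt a b && incr (b :: l)
  | _ => true

theorem subs_incr : (subs.all fun H => incr H.1) = true ∧ subs.length = 12 := by decide +kernel

end CfsgLib.JThree.Model
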