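import Cfsg.Agent.Lib.JThree.Model

/-!
Checked facts on powers and counts in the model.
-/

set_option autoImplicit false
set_option maxRecDepth 100000
set_option Elab.async false

namespace CfsgLib.JThree.Model

open CfsgLib.JThree (allBelow)

/-- The conditions on a power of a special element. -/
def powerTest (x k : ℕ) : Bool :=
  Nat.beq (powC x k) 0 || !Nat.beq (powC x (2 * k)) 0 || Nat.beq (powC x k) 1

theorem power_ok : allBelow (fun x => !special.contains (cls x) ||
    (powerTest x 1 && powerTest x 2 && powerTest x 3 && powerTest x 4 && powerTest x 5 && powerTest x 6 &&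
      [1, 2, 3, 4, 5, 6].any fun k => Nat.beq (powC x k) 1)) 1920 = true := by decide +kernel

theorem sq_one_ok : allBelow (fun x => !Nat.beq (mulC x x) 1 || Nat.beq (cls x) 3) 1920 = true := by
  decide +kernel

/-- The number of involutions with involution product with `x`. -/
def invCount (x : ℕ) : ℕ := (List.range 1920).countP fun u => isInv u && isInv (mulC u x)

theorem count_ok : special.all (fun i => Nat.beq (invCount (rep i)) (cntL.getD i 0)) = true := by
  decide +kernel

theorem sz_ok : allBelow (fun i => Nat.beq ((List.range 1920).countP fun x => Nat.beq (cls x) i) (sz i) &&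
    Nat.blt 0 (sz i)) 16 = true := by decide +kernel

end CfsgLib.JThree.Model
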