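import Cfsg.Agent.Lib.JThree.Model

/-!
Checked facts on a Sylow 2-subgroup of the model.
-/

set_option autoImplicit false
set_option maxRecDepth 100000
set_option Elab.async false

namespace CfsgLib.JThree.Model

open CfsgLib.JThree (allBelow)

/-! ## The Sylow 2-subgroup -/

/-- An element of order four. -/
def isFour (x : ℕ) : Bool := !Nat.beq (mulC x x) 0 && Nat.beq (mulC (mulC x x) (mulC x x)) 0

/-- Membership in the Sylow 2-subgroup. -/
def inSyl (x : ℕ) : Bool := Nat.beq ((sylM >>> x) % 2) 1

/-- A list is strictly increasing. -/
def increasing : List ℕ → Bool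
  | a :: b :: l => Nat.blt a b && increasing (b :: l)
  | _ => true

theorem syl_inc : increasing sylL = true ∧ sylL.length = 128 := by decide +kernel

theorem syl_mem : (sylL.all fun x => inSyl x) = true ∧
    (sylL.all fun x => Nat.blt x 1920) = true ∧ inSyl 0 = true ∧ sylM < 2 ^ 1920 := by decide +kernel

theorem syl_count : (List.range 1920).countP inSyl = 128 := by decide +kernel

theorem syl_kind : (sylL.all fun x => Nat.beq x 0 || isInv x || isFour x || Nat.beq (cls x) 10) = true ∧
    sylL.countP isInv = 35 ∧ sylL.countP isFour = 44 := by decide +kernel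

end CfsgLib.JThree.Model
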