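import Cfsg.Agent.Lib.JThree.ModelSyl

/-! The Sylow 2-subgroup of the model is closed, part B. -/

set_option autoImplicit false
set_option maxRecDepth 100000

namespace CfsgLib.JThree.Model

theorem syl_mulB : ((sylL.drop 64).all fun x => sylL.all fun y => inSyl (mulC x y)) = true := by
  decide +kernel

end CfsgLib.JThree.Model
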