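import Cfsg.Agent.Lib.JThree.SelfCent
import Cfsg.Agent.Lib.HJType.Triple

/-!
In a simple group some conjugate of the central involution is a non-central element of the
extraspecial group.
-/

set_option autoImplicit false
set_option linter.unusedSectionVars false

namespace CfsgLib.JThree

open Subgroup CfsgLib.HJType

universe u

variable {G : Type u} [Group G] [Finite G] {z : G} {Q : Subgroup G}

/-- Some conjugate of the central involution is singular. -/
theorem exists_moved_conj [IsSimpleGroup G] (H : Hyp z Q) : ∃ g, Sing z Q (g * z * g⁻¹) := by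
  obtain ⟨g, hgc, hgz⟩ := exists_commute z H.hz (by rw [H.card_C]; norm_num)
  set y := g * z * g⁻¹ with hy
  have hy1 : ∀ k : G, k * z * k⁻¹ ≠ 1 := fun k e => H.z_ne (conj_eq_one_iff.1 e)
  have hinv : ∀ k x : G, x * x = 1 → k * x * k⁻¹ * (k * x * k⁻¹) = 1 := fun k x hx => by
    rw [show k * x * k⁻¹ * (k * x * k⁻¹) = k * (x * x) * k⁻¹ by group, hx]; group
  by_contra hcon
  push Not at hcon
  have hno : ∀ k, k * z * k⁻¹ ∈ Q → k * z * k⁻¹ = z := fun k hk => by
    by_contra h
    exact hcon k ⟨hk, hinv k z H.zz, hy1 k, h⟩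
  have hyC : y ∈ centralizer ({z} : Set G) := mem_centralizer_singleton_iff.2 hgc
  have hyO : Outer z Q y := ⟨hyC, hinv g z H.zz, fun h => hgz (hno g h)⟩
  obtain ⟨-, u, hu, hut, -⟩ := H.eGroup_inf hyO
  have hzu := H.sing_zmul hu
  -- the pull back of a non-central involution of `Q` stays inside `Q`
  have pull : ∀ w, Sing z Q w → w * y = y * w → g⁻¹ * w * g ∈ Q := by
    intro w hw hwy
    by_contra hnQ
    have hC : g⁻¹ * w * g ∈ centralizer ({z} : Set G) := mem_centralizer_singleton_iff.2 (by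
      calc g⁻¹ * w * g * z = g⁻¹ * (w * y) * g := by rw [hy]; group
        _ = z * (g⁻¹ * w * g) := by rw [hwy, hy]; group)
    have hO : Outer z Q (g⁻¹ * w * g) := ⟨hC, by simpa using hinv g⁻¹ w hw.2.1, hnQ⟩
    obtain ⟨c, -, hc⟩ := H.outer_trans hyO hO
    have e : g * c * g * z * (g * c * g)⁻¹ = w := by
      calc g * c * g * z * (g * c * g)⁻¹ = g * (c * y * c⁻¹) * g⁻¹ := by rw [hy]; group
        _ = w := by rw [hc]; group
    exact hw.2.2.2 (e ▸ hno (g * c * g) (e ▸ hw.1))
  have h1 := pull u hu hut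
  have h2 := pull (z * u) hzu (by
    calc z * u * y = z * (u * y) := by group
      _ = z * y * u := by rw [hut]; group
      _ = y * (z * u) := by rw [← H.comm_z hyC]; group)
  have h3 : g⁻¹ * z * g ∈ Q := by
    have := mul_mem h2 (inv_mem h1)
    rwa [show g⁻¹ * (z * u) * g * (g⁻¹ * u * g)⁻¹ = g⁻¹ * z * g by group] at this
  have h4 := hno g⁻¹ (by rwa [inv_inv])
  rw [inv_inv] at h4
  refine hgz ?_
  calc y = g * (g⁻¹ * z * g) * g⁻¹ := by rw [h4]
    _ = z := by group

end CfsgLib.JThree
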