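import Cfsg.Agent.Lib.JThree.Lifts
import Cfsg.Agent.Lib.JThree.Coded

/-!
The centraliser is isomorphic to the model.
-/

set_option autoImplicit false
set_option linter.unusedSectionVars false
set_option maxRecDepth 100000

namespace CfsgLib.JThree

open Subgroup CfsgLib.HJType Model

/-- The permutation with a given index. -/
def permS (s : Fin 60) : Equiv.Perm (Fin 5) where
  toFun i := ⟨img s i % 5, Nat.mod_lt _ (by omega)⟩
  invFun i := ⟨pre s i % 5, Nat.mod_lt _ (by omega)⟩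
  left_inv i := by
    have h := allBelow_spec (allBelow_spec img_ok s s.2) i i.2
    simp only [Bool.and_eq_true, Nat.blt_eq] at h
    apply Fin.ext
    show pre s (img s i % 5) % 5 = i
    rw [Nat.mod_eq_of_lt h.1.1.1, Nat.eq_of_beq_eq_true h.1.2, Nat.mod_eq_of_lt i.2]
  right_inv i := by
    have h := allBelow_spec (allBelow_spec img_ok s s.2) i i.2
    simp only [Bool.and_eq_true, Nat.blt_eq] at h
    apply Fin.ext
    show img s (pre s i % 5) % 5 = i
    rw [Nat.mod_eq_of_lt h.1.1.2, Nat.eq_of_beq_eq_true h.2, Nat.mod_eq_of_lt i.2]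

theorem permS_sign : ∀ s : Fin 60, Equiv.Perm.sign (permS s) = 1 := by decide +kernel

/-- The even permutation with a given index. -/
def evenS (s : Fin 60) : A5 := ⟨permS s, Equiv.Perm.mem_alternatingGroup.2 (permS_sign s)⟩

theorem evenS_apply (s : Fin 60) (i : Fin 5) : ((evenS s).1 i : ℕ) = img s i := by
  have h := allBelow_spec (allBelow_spec img_ok s s.2) i i.2
  simp only [Bool.and_eq_true, Nat.blt_eq] at h
  exact Nat.mod_eq_of_lt h.1.1.1

theorem evenS_inj : Function.Injective evenS := by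
  intro s t h
  have hh := allBelow_spec (allBelow_spec img_inj s s.2) t t.2
  simp only [Bool.or_eq_true] at hh
  rcases hh with hh | hh
  · exact Fin.ext (Nat.eq_of_beq_eq_true hh)
  exfalso
  have hall : allBelow (fun i => Nat.beq (img s i) (img t i)) 5 = true := by
    have : ∀ i < 5, Nat.beq (img s i) (img t i) = true := fun i hi => by
      rw [← evenS_apply s ⟨i, hi⟩, ← evenS_apply t ⟨i, hi⟩, h]; exact Nat.beq_refl _
    simp only [allBelow, this 0 (by omega), this 1 (by omega), this 2 (by omega), this 3 (by omega),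
      this 4 (by omega), Bool.and_self]
  rw [hall] at hh
  simp at hh

theorem evenS_surj : Function.Surjective evenS :=
  ((Fintype.bijective_iff_injective_and_card evenS).2 ⟨evenS_inj, by
    rw [Fintype.card_fin, ← Nat.card_eq_fintype_card, a5_card]⟩).2

theorem evenS_mul (s t : Fin 60) : ∃ h : m5 s t < 60, evenS ⟨m5 s t, h⟩ = evenS s * evenS t := by
  have h := allBelow_spec (allBelow_spec m5_ok s s.2) t t.2
  simp only [Bool.and_eq_true, Nat.blt_eq] at h
  refine ⟨h.1, Subtype.ext (Equiv.ext fun i => Fin.ext ?_)⟩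
  show ((evenS ⟨m5 s t, h.1⟩).1 i : ℕ) = ((evenS s).1 ((evenS t).1 i) : ℕ)
  rw [evenS_apply, evenS_apply, evenS_apply]
  exact Nat.eq_of_beq_eq_true (allBelow_spec h.2 i i.2)

variable {G : Type*} [Group G] [Finite G] {z : G} {Q : Subgroup G} {H : Hyp z Q}

namespace Lifts

variable (L : Lifts z Q H) (hp : L.u 4 = L.u 0 * L.u 1 * L.u 2 * L.u 3)
include hp

theorem word_gcode (i : Fin 5) : L.word (gcode i) = L.u i := by
  fin_cases i
  · exact L.toAnti.val_two
  · exact L.toAnti.val_four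
  · exact L.toAnti.val_eight
  · exact L.toAnti.val_sixteen
  · show L.word u4code = _
    rw [show u4code = 30 from rfl]
    exact L.toAnti.val_thirty.trans hp.symm

theorem word_act (s : Fin 60) {q : ℕ} (hq : q < 32) :
    L.word (actQ s q) = L.ψ (evenS s) * L.word q * (L.ψ (evenS s))⁻¹ := by
  have A := L.toAnti
  have gi : ∀ i : Fin 5, gcode (img s i) < 32 ∧ L.word (gcode (img s i)) = L.ψ (evenS s) * L.u i * (L.ψ (evenS s))⁻¹ :=
    fun i => ⟨gcode_lt _, by rw [← evenS_apply, word_gcode L hp, L.conj]⟩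
  rw [Nat.eq_of_beq_eq_true (allBelow_spec (allBelow_spec act_ok s s.2) q hq)]
  simp only [stepA, stepZ]
  have g0 := gi 0
  have g1 := gi 1
  have g2 := gi 2
  have g3 := gi 3
  have e0 : ((0 : Fin 5) : ℕ) = 0 := rfl
  have e1 : ((1 : Fin 5) : ℕ) = 1 := rfl
  have e2 : ((2 : Fin 5) : ℕ) = 2 := rfl
  have e3 : ((3 : Fin 5) : ℕ) = 3 := rfl
  rw [e0] at g0; rw [e1] at g1; rw [e2] at g2; rw [e3] at g3
  have l0 := A.lt_step (bit q 0) (show (0 : ℕ) < 32 by omega) (show 1 < 32 by omega)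
  have l1 := A.lt_step (bit q 1) l0 g0.1
  have l2 := A.lt_step (bit q 2) l1 g1.1
  have l3 := A.lt_step (bit q 3) l2 g2.1
  have st : ∀ {a g : ℕ}, a < 32 → g < 32 → ∀ e : Bool,
      L.word (cond e (mQ a g) a) = L.word a * L.word g ^ e.toNat := by
    intro a g ha hg e
    cases e
    · simp
    · simpa [Lifts.word] using A.val_mul ha hg
  rw [st l3 g3.1, st l2 g2.1, st l1 g1.1, st l0 g0.1, st (show (0 : ℕ) < 32 by omega) (show 1 < 32 by omega),
    g0.2, g1.2, g2.2, g3.2]
  simp only [conj_pow, A.pow_bit (L.sing _).2.1]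
  rw [show L.word 1 = z from A.val_one, A.pow_bit H.zz, show L.word 0 = 1 from A.val_zero]
  have hzg : L.ψ (evenS s) * z * (L.ψ (evenS s))⁻¹ = z := by
    rw [H.comm_z (L.mem _), mul_inv_cancel_right]
  have hzn : L.ψ (evenS s) * z ^ (q / 2 ^ 0) * (L.ψ (evenS s))⁻¹ = z ^ (q / 2 ^ 0) := by
    rw [← conj_pow, hzg]
  conv_lhs => rw [← hzn]
  simp only [Lifts.word, wval, pow_zero, Nat.div_one]
  norm_num

/-- The element with a given code. -/
def elt (x : Fin 1920) : ↥(centralizer ({z} : Set G)) :=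
  ⟨L.word ((x : ℕ) % 32) * L.ψ (evenS ⟨(x : ℕ) / 32, by omega⟩),
    mul_mem (H.hQC (L.word_mem _)) (L.mem _)⟩

theorem elt_inj : Function.Injective (elt L) := by
  intro x y h
  have h' : L.word ((x : ℕ) % 32) * L.ψ (evenS ⟨(x : ℕ) / 32, by omega⟩) =
      L.word ((y : ℕ) % 32) * L.ψ (evenS ⟨(y : ℕ) / 32, by omega⟩) := congrArg Subtype.val h
  have hφ : ∀ (q : ℕ) (s : Fin 60),
      H.φ ⟨L.word q * L.ψ (evenS s), mul_mem (H.hQC (L.word_mem _)) (L.mem _)⟩ = evenS s := by
    intro q s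
    show H.φ (⟨L.word q, H.hQC (L.word_mem _)⟩ * ⟨L.ψ (evenS s), L.mem _⟩) = _
    rw [map_mul, (H.ker ⟨L.word q, H.hQC (L.word_mem q)⟩).2 (L.word_mem q), one_mul, L.sect]
  have e : (⟨(x : ℕ) / 32, by omega⟩ : Fin 60) = ⟨(y : ℕ) / 32, by omega⟩ :=
    evenS_inj ((hφ _ _).symm.trans ((congrArg H.φ (Subtype.ext h')).trans (hφ _ _)))
  rw [e] at h'
  have := L.toAnti.val_inj (Nat.mod_lt _ (by omega)) (Nat.mod_lt _ (by omega)) (mul_right_cancel h')
  have hd := congrArg Fin.val e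
  simp only at hd
  exact Fin.ext (by omega)

theorem elt_surj : Function.Surjective (elt L) := by
  intro c
  obtain ⟨s, hs⟩ := evenS_surj (H.φ c)
  have hmem : (c : G) * (L.ψ (evenS s))⁻¹ ∈ Q := by
    refine (H.ker (c * ⟨L.ψ (evenS s), L.mem _⟩⁻¹)).1 ?_
    rw [map_mul, map_inv, L.sect, hs, mul_inv_cancel]
  obtain ⟨q, hq, hw⟩ := L.word_surj hmem
  refine ⟨⟨32 * (s : ℕ) + q, by omega⟩, Subtype.ext ?_⟩
  show L.word _ * L.ψ (evenS ⟨_, _⟩) = _
  have e1 : (32 * (s : ℕ) + q) % 32 = q := by omega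
  have e2 : (32 * (s : ℕ) + q) / 32 = s := by omega
  simp only [e1, e2, Fin.eta, hw, inv_mul_cancel_right]

theorem elt_bij : Function.Bijective (elt L) := ⟨elt_inj L hp, elt_surj L hp⟩

theorem elt_mul (x y : Fin 1920) (h : mulC x y < 1920) :
    elt L ⟨mulC x y, h⟩ = elt L x * elt L y := by
  refine Subtype.ext ?_
  show L.word (mulC x y % 32) * L.ψ (evenS ⟨mulC x y / 32, _⟩) =
    L.word ((x : ℕ) % 32) * L.ψ (evenS _) * (L.word ((y : ℕ) % 32) * L.ψ (evenS _))
  have hx : (x : ℕ) % 32 < 32 := Nat.mod_lt _ (by omega)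
  have hy : (y : ℕ) % 32 < 32 := Nat.mod_lt _ (by omega)
  set sx : Fin 60 := ⟨(x : ℕ) / 32, by omega⟩
  set sy : Fin 60 := ⟨(y : ℕ) / 32, by omega⟩
  have hw := Model.mQ_lt hx (Model.actQ_lt sx.2 hy)
  obtain ⟨hm, hmul⟩ := evenS_mul sx sy
  have e1 : mulC x y % 32 = mQ ((x : ℕ) % 32) (actQ sx ((y : ℕ) % 32)) := by
    unfold mulC; simp only [sx, sy] at hw ⊢; omega
  have e2 : mulC x y / 32 = m5 sx sy := by
    unfold mulC; simp only [sx, sy] at hw ⊢; omega
  have e2' : (⟨mulC x y / 32, by omega⟩ : Fin 60) = ⟨m5 sx sy, hm⟩ := Fin.ext e2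
  have hA : ∀ q r, q < 32 → r < 32 → L.word (mQ q r) = L.word q * L.word r := fun q r hq hr =>
    L.toAnti.val_mul hq hr
  rw [e1, e2', hmul, hA _ _ hx (Model.actQ_lt sx.2 hy), word_act L hp sx hy, map_mul]
  group

/-- The codes of the centraliser. -/
noncomputable def coded : Coded ↥(centralizer ({z} : Set G)) where
  code c := ((Equiv.ofBijective (elt L) (elt_bij L hp)).symm c : ℕ)
  lt c := ((Equiv.ofBijective (elt L) (elt_bij L hp)).symm c).2
  inj a b h := (Equiv.ofBijective (elt L) (elt_bij L hp)).symm.injective (Fin.ext h)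
  surj n hn := ⟨elt L ⟨n, hn⟩, by rw [Equiv.ofBijective_symm_apply_apply]⟩
  mul a b := by
    set e := Equiv.ofBijective (elt L) (elt_bij L hp)
    have hlt : mulC (e.symm a : ℕ) (e.symm b : ℕ) < 1920 := by
      have hx : (e.symm a : ℕ) % 32 < 32 := Nat.mod_lt _ (by omega)
      have hy : (e.symm b : ℕ) % 32 < 32 := Nat.mod_lt _ (by omega)
      have h1 := (e.symm a).2
      have h2 := (e.symm b).2
      have hw := Model.mQ_lt hx (Model.actQ_lt (show (e.symm a : ℕ) / 32 < 60 by omega) hy)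
      have hm := (evenS_mul ⟨(e.symm a : ℕ) / 32, by omega⟩ ⟨(e.symm b : ℕ) / 32, by omega⟩).1
      simp only at hm
      unfold mulC
      omega
    suffices h : e.symm (a * b) = ⟨_, hlt⟩ from congrArg Fin.val h
    rw [Equiv.symm_apply_eq]
    show a * b = elt L ⟨_, hlt⟩
    rw [elt_mul L hp]
    exact congrArg₂ (· * ·) (e.apply_symm_apply a).symm (e.apply_symm_apply b).symm

theorem coded_z : (coded L hp).code ⟨z, H.zC⟩ = 1 := by
  have h : elt L ⟨1, by omega⟩ = ⟨z, H.zC⟩ := by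
    refine Subtype.ext ?_
    show L.word 1 * L.ψ (evenS ⟨0, _⟩) = z
    have h0 : evenS ⟨0, by omega⟩ = 1 := by decide +kernel
    rw [h0, map_one, mul_one]
    exact L.toAnti.val_one
  show ((Equiv.ofBijective (elt L) (elt_bij L hp)).symm ⟨z, H.zC⟩ : ℕ) = 1
  rw [← h, Equiv.ofBijective_symm_apply_apply]

end Lifts

/-- The centraliser of a moved involution of this shape is coded by the model. -/
theorem exists_coded (H : Hyp z Q) (hmov : ∃ g, Sing z Q (g * z * g⁻¹)) :
    ∃ e : Coded ↥(centralizer ({z} : Set G)), e.code ⟨z, H.zC⟩ = 1 := by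
  obtain ⟨L, hp⟩ := exists_lifts_prod H (exists_outer H hmov)
  exact ⟨Lifts.coded L hp, Lifts.coded_z L hp⟩

end CfsgLib.JThree
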