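import Cfsg.Agent.Lib.JThree.Main
import Cfsg.Agent.Lib.JThree.Structure
import Cfsg.Agent.Lib.JThree.Moved

/-!
The order from the shape of the centraliser.
-/

set_option autoImplicit false
set_option linter.unusedSectionVars false

namespace CfsgLib.JThree

open Subgroup CfsgLib.HJType

universe u

variable {G : Type u} [Group G] [Finite G] [IsSimpleGroup G]

/-- The order of a simple group with one class of involutions and centraliser `2^(1+4).A₅`. -/
theorem order_of_shape (hone : ∀ x y : G, orderOf x = 2 → orderOf y = 2 → IsConj x y) (t : G)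
    (ht : orderOf t = 2) (E : Subgroup (centralizer ({t} : Set G))) [E.Normal] (hE : Nat.card E = 32)
    (hX : Cfsg.IsExtraspecial 2 E) (e : (centralizer ({t} : Set G)) ⧸ E ≃* A5) :
    Nat.card G = 50232960 := by
  obtain ⟨H⟩ := exists_hyp t ht E (self_cent t ht E hE hX e) hX (by rw [hE]; norm_num) e
  obtain ⟨c, hc⟩ := exists_coded H (exists_moved_conj H)
  have := Fintype.ofFinite G
  exact order_eq c ht hc fun a h1 h2 => hone t a ht (orderOf_eq_two.2 ⟨h1, h2⟩)

end CfsgLib.JThree
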