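import Cfsg.Agent.Lib.HJType.Klein

/-!
An involution centraliser of this shape with a moved central involution has an involution outside
the extraspecial group.
-/

set_option autoImplicit false
set_option linter.unusedSectionVars false

namespace CfsgLib.JThree

open Subgroup CfsgLib.HJType

variable {G : Type*} [Group G] [Finite G] {z : G} {Q : Subgroup G}

/-- A four-element value of a commutator. -/
theorem four_mul {p : G} (hz : z * z = 1) (hp : p * p = 1) (hzp : z * p = p * z) {x : G}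
    (hx : x = 1 ∨ x = z ∨ x = p ∨ x = z * p) :
    (p * x = z * p ∨ p * x = p ∨ p * x = 1 ∨ p * x = z) := by
  rcases hx with rfl | rfl | rfl | rfl
  · simp
  · exact Or.inl hzp.symm
  · exact Or.inr (Or.inr (Or.inl hp))
  · refine Or.inr (Or.inr (Or.inr ?_))
    rw [← mul_assoc, ← hzp, mul_assoc, hp, mul_one]

/-- An outer element with involutory image moves an element commuting with `p` modulo `z`. -/
theorem exists_moved (H : Hyp z Q) {b : G} (hb : b ∈ centralizer ({z} : Set G)) (hbQ : b ∉ Q)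
    (hb2 : b * b ∈ Q) {p : G} (hp : p ∈ Q) :
    ∃ a ∈ Q, a * p = p * a ∧ ¬ Eqv z (b * a * b⁻¹) a := by
  classical
  have := Fintype.ofFinite G
  by_contra hcon
  push Not at hcon
  set u := H.φ ⟨b, hb⟩ with hu
  have hu1 : u ≠ 1 := (H.not_mem_iff hb).1 hbQ
  have hu2 : u * u = 1 := by
    rw [hu, ← map_mul]; exact (H.ker _).2 hb2
  obtain ⟨s, hs5, hs1, hinv⟩ := a5_inverted u hu2 hu1
  obtain ⟨g, hg, -, hgφ⟩ := H.five_lift hs5
  set b' := g * b * g⁻¹ with hb'
  have hb'C : b' ∈ centralizer ({z} : Set G) := mul_mem (mul_mem hg hb) (inv_mem hg)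
  set c := b' * b⁻¹ with hc
  have hcC : c ∈ centralizer ({z} : Set G) := mul_mem hb'C (inv_mem hb)
  have hcφ : H.φ ⟨c, hcC⟩ = s * s := by
    have e : (⟨c, hcC⟩ : ↥(centralizer ({z} : Set G))) = ⟨g, hg⟩ * ⟨b, hb⟩ * ⟨g, hg⟩⁻¹ * ⟨b, hb⟩⁻¹ :=
      Subtype.ext rfl
    rw [e, map_mul, map_mul, map_mul, map_inv, map_inv, hgφ, ← hu, inv_eq_of_mul_eq_one_right hu2]
    calc s * u * s⁻¹ * u = s * (u * s⁻¹ * u) := by group
      _ = s * s := by
        congr 1
        have h : u * s⁻¹ = s * u := by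
          calc u * s⁻¹ = u * s⁻¹ * (u * u) := by rw [hu2, mul_one]
            _ = u * (s⁻¹ * u) * u := by group
            _ = u * (u * s) * u := by rw [hinv]
            _ = s * u := by rw [← mul_assoc, hu2, one_mul]
        rw [h, mul_assoc, hu2, mul_one]
  have hss5 : (s * s) ^ 5 = 1 := by rw [← pow_two, ← pow_mul, mul_comm, pow_mul, hs5, one_pow]
  have hd5 := H.pow_twenty hcC hss5 hcφ
  have hdQ : c ^ 4 ∉ Q := by
    rw [H.not_mem_iff (pow_mem hcC 4)]
    show H.φ (⟨c, hcC⟩ ^ 4) ≠ 1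
    rw [map_pow, hcφ, ← pow_two, ← pow_mul]
    intro h8
    apply hs1
    calc s = (s ^ (2 * 4)) ^ 2 * (s ^ 5) ^ (-3 : ℤ) := by
          rw [← pow_mul, ← zpow_natCast, ← zpow_natCast s 5, ← zpow_mul, ← zpow_add]; norm_num
      _ = 1 := by rw [h8, hs5, one_pow, one_zpow, mul_one]
  set p' := g * p * g⁻¹ with hp'
  have hp'Q : p' ∈ Q := H.norm g hg p hp
  -- an element commuting with `p` and `p'`
  let S := Finset.univ.filter fun x : G => x ∈ Q
  have hS : S.card = 32 := by
    rw [← Fintype.card_subtype, ← Nat.card_eq_fintype_card]; exact H.card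
  let f : G → Bool × Bool := fun x => (decide (x * p = p * x), decide (x * p' = p' * x))
  obtain ⟨y, -, hy⟩ := Finset.exists_lt_card_fiber_of_mul_lt_card_of_maps_to
    (s := S) (t := Finset.univ) (n := 2) (f := f) (fun _ _ => Finset.mem_univ _) (by
      rw [hS, Finset.card_univ]; decide)
  obtain ⟨x₁, hx₁⟩ := Finset.card_pos.1 (show 0 < (S.filter fun x => f x = y).card by omega)
  obtain ⟨x₂, hx₂, hne⟩ : ∃ x₂ ∈ S.filter (fun x => f x = y), x₂ ∉ ({x₁, z * x₁} : Finset G) :=
    Finset.exists_mem_notMem_of_card_lt_card (lt_of_le_of_lt Finset.card_le_two hy)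
  simp only [S, f, Finset.mem_filter, Finset.mem_univ, true_and] at hx₁ hx₂
  simp only [Finset.mem_insert, Finset.mem_singleton, not_or] at hne
  set a := x₁⁻¹ * x₂ with ha
  have haQ : a ∈ Q := mul_mem (inv_mem hx₁.1) hx₂.1
  have hcom : ∀ q ∈ Q, (decide (x₁ * q = q * x₁) = decide (x₂ * q = q * x₂)) → a * q = q * a := by
    intro q hq h
    rw [decide_eq_decide] at h
    have hC1 := H.com x₁ hx₁.1 q hq
    have hC2 := H.com x₂ hx₂.1 q hq
    by_cases h1 : x₁ * q = q * x₁
    · exact (Commute.inv_left h1).mul_left (h.1 h1)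
    · have e1 := hC1.resolve_left (fun e => h1 e.symm)
      have e2 := hC2.resolve_left (fun e => h1 (h.2 e.symm))
      have e1' : q * x₁⁻¹ = x₁⁻¹ * z * q := by
        calc q * x₁⁻¹ = x₁⁻¹ * (x₁ * q) * x₁⁻¹ := by group
          _ = x₁⁻¹ * (z * (q * x₁)) * x₁⁻¹ := by rw [e1, H.z_mul_z_mul]
          _ = x₁⁻¹ * z * q := by group
      calc a * q = x₁⁻¹ * (x₂ * q) := by rw [ha]; group
        _ = x₁⁻¹ * (z * (q * x₂)) := by rw [e2, H.z_mul_z_mul]
        _ = q * a := by rw [ha, ← mul_assoc q, e1']; group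
  have hap : a * p = p * a := hcom p hp (congrArg Prod.fst (hx₁.2.trans hx₂.2.symm))
  have hap' : a * p' = p' * a := hcom p' hp'Q (congrArg Prod.snd (hx₁.2.trans hx₂.2.symm))
  have hfixb : Eqv z (b * a * b⁻¹) a := hcon a haQ hap
  have hfixb' : Eqv z (b' * a * b'⁻¹) a := by
    have hw : g⁻¹ * a * g * p = p * (g⁻¹ * a * g) := by
      calc g⁻¹ * a * g * p = g⁻¹ * (a * p') * g := by rw [hp']; group
        _ = p * (g⁻¹ * a * g) := by rw [hap', hp']; group
    have := H.eqv_conj hg (hcon _ (H.norm' hg haQ) hw)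
    convert this using 1 <;> (first | (rw [hb']; group) | group)
  have hfixc : Eqv z (c * a * c⁻¹) a := by
    have h1 : Eqv z (b⁻¹ * a * b) a := by
      have := H.eqv_symm (H.eqv_conj (inv_mem hb) hfixb)
      convert this using 1 <;> group
    refine H.eqv_trans ?_ hfixb'
    have := H.eqv_conj hb'C h1
    convert this using 1 <;> (first | (rw [hc]; group) | group)
  have hpow : ∀ n : ℕ, Eqv z (c ^ n * a * (c ^ n)⁻¹) a := by
    intro n
    induction n with
    | zero => simpa using H.eqv_refl a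
    | succ n ih =>
      refine H.eqv_trans ?_ hfixc
      have := H.eqv_conj hcC ih
      convert this using 1; rw [pow_succ']; group
  rcases H.five_fix (pow_mem hcC 4) hd5 hdQ haQ (hpow 4) with e | e
  · exact hne.1 (inv_mul_eq_one.1 (ha ▸ e)).symm
  · exact hne.2 (by rw [← H.comm_zQ hx₁.1, ← e, ha, mul_inv_cancel_left])

/-- A moved central involution gives an outer involution. -/
theorem exists_outer (H : Hyp z Q) (hmov : ∃ g, Sing z Q (g * z * g⁻¹)) : ∃ t, Outer z Q t := by
  by_contra hcon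
  obtain ⟨g, hgs⟩ := hmov
  set p := g * z * g⁻¹ with hp
  obtain ⟨hpQ, hpp, hp1, hpz⟩ := hgs
  have hpC := H.hQC hpQ
  have hzp : z * p = p * z := (H.comm_zQ hpQ).symm
  -- the conjugate extraspecial group
  have hback : ∀ x : G, x * p = p * x → g⁻¹ * x * g ∈ centralizer ({z} : Set G) := fun x hx =>
    mem_centralizer_singleton_iff.2 (by
      calc g⁻¹ * x * g * z = g⁻¹ * (x * p) * g := by rw [hp]; group
        _ = z * (g⁻¹ * x * g) := by rw [hx, hp]; group)
  have hnoP : ∀ x : G, x * p = p * x → x * x = 1 → g⁻¹ * x * g ∈ Q := by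
    intro x hx hx2
    by_contra hQ
    refine hcon ⟨_, hback x hx, ?_, hQ⟩
    calc g⁻¹ * x * g * (g⁻¹ * x * g) = g⁻¹ * (x * x) * g := by group
      _ = 1 := by rw [hx2]; group
  have hnoQ : ∀ x : G, x * z = z * x → x * x = 1 → x ∈ Q := fun x hx hx2 => by
    by_contra hQ
    exact hcon ⟨x, mem_centralizer_singleton_iff.2 hx, hx2, hQ⟩
  have hzP : g⁻¹ * z * g ∈ Q := hnoP z hzp H.zz
  -- the common part has exponent two
  have hDmem : ∀ x ∈ Q, g⁻¹ * x * g ∈ Q → x = 1 ∨ x = z ∨ x = p ∨ x = z * p := by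
    intro x hx hx'
    have hxp : x * p = p * x := by
      calc x * p = g * (g⁻¹ * x * g * z) * g⁻¹ := by rw [hp]; group
        _ = p * x := by rw [H.comm_zQ hx', hp]; group
    have hx2 : x * x = 1 := by
      rcases H.sq x hx with h | h
      · exact h
      rcases H.sq _ hx' with h' | h'
      · calc x * x = g * (g⁻¹ * x * g * (g⁻¹ * x * g)) * g⁻¹ := by group
          _ = 1 := by rw [h']; group
      · exact absurd (by
          calc p = g * (g⁻¹ * x * g * (g⁻¹ * x * g)) * g⁻¹ := by rw [h', hp]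
            _ = x * x := by group
            _ = z := h) hpz
    by_cases h1 : x = 1
    · exact Or.inl h1
    by_cases hz : x = z
    · exact Or.inr (Or.inl hz)
    rcases H.sing_comm ⟨hpQ, hpp, hp1, hpz⟩ ⟨hx, hx2, h1, hz⟩ hxp.symm with h | h
    exacts [Or.inr (Or.inr (Or.inl h)), Or.inr (Or.inr (Or.inr h))]
  let A : G → Prop := fun a => a ∈ Q ∧ a * p = p * a
  let B : G → Prop := fun b => b * z = z * b ∧ g⁻¹ * b * g ∈ Q
  let k : G → G → G := fun a b => a * b * a⁻¹ * b⁻¹
  have hBp : ∀ b, B b → b * p = p * b := fun b hb => by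
    calc b * p = g * (g⁻¹ * b * g * z) * g⁻¹ := by rw [hp]; group
      _ = p * b := by rw [H.comm_zQ hb.2, hp]; group
  have hval : ∀ a b, A a → B b → (k a b = 1 ∨ k a b = z ∨ k a b = p ∨ k a b = z * p) := by
    intro a b ha hb
    have hbC : b ∈ centralizer ({z} : Set G) := mem_centralizer_singleton_iff.2 hb.1
    refine hDmem _ ?_ ?_
    · rw [show k a b = a * (b * a⁻¹ * b⁻¹) by simp [k, mul_assoc]]
      exact mul_mem ha.1 (H.norm b hbC _ (inv_mem ha.1))
    · rw [show g⁻¹ * k a b * g = (g⁻¹ * a * g) * (g⁻¹ * b * g) * (g⁻¹ * a * g)⁻¹ * (g⁻¹ * b * g)⁻¹ by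
        simp only [k]; group]
      exact mul_mem (H.norm _ (hback a ha.2) _ hb.2) (inv_mem hb.2)
  have hk_comm : ∀ a b, A a → B b → ∀ x, (x * z = z * x ∧ x * p = p * x) → k a b * x = x * k a b := by
    intro a b ha hb x ⟨hxz, hxp⟩
    rcases hval a b ha hb with h | h | h | h <;> rw [h]
    · simp
    · exact hxz.symm
    · exact hxp.symm
    · exact (Commute.mul_left (show Commute z x from hxz.symm) (show Commute p x from hxp.symm))
  have hA : ∀ a, A a → a * z = z * a := fun a ha => H.comm_zQ ha.1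
  have hmulA : ∀ a a', A a → A a' → A (a * a') := fun a a' h h' =>
    ⟨mul_mem h.1 h'.1, Commute.mul_left h.2 h'.2⟩
  have hmulB : ∀ b b', B b → B b' → B (b * b') := fun b b' h h' =>
    ⟨Commute.mul_left h.1 h'.1, by
      rw [show g⁻¹ * (b * b') * g = g⁻¹ * b * g * (g⁻¹ * b' * g) by group]; exact mul_mem h.2 h'.2⟩
  have hlin1 : ∀ a a' b, A a → A a' → B b → k (a * a') b = k a b * k a' b := by
    intro a a' b ha ha' hb
    calc k (a * a') b = a * k a' b * (b * a⁻¹ * b⁻¹) := by simp only [k]; group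
      _ = k a' b * k a b := by rw [← hk_comm a' b ha' hb a ⟨hA a ha, ha.2⟩]; simp only [k]; group
      _ = k a b * k a' b := (hk_comm a' b ha' hb _ ⟨by
          rcases hval a b ha hb with h | h | h | h <;> rw [h]
          exacts [by simp, hzp.symm, Commute.mul_left (Commute.refl z) hzp.symm], by
          rcases hval a b ha hb with h | h | h | h <;> rw [h]
          exacts [by simp, hzp, Commute.mul_left hzp (Commute.refl p)]⟩)
  have hlin2 : ∀ a b b', A a → B b → B b' → k a (b * b') = k a b * k a b' := by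
    intro a b b' ha hb hb'
    calc k a (b * b') = k a b * (b * k a b' * b⁻¹) := by simp only [k]; group
      _ = k a b * k a b' := by rw [← hk_comm a b' ha hb' b ⟨hb.1, hBp b hb⟩, mul_inv_cancel_right]
  -- no commutator equals the product
  have hno : ∀ a b, A a → B b → k a b ≠ z * p := by
    intro a b ha hb hab
    have hbQ : b ∉ Q := by
      intro hbQ
      rcases H.com a ha.1 b hbQ with h | h
      · refine hpz ?_
        have e : k a b = 1 := by simp only [k]; rw [← h]; group
        rw [hab] at e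
        calc p = z * (z * p) := (H.z_mul_z_mul p).symm
          _ = z := by rw [e, mul_one]
      · refine hp1 ?_
        have e : k a b = z := by
          simp only [k]
          rw [show a * b = z * (b * a) by rw [h, H.z_mul_z_mul]]; group
        rw [hab] at e
        exact mul_eq_left.1 e
    have haP : g⁻¹ * a * g ∉ Q := by
      intro haP
      rcases H.com _ haP _ hb.2 with h | h
      · refine hpz ?_
        have e : k a b = 1 := by
          calc k a b = g * (g⁻¹ * a * g * (g⁻¹ * b * g) * (g⁻¹ * b * g * (g⁻¹ * a * g))⁻¹) * g⁻¹ := by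
                simp only [k]; group
            _ = 1 := by rw [h]; group
        rw [hab] at e
        calc p = z * (z * p) := (H.z_mul_z_mul p).symm
          _ = z := by rw [e, mul_one]
      · refine H.z_ne ?_
        have e : k a b = p := by
          calc k a b = g * (g⁻¹ * a * g * (g⁻¹ * b * g) * (g⁻¹ * b * g * (g⁻¹ * a * g))⁻¹) * g⁻¹ := by
                simp only [k]; group
            _ = p := by
              rw [h, mul_inv_rev, H.z_inv, hp]
              group
        rw [hab] at e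
        exact mul_eq_right.1 e
    have ha2 : a * a = z := (H.sq a ha.1).resolve_left fun h => haP (hnoP a ha.2 h)
    have hb2 : b * b = p := by
      rcases H.sq _ hb.2 with h | h
      · exact absurd (hnoQ b hb.1 (by
          calc b * b = g * (g⁻¹ * b * g * (g⁻¹ * b * g)) * g⁻¹ := by group
            _ = 1 := by rw [h]; group)) hbQ
      · calc b * b = g * (g⁻¹ * b * g * (g⁻¹ * b * g)) * g⁻¹ := by group
          _ = p := by rw [h, hp]
    refine hbQ ?_
    have habC : a * b * z = z * (a * b) := Commute.mul_left (hA a ha) hb.1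
    have h2 : a * b * (a * b) = 1 := by
      have e : b * a = (z * p)⁻¹ * (a * b) := by rw [← hab]; simp only [k]; group
      have hc : a * (z * p)⁻¹ = (z * p)⁻¹ * a :=
        Commute.inv_right (Commute.mul_right (hA a ha) ha.2)
      calc a * b * (a * b) = a * (b * a) * b := by group
        _ = (z * p)⁻¹ * (a * a) * (b * b) := by rw [e, ← mul_assoc a, hc]; group
        _ = 1 := by rw [ha2, hb2]; group
    have hQab := hnoQ _ habC h2
    have := mul_mem (inv_mem ha.1) hQab
    rwa [inv_mul_cancel_left] at this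
  -- a commutator equal to `p`
  obtain ⟨a₁, b₁, hA1, hB1, h1⟩ : ∃ a b, A a ∧ B b ∧ k a b = p := by
    obtain ⟨b, hb, hbQ⟩ : ∃ b, B b ∧ b ∉ Q := by
      obtain ⟨a', ha'Q, ha'c, ha'm⟩ : ∃ x ∈ Q, x * (g⁻¹ * z * g) = g⁻¹ * z * g * x ∧
          g * x * g⁻¹ ∉ Q := by
        by_contra hall
        push Not at hall
        -- otherwise the commuting part would be elementary abelian of order sixteen
        classical
        have := Fintype.ofFinite G
        let S := Finset.univ.filter fun x : G => x ∈ Q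
        have hS : S.card = 32 := by
          rw [← Fintype.card_subtype, ← Nat.card_eq_fintype_card]; exact H.card
        have hcomq : ∀ x ∈ Q, x * (g⁻¹ * z * g) = g⁻¹ * z * g * x →
            g * x * g⁻¹ ∈ ({1, z, p, z * p} : Finset G) := fun x hx hc => by
          simpa using hDmem _ (hall x hx hc) (by simpa [mul_assoc] using hx)
        obtain ⟨y, -, hy⟩ := Finset.exists_lt_card_fiber_of_mul_lt_card_of_maps_to
          (s := S) (t := Finset.univ) (n := 4)
          (f := fun x : G => decide (x * (g⁻¹ * z * g) = g⁻¹ * z * g * x))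
          (fun _ _ => Finset.mem_univ _) (by rw [hS, Finset.card_univ]; decide)
        obtain ⟨x₁, hx₁⟩ := Finset.card_pos.1
          (show 0 < (S.filter fun x => decide (x * (g⁻¹ * z * g) = g⁻¹ * z * g * x) = y).card by omega)
        simp only [S, Finset.mem_filter, Finset.mem_univ, true_and] at hx₁
        refine absurd hy (not_lt.2 (le_trans (Finset.card_le_card_of_injOn
          (t := ({1, z, p, z * p} : Finset G)) (fun x => g * (x₁⁻¹ * x) * g⁻¹) ?_ ?_) Finset.card_le_four))
        · intro x hx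
          simp only [S, Finset.coe_filter, Finset.mem_filter, Finset.mem_univ, true_and,
            Set.mem_setOf_eq] at hx
          refine hcomq _ (mul_mem (inv_mem hx₁.1) hx.1) ?_
          have heq := hx₁.2.trans hx.2.symm
          rw [decide_eq_decide] at heq
          by_cases hc : x₁ * (g⁻¹ * z * g) = g⁻¹ * z * g * x₁
          · exact (Commute.inv_left hc).mul_left (heq.1 hc)
          · have e1 := (H.com x₁ hx₁.1 _ hzP).resolve_left (fun e => hc e.symm)
            have e2 := (H.com x hx.1 _ hzP).resolve_left (fun e => hc (heq.2 e.symm))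
            have hzx : ∀ y ∈ Q, y⁻¹ * z = z * y⁻¹ := fun y hy =>
              Commute.inv_left (H.comm_zQ hy)
            set w := g⁻¹ * z * g
            have e1' : w * x₁⁻¹ = x₁⁻¹ * z * w := by
              calc w * x₁⁻¹ = x₁⁻¹ * (x₁ * w) * x₁⁻¹ := by group
                _ = x₁⁻¹ * (z * (w * x₁)) * x₁⁻¹ := by rw [e1, H.z_mul_z_mul]
                _ = x₁⁻¹ * z * w := by group
            calc x₁⁻¹ * x * w = x₁⁻¹ * (z * (w * x)) := by rw [mul_assoc, e2, H.z_mul_z_mul]
              _ = w * (x₁⁻¹ * x) := by rw [← mul_assoc w, e1']; group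
        · intro x _ x' _ h
          exact mul_left_cancel (mul_left_cancel (mul_right_cancel h))
      exact ⟨g * a' * g⁻¹, ⟨by
        calc g * a' * g⁻¹ * z = g * (a' * (g⁻¹ * z * g)) * g⁻¹ := by group
          _ = z * (g * a' * g⁻¹) := by rw [ha'c]; group, by simpa [mul_assoc] using ha'Q⟩, ha'm⟩
    have hbC : b ∈ centralizer ({z} : Set G) := mem_centralizer_singleton_iff.2 hb.1
    have hb2 : b * b ∈ Q := by
      rcases H.sq _ hb.2 with h | h
      · rw [show b * b = g * (g⁻¹ * b * g * (g⁻¹ * b * g)) * g⁻¹ by group, h]; simp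
      · rw [show b * b = g * (g⁻¹ * b * g * (g⁻¹ * b * g)) * g⁻¹ by group, h]; exact hpQ
    obtain ⟨a, haQ, hap, hab⟩ := exists_moved H hbC hbQ hb2 hpQ
    refine ⟨a, b, ⟨haQ, hap⟩, hb, ?_⟩
    have e : b * a * b⁻¹ = (k a b)⁻¹ * a →  k a b ≠ 1 ∧ k a b ≠ z := fun e => ⟨
      fun h => hab (Or.inl (by rw [e, h, inv_one, one_mul])),
      fun h => hab (Or.inr (by rw [e, h, H.z_inv]))⟩
    have e' := e (by simp only [k]; group)
    rcases hval a b ⟨haQ, hap⟩ hb with h | h | h | h
    exacts [absurd h e'.1, absurd h e'.2, h, absurd h (hno a b ⟨haQ, hap⟩ hb)]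
  -- a commutator equal to `z`
  obtain ⟨a₂, b₂, hA2, hB2, h2⟩ : ∃ a b, A a ∧ B b ∧ k a b = z := by
    have ha₁P : g⁻¹ * a₁ * g ∉ Q := by
      intro hin
      rcases hDmem a₁ hA1.1 hin with h | h | h | h <;> refine hp1 ?_ <;> rw [← h1] <;> simp only [k, h]
      · group
      · rw [show z * b₁ * z⁻¹ = b₁ by rw [← hB1.1]; group]; group
      · rw [show p * b₁ * p⁻¹ = b₁ by rw [← hBp b₁ hB1]; group]; group
      · rw [show z * p * b₁ * (z * p)⁻¹ = z * (p * b₁ * p⁻¹) * z⁻¹ by group,
          show p * b₁ * p⁻¹ = b₁ by rw [← hBp b₁ hB1]; group,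
          show z * b₁ * z⁻¹ = b₁ by rw [← hB1.1]; group]
        group
    have ha2 : g⁻¹ * a₁ * g * (g⁻¹ * a₁ * g) ∈ Q := by
      rw [show g⁻¹ * a₁ * g * (g⁻¹ * a₁ * g) = g⁻¹ * (a₁ * a₁) * g by group]
      rcases H.sq _ hA1.1 with h | h <;> rw [h]
      · simp
      · exact hzP
    obtain ⟨c, hcQ, hcw, hmov⟩ := exists_moved H (hback a₁ hA1.2) ha₁P ha2 hzP
    set b := g * c * g⁻¹ with hb
    have hB : B b := ⟨by
      calc b * z = g * (c * (g⁻¹ * z * g)) * g⁻¹ := by rw [hb]; group
        _ = z * b := by rw [hcw, hb]; group, by rw [hb]; simpa [mul_assoc] using hcQ⟩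
    refine ⟨a₁, b, hA1, hB, ?_⟩
    have e : g⁻¹ * a₁ * g * c * (g⁻¹ * a₁ * g)⁻¹ = g⁻¹ * k a₁ b * g * c := by
      simp only [k, hb]; group
    rcases hval a₁ b hA1 hB with h | h | h | h
    · exact absurd (Or.inl (by rw [e, h]; group)) hmov
    · exact h
    · refine absurd (Or.inr ?_) hmov
      rw [e, h, hp]; group
    · exact absurd h (hno a₁ b hA1 hB)
  -- bilinearity
  rcases hval a₁ b₂ hA1 hB2 with h | h | h | h
  · rcases hval a₂ b₁ hA2 hB1 with h' | h' | h' | h'
    · refine hno (a₁ * a₂) (b₁ * b₂) (hmulA _ _ hA1 hA2) (hmulB _ _ hB1 hB2) ?_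
      rw [hlin1 _ _ _ hA1 hA2 (hmulB _ _ hB1 hB2), hlin2 _ _ _ hA1 hB1 hB2, hlin2 _ _ _ hA2 hB1 hB2,
        h1, h2, h, h', mul_one, one_mul, hzp]
    · refine hno (a₁ * a₂) b₁ (hmulA _ _ hA1 hA2) hB1 ?_
      rw [hlin1 _ _ _ hA1 hA2 hB1, h1, h', hzp]
    · refine hno a₂ (b₁ * b₂) hA2 (hmulB _ _ hB1 hB2) ?_
      rw [hlin2 _ _ _ hA2 hB1 hB2, h', h2, hzp]
    · exact hno a₂ b₁ hA2 hB1 h'
  · refine hno a₁ (b₁ * b₂) hA1 (hmulB _ _ hB1 hB2) ?_
    rw [hlin2 _ _ _ hA1 hB1 hB2, h1, h, hzp]
  · refine hno (a₁ * a₂) b₂ (hmulA _ _ hA1 hA2) hB2 ?_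
    rw [hlin1 _ _ _ hA1 hA2 hB2, h, h2, hzp]
  · exact hno a₁ b₂ hA1 hB2 h

end CfsgLib.JThree
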