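import Mathlib

/-!
The columns of multiplicities at five constituents, shifted by two, and the directions in which the
remaining Gram matrix is tested.
-/

set_option autoImplicit false

namespace CfsgLib.JThree

/-- Five entries, shifted by two. -/
structure Col where
  s : ℕ
  a : ℕ
  b : ℕ
  c : ℕ
  d : ℕ
deriving DecidableEq

/-- The square of a difference. -/
def sqd (p q : ℕ) : ℕ := (p - q) * (p - q) + (q - p) * (q - p)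

/-- A direction on two functions, with the bound. -/
structure Dir2 where
  f : ℕ → ℕ → ℕ
  K : ℕ

/-- A direction on three functions, with the bound. -/
structure Dir3 where
  f : ℕ → ℕ → ℕ → ℕ
  K : ℕ

/-- A direction on four functions, with the bound. -/
structure Dir4 where
  f : ℕ → ℕ → ℕ → ℕ → ℕ
  K : ℕ

/-- The direction (1, 1). -/
def dir2_0 : Dir2 :=
  ⟨fun x y => sqd (x + y) (4), 12⟩

/-- The direction (1, -1). -/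
def dir2_1 : Dir2 :=
  ⟨fun x y => sqd (x + 2) (y + 2), 12⟩

/-- The directions tested on 2 functions. -/
def dirs2 : List Dir2 :=
  [dir2_0, dir2_1]

/-- The direction (1, 0, 1). -/
def dir3_0 : Dir3 :=
  ⟨fun x _ w => sqd (x + w) (4), 17⟩

/-- The direction (1, 0, -1). -/
def dir3_1 : Dir3 :=
  ⟨fun x _ w => sqd (x + 2) (w + 2), 9⟩

/-- The direction (0, 1, 1). -/
def dir3_2 : Dir3 :=
  ⟨fun _ y w => sqd (y + w) (4), 9⟩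

/-- The direction (0, 1, -1). -/
def dir3_3 : Dir3 :=
  ⟨fun _ y w => sqd (y + 2) (w + 2), 9⟩

/-- The direction (1, 1, 1). -/
def dir3_4 : Dir3 :=
  ⟨fun x y w => sqd (x + y + w) (6), 21⟩

/-- The direction (1, 1, -1). -/
def dir3_5 : Dir3 :=
  ⟨fun x y w => sqd (x + y + 2) (w + 4), 13⟩

/-- The direction (1, -1, 1). -/
def dir3_6 : Dir3 :=
  ⟨fun x y w => sqd (x + w + 2) (y + 4), 21⟩

/-- The direction (1, -1, -1). -/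
def dir3_7 : Dir3 :=
  ⟨fun x y w => sqd (x + 4) (y + w + 2), 13⟩

/-- The directions tested on 3 functions. -/
def dirs3 : List Dir3 :=
  [dir3_0, dir3_1, dir3_2, dir3_3, dir3_4, dir3_5, dir3_6, dir3_7]

/-- The direction (1, 0, 0, -1). -/
def dir4_0 : Dir4 :=
  ⟨fun x _ _ v => sqd (x + 2) (v + 2), 9⟩

/-- The direction (0, 1, 1, 1). -/
def dir4_1 : Dir4 :=
  ⟨fun _ y w v => sqd (y + w + v) (6), 12⟩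

/-- The direction (0, 1, -1, 1). -/
def dir4_2 : Dir4 :=
  ⟨fun _ y w v => sqd (y + v + 2) (w + 4), 12⟩

/-- The direction (1, 0, -1, -1). -/
def dir4_3 : Dir4 :=
  ⟨fun x _ w v => sqd (x + 4) (w + v + 2), 10⟩

/-- The direction (1, 1, 1, -1). -/
def dir4_4 : Dir4 :=
  ⟨fun x y w v => sqd (x + y + w + 2) (v + 6), 24⟩

/-- The direction (1, 1, -1, 1). -/
def dir4_5 : Dir4 :=
  ⟨fun x y w v => sqd (x + y + v + 2) (w + 6), 20⟩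

/-- The direction (1, 1, -1, -1). -/
def dir4_6 : Dir4 :=
  ⟨fun x y w v => sqd (x + y + 4) (w + v + 4), 16⟩

/-- The direction (1, -1, -1, -1). -/
def dir4_7 : Dir4 :=
  ⟨fun x y w v => sqd (x + 6) (y + w + v + 2), 12⟩

/-- The direction (1, 0, 0, 1). -/
def dir4_8 : Dir4 :=
  ⟨fun x _ _ v => sqd (x + v) (4), 17⟩

/-- The direction (0, 0, 1, -1). -/
def dir4_9 : Dir4 :=
  ⟨fun _ _ w v => sqd (w + 2) (v + 2), 10⟩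

/-- The direction (0, 1, -1, -1). -/
def dir4_10 : Dir4 :=
  ⟨fun _ y w v => sqd (y + 4) (w + v + 2), 16⟩

/-- The direction (0, 1, 1, -1). -/
def dir4_11 : Dir4 :=
  ⟨fun _ y w v => sqd (y + w + 2) (v + 4), 16⟩

/-- The direction (1, 0, 1, 1). -/
def dir4_12 : Dir4 :=
  ⟨fun x _ w v => sqd (x + w + v) (6), 26⟩

/-- The direction (0, 0, 1, 1). -/
def dir4_13 : Dir4 :=
  ⟨fun _ _ w v => sqd (w + v) (4), 10⟩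

/-- The direction (1, 0, -1, 1). -/
def dir4_14 : Dir4 :=
  ⟨fun x _ w v => sqd (x + v + 2) (w + 4), 18⟩

/-- The direction (1, 1, 1, 1). -/
def dir4_15 : Dir4 :=
  ⟨fun x y w v => sqd (x + y + w + v) (8), 28⟩

/-- The direction (0, 1, 0, 1). -/
def dir4_16 : Dir4 :=
  ⟨fun _ y _ v => sqd (y + v) (4), 7⟩

/-- The direction (1, -1, 1, 1). -/
def dir4_17 : Dir4 :=
  ⟨fun x y w v => sqd (x + w + v + 2) (y + 6), 32⟩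

/-- The direction (1, 0, 1, -1). -/
def dir4_18 : Dir4 :=
  ⟨fun x _ w v => sqd (x + w + 2) (v + 4), 18⟩

/-- The direction (1, 1, 0, 1). -/
def dir4_19 : Dir4 :=
  ⟨fun x y _ v => sqd (x + y + v) (6), 19⟩

/-- The direction (1, -1, -1, 1). -/
def dir4_20 : Dir4 :=
  ⟨fun x y w v => sqd (x + v + 4) (y + w + 4), 24⟩

/-- The directions tested on 4 functions. -/
def dirs4 : List Dir4 :=
  [dir4_0, dir4_1, dir4_2, dir4_3, dir4_4, dir4_5, dir4_6, dir4_7, dir4_8, dir4_9, dir4_10, dir4_11, dir4_12, dir4_13, dir4_14, dir4_15, dir4_16, dir4_17, dir4_18, dir4_19, dir4_20]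

/-- The possible columns of function 0. -/
def opts0 : List Col :=
  [⟨0, 1, 3, 3, 3⟩,
    ⟨0, 2, 2, 2, 4⟩,
    ⟨0, 2, 2, 3, 3⟩,
    ⟨0, 2, 2, 4, 2⟩,
    ⟨0, 3, 1, 3, 3⟩,
    ⟨1, 0, 3, 2, 3⟩,
    ⟨1, 0, 3, 3, 2⟩,
    ⟨1, 1, 2, 1, 4⟩,
    ⟨1, 1, 2, 2, 3⟩,
    ⟨1, 1, 2, 3, 2⟩,
    ⟨1, 1, 2, 4, 1⟩,
    ⟨1, 2, 1, 1, 4⟩,
    ⟨1, 2, 1, 2, 3⟩,
    ⟨1, 2, 1, 3, 2⟩,
    ⟨1, 2, 1, 4, 1⟩,
    ⟨1, 3, 0, 2, 3⟩,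
    ⟨1, 3, 0, 3, 2⟩,
    ⟨2, 0, 2, 1, 3⟩,
    ⟨2, 0, 2, 2, 2⟩,
    ⟨2, 0, 2, 3, 1⟩,
    ⟨2, 1, 1, 1, 3⟩,
    ⟨2, 1, 1, 2, 2⟩,
    ⟨2, 1, 1, 3, 1⟩,
    ⟨2, 2, 0, 1, 3⟩,
    ⟨2, 2, 0, 2, 2⟩,
    ⟨2, 2, 0, 3, 1⟩,
    ⟨3, 0, 1, 1, 2⟩,
    ⟨3, 0, 1, 2, 1⟩,
    ⟨3, 1, 0, 1, 2⟩,
    ⟨3, 1, 0, 2, 1⟩]

/-- The possible columns of function 1. -/
def opts1 : List Col :=
  [⟨1, 2, 2, 3, 3⟩,
    ⟨2, 1, 2, 2, 3⟩,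
    ⟨2, 1, 2, 3, 2⟩,
    ⟨2, 2, 1, 2, 3⟩,
    ⟨2, 2, 1, 3, 2⟩,
    ⟨3, 1, 1, 2, 2⟩]

/-- The possible columns of function 2. -/
def opts2 : List Col :=
  [⟨1, 2, 3, 1, 3⟩,
    ⟨1, 2, 3, 2, 2⟩,
    ⟨1, 2, 3, 3, 1⟩,
    ⟨1, 3, 2, 1, 3⟩,
    ⟨1, 3, 2, 2, 2⟩,
    ⟨1, 3, 2, 3, 1⟩,
    ⟨2, 1, 3, 1, 2⟩,
    ⟨2, 1, 3, 2, 1⟩,
    ⟨2, 2, 2, 0, 3⟩,
    ⟨2, 2, 2, 1, 2⟩,
    ⟨2, 2, 2, 2, 1⟩,
    ⟨2, 2, 2, 3, 0⟩,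
    ⟨2, 3, 1, 1, 2⟩,
    ⟨2, 3, 1, 2, 1⟩,
    ⟨3, 1, 2, 1, 1⟩,
    ⟨3, 2, 1, 1, 1⟩]

/-- The possible columns of function 3. -/
def opts3 : List Col :=
  [⟨1, 2, 3, 2, 3⟩,
    ⟨1, 2, 3, 3, 2⟩,
    ⟨1, 3, 2, 2, 3⟩,
    ⟨1, 3, 2, 3, 2⟩,
    ⟨2, 1, 3, 1, 3⟩,
    ⟨2, 1, 3, 2, 2⟩,
    ⟨2, 1, 3, 3, 1⟩,
    ⟨2, 2, 2, 1, 3⟩,
    ⟨2, 2, 2, 2, 2⟩,
    ⟨2, 2, 2, 3, 1⟩,
    ⟨2, 3, 1, 1, 3⟩,
    ⟨2, 3, 1, 2, 2⟩,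
    ⟨2, 3, 1, 3, 1⟩,
    ⟨3, 1, 2, 1, 2⟩,
    ⟨3, 1, 2, 2, 1⟩,
    ⟨3, 2, 1, 1, 2⟩,
    ⟨3, 2, 1, 2, 1⟩]

end CfsgLib.JThree
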