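import Cfsg.Agent.Lib.JThree.Search
import Cfsg.Agent.Lib.JThree.Table
import Cfsg.Agent.Lib.JThree.Lookup
import Cfsg.Agent.Lib.JThree.PatternData

/-!
The constituents of the two small exceptional functions fall into the table.

A column lists one multiplicity at the five constituents: the common one, the two others of the first
function and the two others of the second.
-/

set_option autoImplicit false
set_option maxRecDepth 100000

namespace CfsgLib.JThree

/-- The test on two columns. -/
def ok2 (x y : Col) : Bool :=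
  dirs2.all fun v => Nat.ble (v.f x.s y.s + v.f x.a y.a + v.f x.b y.b + v.f x.c y.c + v.f x.d y.d) v.K

/-- The test on three columns. -/
def ok3 (x y w : Col) : Bool :=
  dirs3.all fun v => Nat.ble (v.f x.s y.s w.s + v.f x.a y.a w.a + v.f x.b y.b w.b + v.f x.c y.c w.c +
    v.f x.d y.d w.d) v.K

/-- The test on four columns. -/
def ok4 (x y w u : Col) : Bool :=
  dirs4.all fun v => Nat.ble (v.f x.s y.s w.s u.s + v.f x.a y.a w.a u.a + v.f x.b y.b w.b u.b +
    v.f x.c y.c w.c u.c + v.f x.d y.d w.d u.d) v.K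

/-- The value at the involution. -/
def zVal (m01 m2 m3 m4 m5 m6 : ℤ) : ℤ := -2 * m01 - 11 * m2 - 9 * m3 + 15 * m4 + 5 * m5 + 10 * m6

/-- The value at the elements of order four with central square. -/
def fVal (m01 m2 m3 m4 m5 m6 : ℤ) : ℤ := 2 * m01 + m2 + 3 * m3 + 3 * m4 + m5 - 2 * m6

/-- The value at the elements of order eight. -/
def eVal (m2 m3 m4 m5 : ℤ) : ℤ := -m2 + m3 + m4 - m5

/-- The row of a constituent. -/
def mkRow (m01 m2 m3 m4 m5 m6 : ℤ) : ℕ × ℕ :=
  ((zVal m01 m2 m3 m4 m5 m6).natAbs,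
    ((-(35 * zVal m01 m2 m3 m4 m5 m6 + 44 * fVal m01 m2 m3 m4 m5 m6 + 48 * eVal m2 m3 m4 m5)) % 128).toNat)

/-- The row of the common constituent. -/
def rowS (x y w v : Col) : ℕ × ℕ :=
  mkRow ((x.s : ℤ) - 2) 1 1 ((y.s : ℤ) - 2) ((w.s : ℤ) - 2) ((v.s : ℤ) - 2)

/-- The first further constituent of the first function. -/
def rowA (x y w v : Col) : ℕ × ℕ :=
  mkRow ((x.a : ℤ) - 2) 0 1 ((y.a : ℤ) - 2) ((w.a : ℤ) - 2) ((v.a : ℤ) - 2)

/-- The second further constituent of the first function. -/
def rowB (x y w v : Col) : ℕ × ℕ :=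
  mkRow ((x.b : ℤ) - 2) 0 1 ((y.b : ℤ) - 2) ((w.b : ℤ) - 2) ((v.b : ℤ) - 2)

/-- The first further constituent of the second function. -/
def rowC (x y w v : Col) : ℕ × ℕ :=
  mkRow ((x.c : ℤ) - 2) 1 0 ((y.c : ℤ) - 2) ((w.c : ℤ) - 2) ((v.c : ℤ) - 2)

/-- The second further constituent of the second function. -/
def rowD (x y w v : Col) : ℕ × ℕ :=
  mkRow ((x.d : ℤ) - 2) 1 0 ((y.d : ℤ) - 2) ((w.d : ℤ) - 2) ((v.d : ℤ) - 2)

/-- The code of a triple and of a partner are in the table. -/
def inTable (x y w v : Col) : Bool :=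
  let s := encR (rowS x y w v); let a := encR (rowA x y w v); let b := encR (rowB x y w v)
  let c := encR (rowC x y w v); let d := encR (rowD x y w v)
  let key := (s * 16384 + min a b) * 16384 + max a b
  let p := min c d * 16384 + max c d
  let e := table.getD (findI key) (0, [])
  Nat.beq e.1 key && e.2.any fun q => Nat.beq q p

/-- The whole test, with a given first column. -/
def checkFrom (x : Col) : Bool :=
  opts1.all fun y => !ok2 x y || opts2.all fun w => !ok3 x y w ||
    opts3.all fun v => !ok4 x y w v || inTable x y w v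

end CfsgLib.JThree
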