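import Cfsg.Agent.Lib.HJType.Global
import Cfsg.Agent.Lib.Involutions.BrauerSuzuki
import Cfsg.Agent.Lib.PGroup.Extraspecial

/-!
An involution centraliser of shape extraspecial of order 32 by `A₅` in a simple group has its
extraspecial group self-centralising.
-/

set_option autoImplicit false
set_option linter.unusedSectionVars false

namespace CfsgLib.JThree

open Subgroup CfsgLib.HJType
open scoped commutatorElement

universe u

variable {G : Type u} [Group G] [Finite G]

theorem a5_center : ∀ u : A5, (∀ v : A5, u * v = v * u) → u = 1 := by decide +kernel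

theorem a5_four : ∀ u : A5, u ^ 4 = 1 → u * u = 1 := by decide +kernel

/-- An involution of a simple group with a large centraliser has another conjugate commuting with it. -/
theorem exists_commute [IsSimpleGroup G] (z : G) (hz : orderOf z = 2)
    (hC : 2 < Nat.card (centralizer ({z} : Set G))) :
    ∃ g : G, g * z * g⁻¹ * z = z * (g * z * g⁻¹) ∧ g * z * g⁻¹ ≠ z := by
  by_contra hcon
  push Not at hcon
  have hz1 : z ≠ 1 := (orderOf_eq_two.1 hz).2
  have hiso : Cfsg.IsIsolatedInvolution z := ⟨hz, fun g hg => hcon g hg.eq.symm⟩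
  have h2 := CfsgLib.Involutions.zstar G z hiso
  have hn : (Cfsg.pPrimeCore 2 G).Normal := inferInstance
  rcases IsSimpleGroup.eq_bot_or_eq_top_of_normal _ hn with e | e
  · have hc : z ∈ Subgroup.center G := mem_center_iff.2 fun g => by
      have h := h2 g
      rw [e, mem_bot, mul_inv_eq_one, mul_inv_eq_iff_eq_mul] at h
      exact h
    have hn' : (zpowers z).Normal := ⟨fun x hx g => by
      have hxc : x ∈ Subgroup.center G := zpowers_le.2 hc hx
      rwa [mem_center_iff.1 hxc g, mul_inv_cancel_right]⟩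
    rcases IsSimpleGroup.eq_bot_or_eq_top_of_normal _ hn' with e' | e'
    · exact hz1 (mem_bot.1 (e' ▸ mem_zpowers z))
    · have h1 : Nat.card (centralizer ({z} : Set G)) ≤ Nat.card G := Subgroup.card_le_card_group _
      rw [← Subgroup.card_top (G := G), ← e', Nat.card_zpowers, hz] at h1
      omega
  · have h := CfsgLib.PCore.not_dvd_card_pPrimeCore (p := 2) (G := G)
    rw [e, Subgroup.card_top] at h
    exact h (hz ▸ orderOf_dvd_natCard z)

/-- The extraspecial group is self-centralising. -/
theorem self_cent [IsSimpleGroup G] (t : G) (ht : orderOf t = 2)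
    (E : Subgroup (centralizer ({t} : Set G))) [E.Normal] (hE : Nat.card E = 32)
    (hX : Cfsg.IsExtraspecial 2 E) (e : (centralizer ({t} : Set G)) ⧸ E ≃* A5) :
    centralizer (E : Set (centralizer ({t} : Set G))) ≤ E := by
  have : Fact (Nat.Prime 2) := ⟨Nat.prime_two⟩
  obtain ⟨ht2, ht1⟩ := orderOf_eq_two.1 ht
  let φ : (centralizer ({t} : Set G)) →* A5 := e.toMonoidHom.comp (QuotientGroup.mk' E)
  have hφker : ∀ c, φ c = 1 ↔ c ∈ E := fun c => by
    rw [MonoidHom.comp_apply, MulEquiv.coe_toMonoidHom, e.map_eq_one_iff, QuotientGroup.mk'_apply,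
      QuotientGroup.eq_one_iff]
  have hsurj : Function.Surjective φ := e.surjective.comp (QuotientGroup.mk'_surjective E)
  have htC : t ∈ (centralizer ({t} : Set G)) := mem_centralizer_singleton_iff.2 rfl
  have htz : ∀ c : (centralizer ({t} : Set G)), c * ⟨t, htC⟩ = ⟨t, htC⟩ * c := fun c =>
    Subtype.ext (mem_centralizer_singleton_iff.1 c.2)
  have htE : (⟨t, htC⟩ : (centralizer ({t} : Set G))) ∈ E := (hφker _).1 (a5_center _ fun v => by
    obtain ⟨c, rfl⟩ := hsurj v
    rw [← map_mul, ← map_mul, htz c])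
  have hz0 : (⟨⟨t, htC⟩, htE⟩ : E) ∈ center E := mem_center_iff.2 fun y => Subtype.ext (htz y.1)
  have hcen : ∀ w ∈ center E, ((w : (centralizer ({t} : Set G))) : G) = 1 ∨ ((w : (centralizer ({t} : Set G))) : G) = t := by
    intro w hw
    rw [← CfsgLib.PGroup.extraspecial_zpowers_eq_center hX hz0
      (fun h => ht1 (congrArg (fun w : E => ((w : (centralizer ({t} : Set G))) : G)) h)), ← mem_powers_iff_mem_zpowers] at hw
    obtain ⟨i, rfl⟩ := hw
    show (t ^ i = 1 ∨ t ^ i = t)
    rw [← pow_mod_orderOf, ht]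
    rcases Nat.mod_two_eq_zero_or_one i with h | h <;> simp [h]
  set K := centralizer (E : Set (centralizer ({t} : Set G))) with hK
  have hKn : K.Normal := inferInstance
  have hIn : (K.map φ).Normal := hKn.map φ hsurj
  rcases IsSimpleGroup.eq_bot_or_eq_top_of_normal _ hIn with h0 | h0
  · intro k hk
    exact (hφker k).1 (mem_bot.1 (h0 ▸ mem_map_of_mem φ hk))
  exfalso
  -- every element of the centraliser is a commuting product
  have split : ∀ c : (centralizer ({t} : Set G)), ∃ y ∈ E, ∃ k ∈ K, c = y * k := by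
    intro c
    obtain ⟨k, hk, hk'⟩ := (h0 ▸ mem_top (φ c) : φ c ∈ K.map φ)
    exact ⟨c * k⁻¹, (hφker _).1 (by rw [map_mul, map_inv, hk', mul_inv_cancel]), k, hk, by group⟩
  have hsq : ∀ c : (centralizer ({t} : Set G)), c ^ 4 = 1 → ((c * c : (centralizer ({t} : Set G))) : G) = 1 ∨ ((c * c : (centralizer ({t} : Set G))) : G) = t := by
    intro c hc
    obtain ⟨y, hy, k, hk, rfl⟩ := split c
    have hyk : y * k = k * y := mem_centralizer_iff.1 hk y hy
    have h4 : φ k ^ 4 = 1 := by
      have h := congrArg φ hc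
      rwa [map_pow, map_mul, (hφker y).2 hy, one_mul, map_one] at h
    have hkE : k * k ∈ E := (hφker _).1 (by rw [map_mul]; exact a5_four _ h4)
    have hkc : (⟨k * k, hkE⟩ : E) ∈ center E := mem_center_iff.2 fun w => Subtype.ext
      (mem_centralizer_iff.1 (mul_mem hk hk) w w.2)
    have hyc := CfsgLib.PGroup.extraspecial_pow_mem_center hX (⟨y, hy⟩ : E)
    have he : y * k * (y * k) = y * y * (k * k) := by
      calc y * k * (y * k) = y * (k * y) * k := by group
        _ = y * y * (k * k) := by rw [← hyk]; group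
    have hp : (⟨y, hy⟩ : E) ^ 2 * ⟨k * k, hkE⟩ ∈ center E := mul_mem hyc hkc
    have h := hcen _ hp
    simpa [pow_two, he] using h
  have hC2 : 2 < Nat.card (centralizer ({t} : Set G)) := by
    have h := Subgroup.card_le_card_group E
    omega
  obtain ⟨g, hgc, hgt⟩ := exists_commute t ht hC2
  set x : (centralizer ({t} : Set G)) := ⟨g * t * g⁻¹, mem_centralizer_singleton_iff.2 hgc⟩ with hx
  obtain ⟨y₀, hy₀, k₀, hk₀, hxy⟩ := split x
  let A : Subgroup E := (centralizer ({x} : Set (centralizer ({t} : Set G)))).subgroupOf E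
  have hA : ∀ u : E, u ∈ A ↔ (u : (centralizer ({t} : Set G))) * y₀ = y₀ * u := by
    intro u
    have huk : (u : (centralizer ({t} : Set G))) * k₀ = k₀ * u := mem_centralizer_iff.1 hk₀ u u.2
    rw [mem_subgroupOf, mem_centralizer_singleton_iff, hxy, ← mul_assoc, mul_assoc y₀ k₀ (u : (centralizer ({t} : Set G))), ← huk,
      ← mul_assoc, mul_left_inj]
  have hAsq : ∀ u ∈ A, u * u = 1 := by
    intro u hu
    have hux : (u : (centralizer ({t} : Set G))) * x = x * u := mem_centralizer_singleton_iff.1 (mem_subgroupOf.1 hu)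
    have hu4 : (u : (centralizer ({t} : Set G))) ^ 4 = 1 := by
      have h := congrArg Subtype.val (CfsgLib.PGroup.extraspecial_pow_sq_eq_one hX u)
      simpa using h
    have h1 := hsq _ hu4
    set w := g⁻¹ * ((u : (centralizer ({t} : Set G))) : G) * g with hw
    have hwC : w ∈ (centralizer ({t} : Set G)) := mem_centralizer_singleton_iff.2 (by
      have h := congrArg Subtype.val hux
      simp only [hx, Subgroup.coe_mul] at h
      calc w * t = g⁻¹ * (((u : (centralizer ({t} : Set G))) : G) * (g * t * g⁻¹)) * g := by rw [hw]; group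
        _ = t * w := by rw [h, hw]; group)
    have hw4 : (⟨w, hwC⟩ : (centralizer ({t} : Set G))) ^ 4 = 1 := by
      refine Subtype.ext ?_
      rw [SubgroupClass.coe_pow, OneMemClass.coe_one]
      show w ^ 4 = 1
      rw [hw, show g⁻¹ * ((u : (centralizer ({t} : Set G))) : G) * g = g⁻¹ * ((u : (centralizer ({t} : Set G))) : G) * g⁻¹⁻¹ by group, conj_pow,
        ← SubgroupClass.coe_pow, hu4]
      simp
    have h2 := hsq _ hw4
    simp only [Subgroup.coe_mul] at h1 h2
    refine Subtype.ext (Subtype.ext ?_)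
    show ((u : (centralizer ({t} : Set G))) : G) * ((u : (centralizer ({t} : Set G))) : G) = 1
    rcases h1 with h1 | h1
    · exact h1
    exfalso
    have h3 : g⁻¹ * t * g = w * w := by
      calc g⁻¹ * t * g = g⁻¹ * (((u : (centralizer ({t} : Set G))) : G) * ((u : (centralizer ({t} : Set G))) : G)) * g :=
            congrArg (fun a => g⁻¹ * a * g) h1.symm
        _ = w * w := by rw [hw]; group
    have h3 := h2.imp h3.trans h3.trans
    rcases h3 with h3 | h3
    · exact ht1 (by calc t = g * (g⁻¹ * t * g) * g⁻¹ := by group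
                       _ = 1 := by rw [h3]; group)
    · exact hgt (by calc g * t * g⁻¹ = g * (g⁻¹ * t * g) * g⁻¹ := by rw [h3]
                       _ = t := by group)
  have hAcomm : IsMulCommutative A := isMulCommutative_iff.2 fun a b => Subtype.ext
    (mul_swap (hAsq a a.2) (hAsq b b.2) (hAsq _ (mul_mem a.2 b.2)))
  have h16 : Nat.card E ≤ 2 * Nat.card A := by
    classical
    have hcom : ∀ u : E, (u : (centralizer ({t} : Set G))) * y₀ = y₀ * u ∨ (u : (centralizer ({t} : Set G))) * y₀ = ⟨t, htC⟩ * (y₀ * u) := by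
      intro u
      have h := hcen _ (CfsgLib.PGroup.extraspecial_comm_mem_center hX u ⟨y₀, hy₀⟩)
      simp only [commutatorElement_def, Subgroup.coe_mul, Subgroup.coe_inv] at h
      rcases h with h | h
      · left
        refine Subtype.ext ?_
        calc ((u : (centralizer ({t} : Set G))) : G) * (y₀ : G)
            = ((u : (centralizer ({t} : Set G))) : G) * y₀ * ((u : (centralizer ({t} : Set G))) : G)⁻¹ * (y₀ : G)⁻¹ * ((y₀ : G) * u) := by group
          _ = y₀ * (u : (centralizer ({t} : Set G))) := by rw [h, one_mul]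
      · right
        refine Subtype.ext ?_
        calc ((u : (centralizer ({t} : Set G))) : G) * (y₀ : G)
            = ((u : (centralizer ({t} : Set G))) : G) * y₀ * ((u : (centralizer ({t} : Set G))) : G)⁻¹ * (y₀ : G)⁻¹ * ((y₀ : G) * u) := by group
          _ = t * (y₀ * (u : (centralizer ({t} : Set G)))) := by rw [h]
    by_cases hall : ∀ u : E, u ∈ A
    · rw [(eq_top_iff' A).2 hall, Subgroup.card_top]; omega
    push Not at hall
    obtain ⟨u₁, hu₁⟩ := hall
    have hd : ∀ v : E, v ∉ A → u₁⁻¹ * v ∈ A := by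
      intro v hv
      have a := (hcom u₁).resolve_left fun h => hu₁ ((hA _).2 h)
      have b := (hcom v).resolve_left fun h => hv ((hA _).2 h)
      rw [hA]
      push_cast
      have a' : y₀ * (u₁ : (centralizer ({t} : Set G))) = ⟨t, htC⟩⁻¹ * ((u₁ : (centralizer ({t} : Set G))) * y₀) := by rw [a]; group
      have hti : ∀ c : (centralizer ({t} : Set G)), c * (⟨t, htC⟩ : (centralizer ({t} : Set G)))⁻¹ = (⟨t, htC⟩ : (centralizer ({t} : Set G)))⁻¹ * c := fun c => Commute.inv_right (htz c)
      calc (u₁ : (centralizer ({t} : Set G)))⁻¹ * v * y₀ = (u₁ : (centralizer ({t} : Set G)))⁻¹ * ⟨t, htC⟩ * (y₀ * v) := by rw [mul_assoc, b, mul_assoc]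
        _ = ⟨t, htC⟩ * ((u₁ : (centralizer ({t} : Set G)))⁻¹ * (y₀ * (u₁ : (centralizer ({t} : Set G))))) * ((u₁ : (centralizer ({t} : Set G)))⁻¹ * v) := by
          rw [htz (u₁ : (centralizer ({t} : Set G)))⁻¹]; group
        _ = y₀ * ((u₁ : (centralizer ({t} : Set G)))⁻¹ * v) := by
          rw [a', ← mul_assoc (u₁ : (centralizer ({t} : Set G)))⁻¹, hti, mul_assoc _ (u₁ : (centralizer ({t} : Set G)))⁻¹, ← mul_assoc (u₁ : (centralizer ({t} : Set G)))⁻¹]
          group
    let f : E → Bool × A := fun v =>
      if h : v ∈ A then (false, ⟨v, h⟩) else (true, ⟨u₁⁻¹ * v, hd v h⟩)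
    have hf : Function.Injective f := by
      intro a b h
      simp only [f] at h
      split_ifs at h
      · exact congrArg (fun p => ((p.2 : A) : E)) h
      · simp at h
      · simp at h
      · exact mul_left_cancel (congrArg (fun p => ((p.2 : A) : E)) h)
    have h := Nat.card_le_card_of_injective f hf
    simpa [Nat.card_prod] using h
  have hb := CfsgLib.PGroup.extraspecial_abelian_card hX A hAcomm
  rw [hE] at hb h16
  nlinarith

end CfsgLib.JThree
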