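import Cfsg.Agent.Lib.JThree.Transfer
import Cfsg.Agent.Lib.JThree.ModelSylA
import Cfsg.Agent.Lib.JThree.ModelSylB
import Cfsg.Agent.Lib.JThree.Search

/-!
The congruence for character values from a Sylow 2-subgroup of the centraliser.
-/

set_option autoImplicit false
set_option maxRecDepth 100000
set_option linter.unusedSectionVars false
set_option linter.style.haveILetI false

namespace CfsgLib.JThree

open Model Cfsg CfsgLib.Characters
open CfsgLib.JankoCent (Ct tC)
open scoped ComplexConjugate

namespace Model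

theorem syl_zero : sylL.countP (fun x => Nat.beq x 0) = 1 := by decide +kernel

theorem increasing_lt : ∀ (l : List ℕ) (a : ℕ), increasing (a :: l) = true → ∀ x ∈ l, a < x
  | [], _, _, x, hx => absurd hx (by simp)
  | b :: l, a, h, x, hx => by
    simp only [increasing, Bool.and_eq_true, Nat.blt_eq] at h
    rcases List.mem_cons.1 hx with rfl | hx
    exacts [h.1, h.1.trans (increasing_lt l b h.2 x hx)]

theorem increasing_nodup : ∀ l : List ℕ, increasing l = true → l.Nodup
  | [], _ => List.nodup_nil
  | [a], _ => List.nodup_singleton a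
  | a :: b :: l, h => by
    refine List.nodup_cons.2 ⟨fun ha => lt_irrefl a (increasing_lt _ a h a ha), increasing_nodup _ ?_⟩
    simp only [increasing, Bool.and_eq_true] at h
    exact h.2

theorem sylSet_eq : (Finset.range 1920).filter (fun x => inSyl x = true) = sylL.toFinset := by
  symm
  refine Finset.eq_of_subset_of_card_le ?_ (le_of_eq ?_)
  · intro x hx
    exact Finset.mem_filter.2 ⟨Finset.mem_range.2 (by
      simpa using List.all_eq_true.1 syl_mem.2.1 x (List.mem_toFinset.1 hx)),
      List.all_eq_true.1 syl_mem.1 x (List.mem_toFinset.1 hx)⟩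
  · rw [List.toFinset_card_of_nodup (increasing_nodup _ syl_inc.1), syl_inc.2, ← syl_count,
      List.countP_eq_length_filter, Finset.card_def, Finset.filter_val, Finset.range_val, Multiset.range,
      Multiset.filter_coe, Multiset.coe_card]
    simp

theorem mem_sylL {x : ℕ} (hx : x < 1920) (h : inSyl x = true) : x ∈ sylL :=
  List.mem_toFinset.1 (sylSet_eq ▸ Finset.mem_filter.2 ⟨Finset.mem_range.2 hx, h⟩)

theorem syl_mul {x y : ℕ} (hx : x ∈ sylL) (hy : y ∈ sylL) : inSyl (mulC x y) = true := by
  rw [← List.take_append_drop 64 sylL, List.mem_append] at hx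
  rcases hx with hx | hx
  · exact List.all_eq_true.1 (List.all_eq_true.1 syl_mulA x hx) y hy
  · exact List.all_eq_true.1 (List.all_eq_true.1 syl_mulB x hx) y hy

end Model

namespace Coded

variable {C : Type*} [Group C] [Fintype C] (e : Coded C)

/-- The Sylow 2-subgroup. -/
def sylC : Subgroup C where
  carrier := {x | inSyl (e.code x) = true}
  one_mem' := by show inSyl (e.code 1) = true; rw [e.code_one]; exact syl_mem.2.2.1
  mul_mem' := fun {a b} ha hb => by
    show inSyl (e.code (a * b)) = true
    rw [e.mul]; exact syl_mul (mem_sylL (e.lt a) ha) (mem_sylL (e.lt b) hb)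
  inv_mem' := fun {a} ha => by
    have hpow : ∀ k : ℕ, inSyl (e.code (a ^ k)) = true := by
      intro k
      induction k with
      | zero => rw [pow_zero, e.code_one]; exact syl_mem.2.2.1
      | succ k ih => rw [pow_succ, e.mul]; exact syl_mul (mem_sylL (e.lt _) ih) (mem_sylL (e.lt a) ha)
    show inSyl (e.code a⁻¹) = true
    rw [inv_eq_of_mul_eq_one_right (b := a ^ (orderOf a - 1)) (by
      rw [← pow_succ', Nat.sub_add_cancel (orderOf_pos a), pow_orderOf_eq_one])]
    exact hpow _

theorem sum_sylC {M : Type*} [AddCommMonoid M] (f : ℕ → M) [Fintype e.sylC] :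
    ∑ h : e.sylC, f (e.code h) = (sylL.map f).sum := by
  classical
  rw [← List.sum_toFinset _ (increasing_nodup _ syl_inc.1), ← sylSet_eq, Finset.sum_filter,
    ← e.sum_code, ← Finset.sum_filter]
  refine (Finset.sum_subtype _ (fun x => ?_) fun x => f (e.code x)).symm
  simp [sylC]

end Coded

variable {G : Type*} [Group G] [Fintype G] {t : G} (e : Coded ↥(Ct t))

/-- The sum of a character over a subgroup is a multiple of its order. -/
theorem exists_sum_syl (H : Subgroup G) [Fintype H] (χ : IrrCharacter G) :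
    ∃ k : ℤ, ∑ h : H, conj ((χ : G → ℂ) (h : G)) = (k : ℂ) * (Nat.card H : ℂ) := by
  classical
  have hg : IsGeneralizedCharacter G (indFun H (1 : H → ℂ)) :=
    CfsgLib.CharArtin.isGeneralizedCharacter_indFun _ isGeneralizedCharacter_one
  obtain ⟨k, hk⟩ := (isGeneralizedCharacter_iff.1 hg).2 χ
  rw [CfsgLib.Induction.classInner_indFun _ _
    (isClassFunction_of_isGeneralizedCharacter (isGeneralizedCharacter_irr χ)), classInner] at hk
  simp only [Pi.one_apply, one_mul] at hk
  have hH : (Nat.card H : ℂ) ≠ 0 := Nat.cast_ne_zero.2 Nat.card_pos.ne'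
  refine ⟨k, ?_⟩
  rw [← hk, mul_right_comm, inv_mul_cancel₀ hH, one_mul]

/-- The congruence modulo 128. -/
theorem congruence (he : e.code (tC t) = 1) (ht : orderOf t = 2)
    (hone : ∀ a : G, a * a = 1 → a ≠ 1 → IsConj t a) (χ : IrrCharacter G) {d Z A E : ℤ}
    (hd : (χ : G → ℂ) 1 = d) (hZ : (χ : G → ℂ) t = Z)
    (hA : ∀ x : Ct t, e.cl x = 3 → (χ : G → ℂ) (x : G) = A)
    (hE : ∀ x : Ct t, e.cl x = 10 → (χ : G → ℂ) (x : G) = E) :
    (128 : ℤ) ∣ d + 35 * Z + 44 * A + 48 * E := by
  classical
  letI : Fintype (Ct t) := Fintype.ofFinite _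
  letI : Fintype e.sylC := Fintype.ofFinite _
  letI : Fintype (e.sylC.map (Ct t).subtype) := Fintype.ofFinite _
  obtain ⟨k, hk⟩ := exists_sum_syl (e.sylC.map (Ct t).subtype) χ
  let ι := (e.sylC.equivMapOfInjective (Ct t).subtype (Ct t).subtype_injective)
  rw [← Fintype.sum_equiv ι.toEquiv (fun h : e.sylC => conj ((χ : G → ℂ) ((h : Ct t) : G))) _
    (fun h => by simp [ι])] at hk
  have hcard : Nat.card (e.sylC.map (Ct t).subtype) = 128 := by
    rw [← Nat.card_congr ι.toEquiv, Nat.card_eq_fintype_card, Fintype.card_subtype, ← syl_count,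
      ← e.card_filter_code]
    congr 1
    ext x
    simp [Coded.sylC]
  have hcf := isClassFunction_of_isGeneralizedCharacter (isGeneralizedCharacter_irr χ)
  have hinv : ∀ a : G, a * a = 1 → a ≠ 1 → (χ : G → ℂ) a = Z := fun a h1 h2 => by
    obtain ⟨g, hg⟩ := isConj_iff.1 (hone a h1 h2)
    rw [← hg, hcf t g, hZ]
  let val : ℕ → ℤ := fun n => E + (if Nat.beq n 0 then d - E else 0) + (if isInv n then Z - E else 0) +
    (if isFour n then A - E else 0)
  have hval : ∀ h : e.sylC, conj ((χ : G → ℂ) ((h : Ct t) : G)) = (val (e.code h) : ℂ) := by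
    intro h
    set x := (h : Ct t) with hx
    suffices hh : (χ : G → ℂ) (x : G) = (val (e.code x) : ℂ) by rw [hh, map_intCast]
    have hk4 := List.all_eq_true.1 syl_kind.1 _ (mem_sylL (e.lt x) h.2)
    by_cases h0 : e.code x = 0
    · have hx1 : x = 1 := e.code_eq_zero.1 h0
      have : val 0 = d := by simp [val, show isInv 0 = false from rfl, show isFour 0 = false by decide +kernel]
      rw [h0, this, hx1, Subgroup.coe_one, hd]
    have hb0 : Nat.beq (e.code x) 0 = false := beq_false_iff.2 h0
    by_cases hi : isInv (e.code x) = true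
    · have hf : isFour (e.code x) = false := by
        simp only [isInv, Bool.and_eq_true] at hi
        simp [isFour, hi.2]
      obtain ⟨h1, h2⟩ := (isInv_code e x).1 hi
      rw [hinv _ h1 h2]
      simp [val, hi, hf, hb0, h0]
    rw [Bool.not_eq_true] at hi
    by_cases hf : isFour (e.code x) = true
    · have hf' := hf
      simp only [isFour, Bool.and_eq_true, Bool.not_eq_true', beq_false_iff, Nat.beq_eq, ← e.mul] at hf'
      rw [e.code_eq_zero, Ne, e.code_eq_zero] at hf'
      obtain ⟨g, hg⟩ := isConj_iff.1 (hone ((x : G) * x) (congrArg Subtype.val hf'.2)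
        (fun h1 => hf'.1 (Subtype.ext h1))).symm
      have hgx : g * x * g⁻¹ * (g * x * g⁻¹) = t := (show g * x * g⁻¹ * (g * x * g⁻¹) = g * ((x : G) * x) * g⁻¹ by group).trans hg
      have hgC : g * x * g⁻¹ ∈ Ct t := CfsgLib.JankoCent.mem_Ct.2 ((congrArg (g * x * g⁻¹ * ·) hgx.symm).trans
        ((mul_assoc _ _ _).symm.trans (congrArg (· * (g * x * g⁻¹)) hgx)))
      have h3 : e.cl ⟨g * x * g⁻¹, hgC⟩ = 3 := by
        have hsq : e.code (⟨g * x * g⁻¹, hgC⟩ * ⟨g * x * g⁻¹, hgC⟩) = 1 := by
          rw [← he]; exact congrArg e.code (Subtype.ext hgx)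
        rw [e.mul] at hsq
        have := allBelow_spec sq_one_ok _ (e.lt ⟨g * x * g⁻¹, hgC⟩)
        rw [hsq] at this
        simpa [Coded.cl] using this
      have := hA _ h3
      rw [hcf] at this
      rw [this]
      simp [val, hi, hf, hb0, h0]
    rw [Bool.not_eq_true] at hf
    simp only [hi, hf, hb0, Bool.false_or] at hk4
    rw [hE x (Nat.eq_of_beq_eq_true hk4)]
    simp [val, hi, hf, hb0, h0]
  rw [Finset.sum_congr rfl fun h _ => hval h, e.sum_sylC (fun n => (val n : ℂ)), hcard] at hk
  have key : ∀ l : List ℕ, (l.map val).sum = (l.length : ℤ) * E +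
      (l.countP (fun x => Nat.beq x 0) : ℤ) * (d - E) + (l.countP isInv : ℤ) * (Z - E) +
      (l.countP isFour : ℤ) * (A - E) := by
    intro l
    induction l with
    | nil => simp
    | cons n l ih =>
      rw [List.map_cons, List.sum_cons, ih, List.countP_cons, List.countP_cons, List.countP_cons]
      simp only [val, List.length_cons]
      split_ifs <;> push_cast <;> ring
  have hmap : (sylL.map fun n => (val n : ℂ)).sum = (((sylL.map val).sum : ℤ) : ℂ) := by
    rw [Int.cast_list_sum, List.map_map]; rfl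
  rw [hmap, key, syl_inc.2, syl_zero, syl_kind.2.1, syl_kind.2.2] at hk
  refine ⟨k, ?_⟩
  have h2 : (((128 : ℕ) : ℤ) * E + ((1 : ℕ) : ℤ) * (d - E) + ((35 : ℕ) : ℤ) * (Z - E) +
      ((44 : ℕ) : ℤ) * (A - E)) = k * 128 := by exact_mod_cast hk
  push_cast at h2
  linarith

end CfsgLib.JThree
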