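import Cfsg.Agent.Lib.JThree.Induced
import Cfsg.Agent.Lib.JankoCent.Transfer

/-!
Induction of the exceptional functions from the centraliser, and the counts of factorisations into
two involutions.
-/

set_option autoImplicit false
set_option maxRecDepth 100000
set_option linter.unusedSectionVars false
set_option linter.style.haveILetI false

namespace CfsgLib.JThree

open Model Cfsg CfsgLib.Characters
open CfsgLib.JankoCent (Ct tC mem_Ct sq_t t_ne_one pairs pairs_conj sum_pairs sq_of_isConj conj_t_eq)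
open scoped ComplexConjugate

variable {G : Type*} [Group G] [Fintype G] {t : G} (e : Coded ↥(Ct t))

/-- The induced function. -/
noncomputable def indT (j : ℕ) : G → ℂ := indFun (Ct t) (e.fn j)

theorem coe_eq_t (he : e.code (tC t) = 1) {x : Ct t} {k : ℕ} (h : powC (e.code x) k = 1) :
    (x : G) ^ k = t := by
  have : x ^ k = tC t := e.inj (by rw [e.code_pow, h, he])
  exact congrArg Subtype.val this

/-- Some power of a special element is `t`. -/
theorem special_pow (he : e.code (tC t) = 1) {x : Ct t} (hx : e.cl x ∈ special) :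
    (∃ k ∈ [1, 2, 3, 4, 5, 6], (x : G) ^ k = t) ∧
    ∀ k ∈ [1, 2, 3, 4, 5, 6], (x : G) ^ k ≠ 1 → (x : G) ^ (2 * k) = 1 → (x : G) ^ k = t := by
  have h := allBelow_spec power_ok _ (e.lt x)
  have hs : special.contains (cls (e.code x)) = true := by simpa [Coded.cl] using hx
  simp only [hs, Bool.not_true, Bool.false_or, Bool.and_eq_true, List.any_eq_true] at h
  obtain ⟨⟨⟨⟨⟨⟨h1, h2⟩, h3⟩, h4⟩, h5⟩, h6⟩, k, hk, hk1⟩ := h
  refine ⟨⟨k, hk, coe_eq_t e he (Nat.eq_of_beq_eq_true hk1)⟩, fun k hk hne h2k => ?_⟩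
  have hp : powerTest (e.code x) k = true := by
    simp only [List.mem_cons, List.not_mem_nil, or_false] at hk
    rcases hk with rfl | rfl | rfl | rfl | rfl | rfl <;> assumption
  simp only [powerTest, Bool.or_eq_true] at hp
  rcases hp with (hp | hp) | hp
  · refine absurd ?_ hne
    have := Nat.eq_of_beq_eq_true hp
    rw [← e.code_pow, e.code_eq_zero] at this
    exact congrArg Subtype.val this
  · exfalso
    have : (x ^ (2 * k) : Ct t) = 1 := Subtype.ext h2k
    rw [← e.code_eq_zero, e.code_pow] at this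
    rw [this] at hp
    simp at hp
  · exact coe_eq_t e he (Nat.eq_of_beq_eq_true hp)

/-- The special elements form a trivial intersection set. -/
theorem mem_of_conj (he : e.code (tC t) = 1) (ht : orderOf t = 2) {x y : Ct t}
    (hx : e.cl x ∈ special) (hy : e.cl y ∈ special) {g : G} (h : g * x * g⁻¹ = y) : g ∈ Ct t := by
  obtain ⟨k, hk, hkx⟩ := (special_pow e he hx).1
  have hy1 : (y : G) ^ k = g * t * g⁻¹ := by rw [← h, conj_pow, hkx]
  have hy2 := (special_pow e he hy).2 k hk
    (by rw [hy1]; exact fun h1 => t_ne_one ht (conj_eq_one_iff.1 h1))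
    (by rw [mul_comm, pow_mul, hy1, conj_pow, sq, sq_t ht]; group)
  rw [hy1] at hy2
  exact mem_Ct.2 (mul_inv_eq_iff_eq_mul.1 hy2)

theorem fn_eq_zero {j : ℕ} (hj : j < 6) {x : Ct t} (hx : e.cl x ∉ special) : e.fn j x = 0 := by
  have h := allBelow_spec (allBelow_spec fun_supp j hj) _ (e.cl_lt x)
  have hs : special.contains (e.cl x) = false := by simpa using hx
  simp only [hs, Bool.false_or, decide_eq_true_eq] at h
  simp [Coded.fn, h]

theorem isGeneralized_indT {j : ℕ} (hj : j < 6) : IsGeneralizedCharacter G (indT e j) := by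
  classical
  letI : Fintype (Ct t) := Fintype.ofFinite _
  exact CfsgLib.CharArtin.isGeneralizedCharacter_indFun _ (e.isGeneralized_fn hj)

theorem isClassFunction_indT {j : ℕ} (hj : j < 6) : IsClassFunction G (indT e j) :=
  isClassFunction_of_isGeneralizedCharacter (isGeneralized_indT e hj)

/-- The induced function restricts to the function on special elements. -/
theorem indT_apply (he : e.code (tC t) = 1) (ht : orderOf t = 2) {j : ℕ} (hj : j < 6) {x : Ct t}
    (hx : e.cl x ∈ special) : indT e j (x : G) = e.fn j x := by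
  classical
  rw [indT, CfsgLib.Induction.indFun_apply, e.card_eq]
  have key : ∀ g : G, extendByZero (Ct t) (e.fn j) (g⁻¹ * x * g) =
      if g ∈ Ct t then e.fn j x else 0 := by
    intro g
    by_cases hg : g ∈ Ct t
    · have hm : g⁻¹ * x * g ∈ Ct t := mul_mem (mul_mem (inv_mem hg) x.2) hg
      rw [if_pos hg, CfsgLib.Induction.extendByZero_mem _ _ hm,
        show (⟨g⁻¹ * x * g, hm⟩ : Ct t) = (⟨g, hg⟩ : Ct t)⁻¹ * x * (⟨g, hg⟩ : Ct t)⁻¹⁻¹ from
          Subtype.ext (by simp)]
      exact e.fn_conj j _ x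
    · rw [if_neg hg]
      by_cases hm : g⁻¹ * x * g ∈ Ct t
      · rw [CfsgLib.Induction.extendByZero_mem _ _ hm]
        refine fn_eq_zero e hj fun hy => hg ?_
        exact mem_of_conj e he ht hy hx (show g * (g⁻¹ * x * g) * g⁻¹ = x by group)
      · rw [CfsgLib.Induction.extendByZero_notMem _ _ hm]
  rw [Finset.sum_congr rfl fun g _ => key g, ← Finset.sum_filter, Finset.sum_const, nsmul_eq_mul,
    ← Fintype.card_subtype, ← Nat.card_eq_fintype_card, e.card_eq]
  push_cast
  ring

theorem indT_one {j : ℕ} (hj : j < 6) : indT e j 1 = 0 := by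
  classical
  rw [indT, CfsgLib.Induction.indFun_apply, Finset.sum_eq_zero, mul_zero]
  intro g _
  have h1 : g⁻¹ * 1 * g = 1 := by group
  rw [h1, CfsgLib.Induction.extendByZero_mem _ _ (one_mem _)]
  refine fn_eq_zero e hj ?_
  rw [show (⟨1, one_mem _⟩ : Ct t) = 1 from rfl, e.cl_one]
  decide

/-- Reciprocity. -/
theorem inner_indT (j : ℕ) {f : G → ℂ} (hf : IsClassFunction G f) [Fintype (Ct t)] :
    classInner (indT e j) f = (1920 : ℂ)⁻¹ * ∑ h : Ct t, e.fn j h * conj (f (h : G)) := by
  rw [indT, CfsgLib.Induction.classInner_indFun _ _ hf, classInner, e.card_eq]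
  norm_num

theorem sum_fn [Fintype (Ct t)] (f : ℕ → ℤ) :
    ∑ h : Ct t, ((f (e.cl h) : ℤ) : ℂ) = ((wsum f 16 : ℤ) : ℂ) := by
  rw [← Int.cast_sum, e.sum_wsum f wsum rfl fun _ => rfl]

/-- The Gram matrix. -/
theorem inner_indT_indT (he : e.code (tC t) = 1) (ht : orderOf t = 2) {j l : ℕ} (hj : j < 6)
    (hl : l < 6) : classInner (indT e j) (indT e l) = (((gramL.getD j []).getD l 0 : ℤ) : ℂ) := by
  classical
  letI : Fintype (Ct t) := Fintype.ofFinite _
  rw [inner_indT e j (isClassFunction_indT e hl),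
    Finset.sum_congr rfl (g := fun h => ((funV j (e.cl h) * funV l (e.cl h) : ℤ) : ℂ)) fun h _ => ?_,
    sum_fn e fun i => funV j i * funV l i]
  · have h := allBelow_spec (allBelow_spec gram_ok j hj) l hl
    rw [decide_eq_true_eq] at h
    rw [h]; push_cast; ring
  · by_cases hh : e.cl h ∈ special
    · rw [indT_apply e he ht hl hh]
      simp [Coded.fn]
    · rw [fn_eq_zero e hj hh, zero_mul]
      have := fn_eq_zero e hl hh
      simp only [Coded.fn, Int.cast_eq_zero] at this
      simp [this]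

theorem inner_indT_one {j : ℕ} (hj : j < 6) :
    classInner (indT e j) (fun _ => (1 : ℂ)) = ((trivV j : ℤ) : ℂ) := by
  classical
  letI : Fintype (Ct t) := Fintype.ofFinite _
  rw [inner_indT e j (fun _ _ => rfl)]
  simp only [map_one, mul_one, Coded.fn]
  rw [sum_fn e (funV j)]
  have h := allBelow_spec triv_ok j hj
  rw [decide_eq_true_eq] at h
  rw [h]; push_cast; ring

/-- The inner products recover the value at a class. -/
theorem value_eq {f : G → ℂ} (hf : IsClassFunction G f) {c : ℕ} (hc : c ∈ [1, 3, 10]) {x : Ct t}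
    (hx : e.cl x = c) :
    conj (f (x : G)) =
      ∑ j ∈ Finset.range 6, (((weight c).getD j 0 : ℤ) : ℂ) * classInner (indT e j) f := by
  classical
  letI : Fintype (Ct t) := Fintype.ofFinite _
  have hc16 : c < 16 := by
    simp only [List.mem_cons, List.not_mem_nil, or_false] at hc
    omega
  have hsz : (sz c : ℂ) ≠ 0 := by
    have h := allBelow_spec sz_ok c hc16
    simp only [Bool.and_eq_true, Nat.blt_eq] at h
    exact Nat.cast_ne_zero.2 h.2.ne'
  have hw : ∀ h : Ct t, (sz c : ℂ) * ∑ j ∈ Finset.range 6, (((weight c).getD j 0 : ℤ) : ℂ) * e.fn j h =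
      if e.cl h = c then 1920 else 0 := by
    intro h
    have h1 := allBelow_spec (List.all_eq_true.1 weight_ok c hc) _ (e.cl_lt h)
    rw [decide_eq_true_eq] at h1
    have h2 := congrArg (Int.cast : ℤ → ℂ) h1
    simp only [wcomb, Nat.beq_eq] at h2
    simp only [Finset.sum_range_succ, Finset.sum_range_zero, zero_add, Coded.fn]
    push_cast at h2
    rw [h2]
  refine mul_left_cancel₀ hsz ?_
  have hcl : ∀ h : Ct t, e.cl h = c → f (h : G) = f (x : G) := fun h hh => by
    obtain ⟨g, hg⟩ := isConj_iff.1 (e.isConj_of_cl (hx.trans hh.symm))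
    rw [← hg]
    exact hf (x : G) (g : G)
  have key : ∑ j ∈ Finset.range 6, (((weight c).getD j 0 : ℤ) : ℂ) * classInner (indT e j) f =
      (1920 : ℂ)⁻¹ * ∑ h : Ct t, (∑ j ∈ Finset.range 6, (((weight c).getD j 0 : ℤ) : ℂ) * e.fn j h) *
        conj (f (h : G)) := by
    rw [Finset.sum_congr rfl fun j _ => by rw [inner_indT e j hf]]
    simp only [Finset.mul_sum, Finset.sum_mul]
    rw [Finset.sum_comm]
    refine Finset.sum_congr rfl fun h _ => Finset.sum_congr rfl fun j _ => by ring
  rw [key, ← mul_assoc, mul_comm (sz c : ℂ) ((1920 : ℂ)⁻¹), mul_assoc ((1920 : ℂ)⁻¹), Finset.mul_sum,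
    Finset.sum_congr rfl (g := fun h : Ct t => if e.cl h = c then 1920 * conj (f (x : G)) else 0)
      fun h _ => by
        rw [← mul_assoc, hw h]
        split_ifs with hh
        · rw [hcl h hh]
        · rw [zero_mul],
    ← Finset.sum_filter, Finset.sum_const, e.card_class hc16, nsmul_eq_mul]
  ring

theorem isInv_code (u : Ct t) : isInv (e.code u) = true ↔ ((u : G) * u = 1 ∧ (u : G) ≠ 1) := by
  simp only [isInv, Bool.and_eq_true, Bool.not_eq_true', beq_false_iff, Nat.beq_eq, ← e.mul]
  rw [e.code_eq_zero, Ne, e.code_eq_zero, Subtype.ext_iff, Subtype.ext_iff, and_comm]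
  rfl

/-- The numbers of factorisations of special elements. -/
theorem pairs_special [DecidableRel (IsConj : G → G → Prop)] (he : e.code (tC t) = 1)
    (ht : orderOf t = 2) (hone : ∀ a : G, a * a = 1 → a ≠ 1 → IsConj t a) {x : Ct t}
    (hx : e.cl x ∈ special) : pairs t (x : G) = cntL.getD (e.cl x) 0 := by
  classical
  letI : Fintype (Ct t) := Fintype.ofFinite _
  obtain ⟨r, hr, hrc⟩ := e.exists_rep (e.cl_lt x)
  obtain ⟨g, hg⟩ := isConj_iff.1 (e.isConj_of_cl hrc)
  rw [← hg, Subgroup.coe_mul, Subgroup.coe_mul, Subgroup.coe_inv, pairs_conj, hg]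
  have h := Nat.eq_of_beq_eq_true (List.all_eq_true.1 count_ok _ hx)
  rw [← h, invCount, ← hr, ← e.card_filter_code, pairs]
  obtain ⟨k, -, hk⟩ := (special_pow e he (by rw [hrc]; exact hx)).1
  have hmem : ∀ a : G, IsConj t a → IsConj t (a * r) → a ∈ Ct t := fun a h1 h2 =>
    conj_t_eq hk ht (sq_of_isConj ht h1).1 (sq_of_isConj ht h2).1
  refine Finset.card_bij (fun a ha => (⟨a, hmem a (Finset.mem_filter.1 ha).2.1 (Finset.mem_filter.1 ha).2.2⟩ : Ct t))
    ?_ (fun a _ b _ h => congrArg Subtype.val h) ?_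
  · intro a ha
    simp only [Finset.mem_filter, Finset.mem_univ, true_and] at ha ⊢
    rw [Bool.and_eq_true, isInv_code, ← e.mul, isInv_code]
    exact ⟨sq_of_isConj ht ha.1, sq_of_isConj ht ha.2⟩
  · intro u hu
    simp only [Finset.mem_filter, Finset.mem_univ, true_and] at hu
    rw [Bool.and_eq_true, isInv_code, ← e.mul, isInv_code] at hu
    exact ⟨u, Finset.mem_filter.2 ⟨Finset.mem_univ _, hone _ hu.1.1 hu.1.2, hone _ hu.2.1 hu.2.2⟩, rfl⟩

/-- The structure constant against an induced function. -/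
theorem sum_products [DecidableRel (IsConj : G → G → Prop)] (he : e.code (tC t) = 1)
    (ht : orderOf t = 2) (hone : ∀ a : G, a * a = 1 → a ≠ 1 → IsConj t a) {j : ℕ} (hj : j < 6) :
    ∑ a ∈ Finset.univ.filter (IsConj t), ∑ b ∈ Finset.univ.filter (IsConj t), indT e j (a * b) =
      (Nat.card G : ℂ) * (1920 : ℂ)⁻¹ *
        ((wsum (fun i => funV j i * (cntL.getD i 0 : ℕ)) 16 : ℤ) : ℂ) := by
  classical
  letI : Fintype (Ct t) := Fintype.ofFinite _
  have hn : IsClassFunction G fun x => (pairs t x : ℂ) := fun x g => by simp only [pairs_conj]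
  have hg : (Nat.card G : ℂ) ≠ 0 := Nat.cast_ne_zero.2 Nat.card_pos.ne'
  rw [sum_pairs ht, ← sum_fn e, mul_assoc,
    show (1920 : ℂ)⁻¹ * ∑ h : Ct t, (((funV j (e.cl h) * (cntL.getD (e.cl h) 0 : ℕ)) : ℤ) : ℂ) =
      (Nat.card (Ct t) : ℂ)⁻¹ * ∑ h : Ct t, e.fn j h * (pairs t (h : G) : ℂ) from ?_,
    ← CfsgLib.Induction.sum_indFun_mul (Ct t) (e.fn j) (f := fun x => (pairs t x : ℂ)) hn]
  · rw [← mul_assoc, mul_inv_cancel₀ hg, one_mul]; rfl
  · rw [e.card_eq]
    norm_num
    refine Finset.sum_congr rfl fun h _ => ?_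
    by_cases hh : e.cl h ∈ special
    · rw [pairs_special e he ht hone hh]; simp [Coded.fn]
    · rw [fn_eq_zero e hj hh, zero_mul]
      have := fn_eq_zero e hj hh
      simp only [Coded.fn, Int.cast_eq_zero] at this
      simp [this]

end CfsgLib.JThree
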